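import Mathlib
import Groth.Prelude
import Groth.Agent.Lib.Helper8.ABS19
import Groth.Agent.Lib.Helper8.ABS9
import Groth.Agent.Lib.Helper8.ABS15

/-!
# Projective dimension over a regular ring from depth at the maximal ideals (helper2)
-/

set_option autoImplicit false
set_option backward.isDefEq.respectTransparency.types false
set_option synthInstance.maxHeartbeats 400000
set_option maxHeartbeats 4000000
set_option linter.style.haveILetI false
set_option linter.unusedSectionVars false

universe u

namespace Groth.Agent.Helper2.CMpd

open CategoryTheory CategoryTheory.Limits LocCoh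

/-- over a regular local ring of dimension `≤ n + c`, a finite module of depth `≥ n` has projective
dimension `≤ c` -/
theorem hasProjectiveDimensionLE_local (A : Type u) [CommRing A] [IsRegularLocalRing A]
    (n c : ℕ) (hA : ringKrullDim A ≤ ((n + c : ℕ) : WithBot ℕ∞))
    (M : Type u) [AddCommGroup M] [Module A M] [Module.Finite A M]
    (hdepth : (n : ℕ∞) ≤ depth A M) :
    HasProjectiveDimensionLE (ModuleCat.of A M) c := by
  rcases subsingleton_or_nontrivial M with hM | hM
  · have hz : IsZero (ModuleCat.of A M) := ModuleCat.isZero_of_subsingleton _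
    have := hz.hasProjectiveDimensionLT_zero
    exact hasProjectiveDimensionLT_of_ge _ 0 (c + 1) (Nat.zero_le _)
  · obtain ⟨d, hd, hlt⟩ := Groth.Agent.Helper8.ABS.exists_hasProjectiveDimensionLT_of_regular
      (A := A) (M := M)
    obtain ⟨e, -, he⟩ := Groth.Agent.Helper8.ABS.exists_projectiveDimension_eq M d hlt
    have hab := Groth.Agent.Helper8.ABS.auslander_buchsbaum A M e he
    have hdA : depth A A = (d : ℕ∞) := by
      have h1 := Groth.Agent.Helper8.ABS.depth_eq_dim_of_regular A
      rw [hd] at h1
      exact WithBot.coe_injective h1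
    have hdn : d ≤ n + c := by
      rw [hd] at hA
      exact_mod_cast hA
    rw [hdA] at hab
    have h2 : ((e + n : ℕ) : ℕ∞) ≤ (d : ℕ∞) := by
      rw [hab]
      push_cast
      exact add_le_add le_rfl hdepth
    have h3 : e + n ≤ d := by exact_mod_cast h2
    have hec : e ≤ c := by omega
    have h4 : HasProjectiveDimensionLT (ModuleCat.of A M) (e + 1) :=
      (projectiveDimension_le_iff _ e).mp he.le
    exact hasProjectiveDimensionLT_of_ge _ (e + 1) (c + 1) (by omega)

/-- **global version**: over a regular ring of dimension `≤ n + c`, a finite module whose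
localizations at the maximal ideals have depth `≥ n` has projective dimension `≤ c` -/
theorem hasProjectiveDimensionLE_of_depth (R : Type u) [CommRing R] [IsRegularRing R]
    (n c : ℕ) (hR : ringKrullDim R ≤ ((n + c : ℕ) : WithBot ℕ∞))
    (M : Type u) [AddCommGroup M] [Module R M] [Module.Finite R M]
    (hdepth : ∀ (p : Ideal R) [p.IsMaximal],
      (n : ℕ∞) ≤ depth (Localization.AtPrime p) (LocalizedModule p.primeCompl M)) :
    HasProjectiveDimensionLE (ModuleCat.of R M) c := by
  rw [ModuleCat.hasProjectiveDimensionLE_iff_forall_maximalSpectrum]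
  intro m
  haveI := m.2
  let S := m.1.primeCompl
  have hdim : ringKrullDim (Localization.AtPrime m.1) ≤ ((n + c : ℕ) : WithBot ℕ∞) := by
    rw [IsLocalization.AtPrime.ringKrullDim_eq_height m.1 (Localization.AtPrime m.1)]
    exact Ideal.height_le_ringKrullDim_of_isPrime.trans hR
  have h1 := hasProjectiveDimensionLE_local (Localization.AtPrime m.1) n c hdim
    (LocalizedModule S M) (hdepth m.1)
  let e : (ModuleCat.of R M).localizedModule S ≅
      ModuleCat.of (Localization.AtPrime m.1) (LocalizedModule S M) :=
    (Shrink.linearEquiv (Localization S) (LocalizedModule S M)).toModuleIso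
  exact hasProjectiveDimensionLT_of_iso e.symm (c + 1)

end Groth.Agent.Helper2.CMpd
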