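import Mathlib
import Groth.Prelude
import Groth.Agent.Lib.Helper2.Dual.CMpd
import Groth.Agent.Lib.Helper2.HomExt.ExtCoh
import Groth.Agent.Lib.Helper2.HomExt.ProjCodim
import Groth.Agent.Lib.Helper4.RadBir3
import Groth.Agent.Lib.Helper8.FinRes4
import Groth.Agent.Lib.Helper8.Depth19
import Groth.Agent.Lib.Helper8.CMF3
import Groth.Agent.Lib.Helper5.QC.RpushBound
import Groth.Agent.Lib.Helper1.AffFin
import Groth.Agent.Lib.Helper1.VA5
import Groth.Agent.Lib.Helper2.HomExt.HomOCoh
import Groth.Agent.Lib.Helper4.SerreFin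

/-!
# Cohen–Macaulay closed subschemes of regular schemes: vanishing of the high local Ext sheaves
(helper2)
-/

set_option autoImplicit false
set_option backward.isDefEq.respectTransparency.types false
set_option synthInstance.maxHeartbeats 400000
set_option maxHeartbeats 4000000
set_option linter.style.haveILetI false
set_option linter.unusedSectionVars false

universe u

namespace Groth.Agent.Helper2.CMExtVanish

open CategoryTheory CategoryTheory.Limits AlgebraicGeometry LocCoh
open Groth.Agent.Lib.Helper4.RadBir3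

section Points

variable {X : Scheme.{u}}

/-- maximal ideals of affine opens of a Jacobson scheme are closed points -/
theorem isClosed_fromSpec_of_isMaximal [JacobsonSpace X] {W : X.Opens} (hW : IsAffineOpen W)
    (q : Ideal Γ(X, W)) [hq : q.IsMaximal] :
    IsClosed ({hW.fromSpec ⟨q, hq.isPrime⟩} : Set X) := by
  apply isClosed_singleton_of_isLocallyClosed_singleton
  have h1 : IsClosed ({(⟨q, hq.isPrime⟩ : PrimeSpectrum Γ(X, W))} : Set (PrimeSpectrum Γ(X, W))) :=
    (PrimeSpectrum.isClosed_singleton_iff_isMaximal _).2 hq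
  have h2 := h1.isLocallyClosed.image hW.fromSpec.isOpenEmbedding.isInducing
    hW.fromSpec.isOpenEmbedding.isOpen_range.isLocallyClosed
  rwa [Set.image_singleton] at h2

/-- the localizations of the coordinate rings of affine opens at maximal ideals -/
theorem cm_localization_of_isMaximal [JacobsonSpace X] (n : ℕ)
    (hCM : ∀ x : X, IsClosed ({x} : Set X) →
      IsCohenMacaulayLocalRing (X.presheaf.stalk x) ∧ ringKrullDim (X.presheaf.stalk x) = n)
    {W : X.Opens} (hW : IsAffineOpen W) (q : Ideal Γ(X, W)) [hq : q.IsMaximal] :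
    IsCohenMacaulayLocalRing (Localization.AtPrime q) ∧
      ringKrullDim (Localization.AtPrime q) = n := by
  let z : PrimeSpectrum Γ(X, W) := ⟨q, hq.isPrime⟩
  have hx : hW.fromSpec z ∈ W := fromSpec_mem hW z
  obtain ⟨h1, h2⟩ := hCM _ (isClosed_fromSpec_of_isMaximal hW q)
  letI := X.presheaf.algebra_section_stalk (U := W) ⟨hW.fromSpec z, hx⟩
  have hloc := hW.isLocalization_stalk ⟨hW.fromSpec z, hx⟩
  rw [primeIdealOf_fromSpec hW z] at hloc
  haveI : IsLocalization.AtPrime (X.presheaf.stalk (hW.fromSpec z)) q := hloc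
  let e : X.presheaf.stalk (hW.fromSpec z) ≃+* Localization.AtPrime q :=
    (IsLocalization.algEquiv q.primeCompl (X.presheaf.stalk (hW.fromSpec z))
      (Localization.AtPrime q)).toRingEquiv
  refine ⟨Groth.Agent.Helper8.CMF.isCohenMacaulayLocalRing_of_ringEquiv e h1, ?_⟩
  rw [← ringKrullDim_eq_of_ringEquiv e]
  exact h2

end Points

section Alg

open Groth.Agent.Helper8.FinRes Groth.Agent.Helper8.Depth

/-- depth of a finite algebra over the base, when the algebra is Cohen–Macaulay of dimension `n`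
at all its maximal ideals -/
theorem le_depth_localizedModule (R B : Type u) [CommRing R] [CommRing B] [IsNoetherianRing R]
    [IsNoetherianRing B] [Algebra R B] [Module.Finite R B] (n : ℕ)
    (hB : ∀ (Q : Ideal B) [Q.IsMaximal], IsCohenMacaulayLocalRing (Localization.AtPrime Q) ∧
      ringKrullDim (Localization.AtPrime Q) = n) (p : Ideal R) [hp : p.IsMaximal] :
    (n : ℕ∞) ≤ depth (Localization.AtPrime p) (LocalizedModule p.primeCompl B) := by
  rw [(supportDim_depth_restrictScalars_finite R B B p).2]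
  refine le_iInf₂ fun Q hQ => ?_
  have hQp : Q.asIdeal.comap (algebraMap R B) = p := hQ.1
  haveI : Algebra.IsIntegral R B := Algebra.IsIntegral.of_finite R B
  haveI hQm : Q.asIdeal.IsMaximal :=
    Ideal.isMaximal_of_isIntegral_of_isMaximal_comap (R := R) Q.asIdeal (by rw [hQp]; exact hp)
  obtain ⟨h1, h2⟩ := hB Q.asIdeal
  rw [depth_localizedModule_self]
  have h3 := h1.supportDim_eq_depth
  rw [Module.supportDim_self_eq_ringKrullDim, h2] at h3
  have h4 : ((n : ℕ∞) : WithBot ℕ∞) = ((depth (Localization.AtPrime Q.asIdeal)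
      (Localization.AtPrime Q.asIdeal) : ℕ∞) : WithBot ℕ∞) := h3
  exact (WithBot.coe_injective h4).le

end Alg

section Chart

open Groth.Agent.Helper2.HomExt

variable {P X : Scheme.{u}} (ι : X ⟶ P) [IsClosedImmersion ι]
variable {R : CommRingCat.{u}} (j : Spec R ⟶ P) [IsOpenImmersion j]

/-- the coordinate ring of the chart as an algebra over the chart of the ambient scheme -/
noncomputable def ρ : R →+* Γ(X, ι ⁻¹ᵁ (j ''ᵁ ⊤)) :=
  ((Scheme.ΓSpecIso R).inv ≫ (j.appIso ⊤).inv ≫ ι.app (j ''ᵁ ⊤)).hom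

/-- the direct image of the structure sheaf -/
noncomputable abbrev FF : P.Modules := (Scheme.Modules.pushforward ι).obj (Coh.structureModule X)

/-- the sections of the direct image of the structure sheaf over a chart -/
noncomputable def ψ :
    letI : Algebra R Γ(X, ι ⁻¹ᵁ (j ''ᵁ ⊤)) := (ρ ι j).toAlgebra
    Γ((FF ι).restrict j, (⊤ : (Spec R).Opens)) ≃ₗ[R] Γ(X, ι ⁻¹ᵁ (j ''ᵁ ⊤)) :=
  letI : Algebra R Γ(X, ι ⁻¹ᵁ (j ''ᵁ ⊤)) := (ρ ι j).toAlgebra
  { toFun := fun m => m
    invFun := fun m => m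
    left_inv := fun _ => rfl
    right_inv := fun _ => rfl
    map_add' := fun _ _ => rfl
    map_smul' := fun r m => by
      rw [smul_top_def]
      rfl }

theorem subsingleton_ext_chart [JacobsonSpace X] [IsLocallyNoetherian P] (n c : ℕ)
    (hCM : ∀ x : X, IsClosed ({x} : Set X) →
      IsCohenMacaulayLocalRing (X.presheaf.stalk x) ∧ ringKrullDim (X.presheaf.stalk x) = n)
    [IsRegularRing R] (hR : ringKrullDim R ≤ ((n + c : ℕ) : WithBot ℕ∞))
    (L : ModuleCat.{u} R) (q : ℕ) (hq : c < q) :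
    Subsingleton (Abelian.Ext
      (ModuleCat.of R Γ((FF ι).restrict j, (⊤ : (Spec R).Opens))) L q) := by
  haveI : IsLocallyNoetherian X := LocallyOfFiniteType.isLocallyNoetherian ι
  letI : Algebra R Γ(X, ι ⁻¹ᵁ (j ''ᵁ ⊤)) := (ρ ι j).toAlgebra
  have hV : IsAffineOpen (j ''ᵁ ⊤) := (isAffineOpen_top (Spec R)).image_of_isOpenImmersion j
  have hW : IsAffineOpen (ι ⁻¹ᵁ (j ''ᵁ ⊤)) := hV.preimage ι
  have hF : Coh.IsCoh (FF ι) := ChangeRings.isCoh_push_unit ι
  haveI : Module.Finite R Γ((FF ι).restrict j, (⊤ : (Spec R).Opens)) :=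
    Groth.Agent.Helper1.AffFin.finite_restrict (FF ι) hF.1 hF.2 j
  haveI : Module.Finite R Γ(X, ι ⁻¹ᵁ (j ''ᵁ ⊤)) := Module.Finite.equiv (ψ ι j)
  haveI : IsNoetherianRing Γ(X, ι ⁻¹ᵁ (j ''ᵁ ⊤)) :=
    IsLocallyNoetherian.component_noetherian ⟨_, hW⟩
  have hd := CMpd.hasProjectiveDimensionLE_of_depth R n c hR Γ(X, ι ⁻¹ᵁ (j ''ᵁ ⊤))
    (fun p _ => le_depth_localizedModule R Γ(X, ι ⁻¹ᵁ (j ''ᵁ ⊤)) n
      (fun Q _ => cm_localization_of_isMaximal n hCM hW Q) p)
  have hd' : HasProjectiveDimensionLE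
      (ModuleCat.of R Γ((FF ι).restrict j, (⊤ : (Spec R).Opens))) c :=
    hasProjectiveDimensionLT_of_iso (ψ ι j).toModuleIso.symm (c + 1)
  exact HasProjectiveDimensionLT.subsingleton _ (c + 1) q (by omega) L

theorem isZero_restrict_extSh [JacobsonSpace X] [IsLocallyNoetherian P] (n c : ℕ)
    (hCM : ∀ x : X, IsClosed ({x} : Set X) →
      IsCohenMacaulayLocalRing (X.presheaf.stalk x) ∧ ringKrullDim (X.presheaf.stalk x) = n)
    [IsRegularRing R] (hR : ringKrullDim R ≤ ((n + c : ℕ) : WithBot ℕ∞))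
    (G : P.Modules) [G.IsQuasicoherent]
    [ModSite.HasSheafHom (O := P.sheaf) (FF ι)] [HasInjectiveResolutions (ModSite.Mod P.sheaf)]
    (q : ℕ) (hq : c < q) :
    IsZero ((Scheme.Modules.restrictFunctor j).obj
      ((ModSite.extSh (O := P.sheaf) (FF ι) q).obj G)) := by
  haveI : IsNoetherianRing R := inferInstance
  obtain ⟨e⟩ := nonempty_restrict_extSh_iso_tilde (FF ι) G (ChangeRings.isCoh_push_unit ι) j q
  haveI := subsingleton_ext_chart ι j n c hCM hR
    (ModuleCat.of R Γ(G.restrict j, (⊤ : (Spec R).Opens))) q hq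
  refine IsZero.of_iso ?_ e
  exact Functor.map_isZero (tilde.functor R) (ModuleCat.isZero_of_subsingleton _)

end Chart

section Cover

variable {X : Scheme.{u}}

/-- vanishing of a module can be tested on an affine cover -/
theorem isZero_of_restrict_fromSpec_cover (M : X.Modules) {ι : Type*} (V : ι → X.Opens)
    (hV : ∀ i, IsAffineOpen (V i)) (hcov : ⨆ i, V i = ⊤)
    (h : ∀ i, IsZero ((Scheme.Modules.restrictFunctor (hV i).fromSpec).obj M)) :
    IsZero M := by
  apply Groth.Agent.Lib.Helper5.QC.isZero_of_cover M V hcov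
  intro i
  haveI : IsAffine (V i : Scheme.{u}) := hV i
  let φ := (hV i).isoSpec
  let e : Scheme.Modules.restrictFunctor φ.inv ⋙ Scheme.Modules.restrictFunctor φ.hom ≅
      𝟭 (V i : Scheme.{u}).Modules :=
    (Scheme.Modules.restrictFunctorComp φ.hom φ.inv).symm ≪≫
      Scheme.Modules.restrictFunctorCongr φ.hom_inv_id ≪≫ Scheme.Modules.restrictFunctorId
  have e1 : (Scheme.Modules.restrictFunctor (hV i).fromSpec).obj M ≅
      (Scheme.Modules.restrictFunctor φ.inv).obj (M.restrict (V i).ι) :=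
    (Scheme.Modules.restrictFunctorComp φ.inv (V i).ι).app M
  have h1 : IsZero ((Scheme.Modules.restrictFunctor φ.inv).obj (M.restrict (V i).ι)) :=
    IsZero.of_iso (h i) e1.symm
  exact IsZero.of_iso (Functor.map_isZero (Scheme.Modules.restrictFunctor φ.hom) h1)
    (e.app (M.restrict (V i).ι)).symm

end Cover

section Proj

open Groth.Agent.Helper2.HomExt

variable (k : Type u) [Field k] (N : ℕ) {X : Scheme.{u}} (ι : X ⟶ CohB1.ProjSpace N k)
  [IsClosedImmersion ι]

include k N ι in
theorem jacobsonSpace_of_closedImmersion : JacobsonSpace X := by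
  haveI : LocallyOfFiniteType (ι ≫ CohB1.ProjSpace.toSpec N k) := inferInstance
  exact LocallyOfFiniteType.jacobsonSpace (ι ≫ CohB1.ProjSpace.toSpec N k)

theorem ringKrullDim_chart (i : Fin (N + 1)) :
    ringKrullDim Γ(CohB1.ProjSpace N k, ProjCodim.V k N i) = N := by
  obtain ⟨e⟩ := ProjCodim.nonempty_chartEquiv k N i
  rw [← ringKrullDim_eq_of_ringEquiv e, MvPolynomial.ringKrullDim_of_isNoetherianRing,
    ringKrullDim_eq_zero_of_field, zero_add, Nat.card_fin]

theorem isRegularRing_chart (i : Fin (N + 1)) :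
    IsRegularRing Γ(CohB1.ProjSpace N k, ProjCodim.V k N i) := by
  obtain ⟨e⟩ := ProjCodim.nonempty_chartEquiv k N i
  exact IsRegularRing.of_ringEquiv e

/-- **Cohen–Macaulay subschemes of dimension `n` of `P^N`: the local Ext sheaves of the structure
sheaf vanish above `N - n`.** -/
theorem isZero_extSh_of_CM (n c : ℕ) (hNc : N ≤ n + c)
    (hCM : ∀ x : X, IsClosed ({x} : Set X) →
      IsCohenMacaulayLocalRing (X.presheaf.stalk x) ∧ ringKrullDim (X.presheaf.stalk x) = n)
    (G : (CohB1.ProjSpace N k).Modules) [G.IsQuasicoherent]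
    [ModSite.HasSheafHom (O := (CohB1.ProjSpace N k).sheaf) (FF ι)]
    [HasInjectiveResolutions (ModSite.Mod (CohB1.ProjSpace N k).sheaf)] (q : ℕ) (hq : c < q) :
    IsZero ((ModSite.extSh (O := (CohB1.ProjSpace N k).sheaf) (FF ι) q).obj G) := by
  haveI : IsLocallyNoetherian (CohB1.ProjSpace N k) := Groth.Agent.Lib.Helper4.SerreFin.instLN N k
  haveI : JacobsonSpace X := jacobsonSpace_of_closedImmersion k N ι
  apply isZero_of_restrict_fromSpec_cover _ (ProjCodim.V k N) (ProjCodim.isAffineOpen_V k N)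
    (ProjCodim.iSup_V k N)
  intro i
  haveI := isRegularRing_chart k N i
  have hR : ringKrullDim Γ(CohB1.ProjSpace N k, ProjCodim.V k N i) ≤
      ((n + c : ℕ) : WithBot ℕ∞) := by
    rw [ringKrullDim_chart]
    exact_mod_cast hNc
  exact isZero_restrict_extSh ι (ProjCodim.isAffineOpen_V k N i).fromSpec n c hCM hR G q hq

end Proj

end Groth.Agent.Helper2.CMExtVanish
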