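import Mathlib
import Groth.Prelude
import Groth.Agent.Lib.Helper8.Depth18
import Groth.Agent.Lib.Helper8.Depth26
import Groth.Agent.Lib.Helper8.Depth5
import Groth.Agent.S5162

/-!
# Depth along the support of a finite module versus vanishing of `Ext` (helper2)
-/

set_option autoImplicit false
set_option backward.isDefEq.respectTransparency.types false
set_option synthInstance.maxHeartbeats 400000
set_option maxHeartbeats 4000000
set_option linter.style.haveILetI false
set_option linter.unusedSectionVars false

universe u

namespace Groth.Agent.Helper2.DepthSupp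

open CategoryTheory CategoryTheory.Limits CategoryTheory.Abelian LocCoh

variable (A : Type u) [CommRing A] [IsNoetherianRing A]
  (M : Type u) [AddCommGroup M] [Module A M] [Module.Finite A M]
  (K : Type u) [AddCommGroup K] [Module A K] [Module.Finite A K] (n : ℕ)

/-- `Ext^i(K, M) = 0` for `i < n` iff `depth M_p ≥ n` at all points `p` of the support of `K` -/
theorem ext_vanishing_iff_depth_support :
    (∀ i : ℕ, i < n → Subsingleton (Ext (ModuleCat.of A K) (ModuleCat.of A M) i)) ↔
    ∀ p : PrimeSpectrum A, p ∈ Module.support A K →
      (n : ℕ∞) ≤ depth (Localization.AtPrime p.asIdeal)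
        (LocalizedModule p.asIdeal.primeCompl M) := by
  set J : Ideal A := Module.annihilator A K with hJ
  have hsupp : Module.support A K = PrimeSpectrum.zeroLocus (J : Set A) :=
    Module.support_eq_zeroLocus
  have hS := Groth.Agent.S5162.result A J M n
  have hquot : Module.support A (A ⧸ J) = PrimeSpectrum.zeroLocus (J : Set A) :=
    Groth.Agent.Helper8.Depth.support_quotient_ideal J
  -- both sides are equivalent to `n ≤ depth_J M`
  have h1 : (∀ i : ℕ, i < n → Subsingleton (Ext (ModuleCat.of A K) (ModuleCat.of A M) i)) ↔
      (n : ℕ∞) ≤ idealDepth J M := by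
    rw [Groth.Agent.Helper8.Depth.le_idealDepth_iff_ext' (I := J) (M := M) n]
    constructor
    · intro h
      have hH := hS.2.mpr ⟨K, inferInstance, inferInstance, inferInstance, hsupp, h⟩
      exact hS.1.mp hH (A ⧸ J) inferInstance hquot.subset
    · intro h
      have hH := hS.2.mpr ⟨A ⧸ J, inferInstance, inferInstance, inferInstance, hquot, h⟩
      exact hS.1.mp hH K inferInstance hsupp.subset
  rw [h1, Groth.Agent.Helper8.Depth.idealDepth_eq_iInf_depth_localization J M]
  constructor
  · intro h p hp
    rw [hsupp] at hp
    exact h.trans (iInf₂_le p ((PrimeSpectrum.mem_zeroLocus _ _).mp hp))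
  · intro h
    refine le_iInf₂ fun p hp => h p ?_
    rw [hsupp]
    exact (PrimeSpectrum.mem_zeroLocus _ _).mpr hp

end Groth.Agent.Helper2.DepthSupp
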