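import Mathlib
import Groth.Prelude
import Groth.Agent.Lib.Helper2.Dual.DepthSupp
import Groth.Agent.Lib.Helper2.Dual.CMExtVanish
import Groth.Agent.Lib.Helper2.HomExt.ExtCoh
import Groth.Agent.Lib.Helper4.CohHartogs1
import Groth.Agent.Lib.Helper4.RadBir3
import Groth.Agent.Lib.Lead.SD1
import Groth.Agent.Lib.Lead.FLF4
import Groth.Agent.Lib.Helper1.CurveDual2
import Groth.Agent.Lib.Helper1.AffFin

/-!
# Depth of a coherent module along a closed subset versus vanishing of local Ext sheaves (helper2)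
-/

set_option autoImplicit false
set_option backward.isDefEq.respectTransparency.types false
set_option synthInstance.maxHeartbeats 400000
set_option maxHeartbeats 4000000
set_option linter.style.haveILetI false
set_option linter.unusedSectionVars false

universe u

namespace Groth.Agent.Helper2.DepthExtSh

open CategoryTheory CategoryTheory.Limits AlgebraicGeometry LocCoh TopologicalSpace
open Groth.Agent.Helper2.HomExt Groth.Agent.Helper2.CMExtVanish
open Groth.Agent.Lib.Helper4.RadBir3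

variable {X : Scheme.{u}}

attribute [local instance] Groth.Agent.Lead.SD.stalkModule

section Chart

variable (K : X.Modules) (hK : Coh.IsCoh K) {W : X.Opens} (hW : IsAffineOpen W)

include hK in
/-- the support of a coherent module on an affine chart -/
theorem mem_support_iff (x : W) :
    x.1 ∈ CohB1.support K ↔ hW.primeIdealOf x ∈ Module.support Γ(X, W)
      Γ(K.restrict hW.fromSpec, (⊤ : (Spec Γ(X, W)).Opens)) := by
  haveI : K.IsQuasicoherent := hK.1
  haveI := Groth.Agent.Lead.SD.isLocalizedModule_germ K hW x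
  let f := (Groth.Agent.Lead.SD.germₗ K x) ∘ₗ
    (Groth.Agent.Lead.FLF.sectionsLinearEquiv hW K).toLinearMap
  let e := IsLocalizedModule.linearEquiv (hW.primeIdealOf x).asIdeal.primeCompl
    (LocalizedModule.mkLinearMap (hW.primeIdealOf x).asIdeal.primeCompl
      Γ(K.restrict hW.fromSpec, (⊤ : (Spec Γ(X, W)).Opens))) f
  rw [Module.mem_support_iff]
  change ¬ Subsingleton (K.presheaf.stalk x.1) ↔ _
  rw [not_subsingleton_iff_nontrivial]
  exact ⟨fun h => e.toEquiv.nontrivial, fun h => e.symm.toEquiv.nontrivial⟩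

include hK in
/-- the depth of the stalk at a point of an affine chart -/
theorem depth_stalk_eq (x : W) :
    depth (X.presheaf.stalk x.1) (K.presheaf.stalk x.1) =
      depth (Localization.AtPrime (hW.primeIdealOf x).asIdeal)
        (LocalizedModule (hW.primeIdealOf x).asIdeal.primeCompl
          Γ(K.restrict hW.fromSpec, (⊤ : (Spec Γ(X, W)).Opens))) := by
  haveI : K.IsQuasicoherent := hK.1
  haveI := Groth.Agent.Lead.SD.isLocalizedModule_germ K hW x
  exact Groth.Agent.Lib.Helper4.CohHartogs1.depth_stalk_eq_of_isLocalizedModule K hW x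
    ((Groth.Agent.Lead.SD.germₗ K x) ∘ₗ
      (Groth.Agent.Lead.FLF.sectionsLinearEquiv hW K).toLinearMap)

end Chart

variable [IsLocallyNoetherian X]

/-- vanishing of a local Ext sheaf can be tested on the affine opens -/
theorem isZero_extSh_iff_affine (G F : X.Modules) (hG : Coh.IsCoh G) (hF : Coh.IsCoh F) (i : ℕ)
    [ModSite.HasSheafHom (O := X.sheaf) G] [HasInjectiveResolutions (ModSite.Mod X.sheaf)] :
    IsZero ((ModSite.extSh (O := X.sheaf) G i).obj F) ↔
      ∀ (W : X.Opens) (hW : IsAffineOpen W), Subsingleton (Abelian.Ext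
        (ModuleCat.of Γ(X, W) Γ(G.restrict hW.fromSpec, (⊤ : (Spec Γ(X, W)).Opens)))
        (ModuleCat.of Γ(X, W) Γ(F.restrict hW.fromSpec, (⊤ : (Spec Γ(X, W)).Opens))) i) := by
  haveI : F.IsQuasicoherent := hF.1
  constructor
  · intro hz W hW
    haveI : IsNoetherianRing Γ(X, W) := IsLocallyNoetherian.component_noetherian ⟨W, hW⟩
    obtain ⟨e⟩ := nonempty_restrict_extSh_iso_tilde G F hG hW.fromSpec i
    have h1 := IsZero.of_iso
      (Functor.map_isZero (Scheme.Modules.restrictFunctor hW.fromSpec) hz) e.symm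
    have h2 := IsZero.of_full_of_faithful_of_isZero (tilde.functor Γ(X, W)) _ h1
    exact ModuleCat.subsingleton_of_isZero h2
  · intro h
    apply isZero_of_restrict_fromSpec_cover _ (fun W : X.affineOpens => (W : X.Opens))
      (fun W => W.2) (iSup_affineOpens_eq_top X)
    intro W
    haveI : IsNoetherianRing Γ(X, W.1) := IsLocallyNoetherian.component_noetherian W
    obtain ⟨e⟩ := nonempty_restrict_extSh_iso_tilde G F hG W.2.fromSpec i
    haveI := h W.1 W.2
    refine IsZero.of_iso ?_ e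
    exact Functor.map_isZero (tilde.functor _) (ModuleCat.isZero_of_subsingleton _)

/-- from the vanishing of local Ext sheaves to depth along the support -/
theorem depth_of_extSh_vanishing (F : X.Modules) (hF : Coh.IsCoh F) (n : ℕ)
    (G : X.Modules) (hG : Coh.IsCoh G)
    [ModSite.HasSheafHom (O := X.sheaf) G] [HasInjectiveResolutions (ModSite.Mod X.sheaf)]
    (hext : ∀ i : ℕ, i < n → IsZero ((ModSite.extSh (O := X.sheaf) G i).obj F))
    (x : X) (hx : x ∈ CohB1.support G) :
    (n : ℕ∞) ≤ depth (X.presheaf.stalk x) (F.presheaf.stalk x) := by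
  obtain ⟨_, ⟨W, hW, rfl⟩, hxW, -⟩ :=
    X.isBasis_affineOpens.exists_subset_of_mem_open (Set.mem_univ x) isOpen_univ
  haveI : IsNoetherianRing Γ(X, W) := IsLocallyNoetherian.component_noetherian ⟨W, hW⟩
  haveI : Module.Finite Γ(X, W) Γ(G.restrict hW.fromSpec, (⊤ : (Spec Γ(X, W)).Opens)) :=
    Groth.Agent.Helper1.AffFin.finite_restrict G hG.1 hG.2 hW.fromSpec
  haveI : Module.Finite Γ(X, W) Γ(F.restrict hW.fromSpec, (⊤ : (Spec Γ(X, W)).Opens)) :=
    Groth.Agent.Helper1.AffFin.finite_restrict F hF.1 hF.2 hW.fromSpec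
  have h1 := (DepthSupp.ext_vanishing_iff_depth_support Γ(X, W)
    Γ(F.restrict hW.fromSpec, (⊤ : (Spec Γ(X, W)).Opens))
    Γ(G.restrict hW.fromSpec, (⊤ : (Spec Γ(X, W)).Opens)) n).mp
    (fun i hi => (isZero_extSh_iff_affine G F hG hF i).mp (hext i hi) W hW)
    (hW.primeIdealOf ⟨x, hxW⟩) ((mem_support_iff G hG hW ⟨x, hxW⟩).mp hx)
  rw [depth_stalk_eq F hF hW ⟨x, hxW⟩]
  exact h1

/-- from depth along a closed subset to the vanishing of local Ext sheaves -/
theorem extSh_vanishing_of_depth (S : Set X) (F : X.Modules) (hF : Coh.IsCoh F) (n : ℕ)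
    (hdepth : ∀ x : X, x ∈ S → (n : ℕ∞) ≤ depth (X.presheaf.stalk x) (F.presheaf.stalk x))
    (G : X.Modules) (hG : Coh.IsCoh G) (hsupp : ∀ x ∈ CohB1.support G, x ∈ S)
    [ModSite.HasSheafHom (O := X.sheaf) G] [HasInjectiveResolutions (ModSite.Mod X.sheaf)]
    (i : ℕ) (hi : i < n) :
    IsZero ((ModSite.extSh (O := X.sheaf) G i).obj F) := by
  rw [isZero_extSh_iff_affine G F hG hF i]
  intro W hW
  haveI : IsNoetherianRing Γ(X, W) := IsLocallyNoetherian.component_noetherian ⟨W, hW⟩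
  haveI : Module.Finite Γ(X, W) Γ(G.restrict hW.fromSpec, (⊤ : (Spec Γ(X, W)).Opens)) :=
    Groth.Agent.Helper1.AffFin.finite_restrict G hG.1 hG.2 hW.fromSpec
  haveI : Module.Finite Γ(X, W) Γ(F.restrict hW.fromSpec, (⊤ : (Spec Γ(X, W)).Opens)) :=
    Groth.Agent.Helper1.AffFin.finite_restrict F hF.1 hF.2 hW.fromSpec
  refine (DepthSupp.ext_vanishing_iff_depth_support Γ(X, W)
    Γ(F.restrict hW.fromSpec, (⊤ : (Spec Γ(X, W)).Opens))
    Γ(G.restrict hW.fromSpec, (⊤ : (Spec Γ(X, W)).Opens)) n).mpr ?_ i hi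
  intro q hq
  have hxW : hW.fromSpec q ∈ W := fromSpec_mem hW q
  have hq' : hW.primeIdealOf ⟨hW.fromSpec q, hxW⟩ = q := primeIdealOf_fromSpec hW q
  have hxs : hW.fromSpec q ∈ CohB1.support G := by
    rw [mem_support_iff G hG hW ⟨hW.fromSpec q, hxW⟩, hq']
    exact hq
  have h1 := hdepth _ (hsupp _ hxs)
  rw [depth_stalk_eq F hF hW ⟨hW.fromSpec q, hxW⟩] at h1
  have key : ∀ z' : PrimeSpectrum Γ(X, W), z' = q →
      (n : ℕ∞) ≤ depth (Localization.AtPrime z'.asIdeal)
        (LocalizedModule z'.asIdeal.primeCompl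
          Γ(F.restrict hW.fromSpec, (⊤ : (Spec Γ(X, W)).Opens))) →
      (n : ℕ∞) ≤ depth (Localization.AtPrime q.asIdeal)
        (LocalizedModule q.asIdeal.primeCompl
          Γ(F.restrict hW.fromSpec, (⊤ : (Spec Γ(X, W)).Opens))) := by
    rintro _ rfl h0
    exact h0
  exact key _ hq' h1

omit [IsLocallyNoetherian X] in
/-- the structure sheaf of a closed subscheme is supported exactly on it -/
theorem mem_support_quotMod (Z : X.IdealSheafData) (x : X) (hx : x ∈ (Z.support : Set X)) :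
    x ∈ CohB1.support (ClSub.quotMod Z) := by
  intro hsub
  rw [← Scheme.IdealSheafData.range_subschemeι] at hx
  obtain ⟨z, rfl⟩ := hx
  let s : Γ(ClSub.quotMod Z, ⊤) := (1 : Γ(Z.subscheme, Z.subschemeι ⁻¹ᵁ ⊤))
  have hmem : Z.subschemeι z ∈ (⊤ : X.Opens) := trivial
  have h0 : (ClSub.quotMod Z).presheaf.germ ⊤ (Z.subschemeι z) hmem s =
      (ClSub.quotMod Z).presheaf.germ ⊤ (Z.subschemeι z) hmem 0 := Subsingleton.elim _ _
  obtain ⟨V, hzV, i₁, i₂, hV⟩ := TopCat.Presheaf.germ_eq (ClSub.quotMod Z).presheaf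
    (U := ⊤) (V := ⊤) (Z.subschemeι z) hmem hmem s 0 h0
  rw [map_zero] at hV
  have h1 : (1 : Γ(Z.subscheme, Z.subschemeι ⁻¹ᵁ V)) = 0 := by
    have h2 : (ClSub.quotMod Z).presheaf.map i₁.op s =
        (Z.subscheme.presheaf.map (homOfLE (show Z.subschemeι ⁻¹ᵁ V ≤ Z.subschemeι ⁻¹ᵁ ⊤ from
          fun _ _ => trivial)).op).hom (1 : Γ(Z.subscheme, Z.subschemeι ⁻¹ᵁ ⊤)) := rfl
    rw [h2, map_one] at hV
    exact hV
  have hz : z ∈ Z.subschemeι ⁻¹ᵁ V := hzV
  have h3 := congrArg (Z.subscheme.presheaf.germ (Z.subschemeι ⁻¹ᵁ V) z hz).hom h1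
  rw [map_one, map_zero] at h3
  exact one_ne_zero h3

end Groth.Agent.Helper2.DepthExtSh
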