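import Mathlib
import Groth.Prelude
import Groth.Agent.Lib.Helper2.Dual.DepthExtSh
import Groth.Agent.Lib.Helper2.Canon.ExtPowInv
import Groth.Agent.Lib.Helper8.FinRes4
import Groth.Agent.Lib.Helper1.FinPush
import Groth.Agent.Lib.Helper1.InvQc
import Groth.Agent.Lib.Helper1.TensGen
import Groth.Agent.Lib.Lead.TilT5
import Groth.Agent.Lib.Lead.FLF7

/-!
# Transfer of depth of stalks: tensoring with an invertible module, finite direct images (helper2)
-/

set_option autoImplicit false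
set_option backward.isDefEq.respectTransparency.types false
set_option synthInstance.maxHeartbeats 400000
set_option maxHeartbeats 4000000
set_option linter.style.haveILetI false
set_option linter.unusedSectionVars false

universe u

namespace Groth.Agent.Helper2.DepthTransfer

open CategoryTheory CategoryTheory.Limits AlgebraicGeometry LocCoh TopologicalSpace
open Groth.Agent.Helper1.QcCech Groth.Agent.Helper1.LGen Groth.Agent.Helper1.TmulLib
open Groth.Agent.Helper1.TensGen Groth.Agent.Lib.Helper4.RadBir3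
open Groth.Agent.Helper2.CMExtVanish

attribute [local instance] Groth.Agent.Lead.SD.stalkModule

/-- tensoring with an invertible module does not change the depth of the stalks -/
theorem depth_stalk_tensor_invertible {X : Scheme.{u}} (F N : X.Modules) [F.IsQuasicoherent]
    (hN : PicF.IsInvertible N) (x : X) :
    depth (X.presheaf.stalk x) ((CohB1.tensorMod F N).presheaf.stalk x) =
      depth (X.presheaf.stalk x) (F.presheaf.stalk x) := by
  obtain ⟨W₀, σ₀, hxW₀, hσ₀⟩ := exists_isGen hN x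
  obtain ⟨W, hW, hxW, hWW₀⟩ := Groth.Agent.Helper2.ExtPowInv.exists_affine_le hxW₀
  have hσ : IsGen N W (res N hWW₀ σ₀) := hσ₀.res hWW₀
  haveI : N.IsQuasicoherent := Groth.Agent.Helper1.InvQc.isQuasicoherent_of_isInvertible N hN
  haveI : (CohB1.tensorMod F N).IsQuasicoherent :=
    Groth.Agent.Lead.TilT.isQuasicoherent_tensorMod F N
  let T₀ : Γ(F, W) →ₗ[Γ(X, W)] Γ(CohB1.tensorMod F N, W) :=
    { toFun := fun m => tm F N W m (res N hWW₀ σ₀)
      map_add' := fun m m' => tm_add_left F N W m m' _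
      map_smul' := fun r m => tm_smul_left F N W r m _ }
  let T : Γ(F, W) ≃ₗ[Γ(X, W)] Γ(CohB1.tensorMod F N, W) :=
    LinearEquiv.ofBijective T₀ (bijective_tm_of_isGen F hσ)
  haveI := Groth.Agent.Lead.SD.isLocalizedModule_germ F hW ⟨x, hxW⟩
  haveI := Groth.Agent.Lead.SD.isLocalizedModule_germ (CohB1.tensorMod F N) hW ⟨x, hxW⟩
  rw [Groth.Agent.Lib.Helper4.CohHartogs1.depth_stalk_eq_of_isLocalizedModule F hW ⟨x, hxW⟩
      (Groth.Agent.Lead.SD.germₗ F ⟨x, hxW⟩),
    Groth.Agent.Lib.Helper4.CohHartogs1.depth_stalk_eq_of_isLocalizedModule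
      (CohB1.tensorMod F N) hW ⟨x, hxW⟩
      ((Groth.Agent.Lead.SD.germₗ (CohB1.tensorMod F N) ⟨x, hxW⟩) ∘ₗ T.toLinearMap)]

/-- closed points of an affine open of a Jacobson... (no hypothesis needed): a closed point of the
scheme lying in an affine open is a maximal ideal of it -/
theorem isMaximal_primeIdealOf {P : Scheme.{u}} {V : P.Opens} (hV : IsAffineOpen V) (y : P)
    (hyV : y ∈ V) (hy : IsClosed ({y} : Set P)) :
    (hV.primeIdealOf ⟨y, hyV⟩).asIdeal.IsMaximal := by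
  set z := hV.primeIdealOf ⟨y, hyV⟩ with hz
  have hzy : hV.fromSpec z = y := hV.fromSpec_primeIdealOf ⟨y, hyV⟩
  have hcl : IsClosed ({z} : Set (PrimeSpectrum Γ(P, V))) := by
    have h1 : IsClosed (hV.fromSpec ⁻¹' {y}) := hy.preimage hV.fromSpec.continuous
    have h2 : hV.fromSpec ⁻¹' {y} = {z} := by
      ext w
      simp only [Set.mem_preimage, Set.mem_singleton_iff]
      constructor
      · intro hw
        exact hV.fromSpec.isOpenEmbedding.injective (hw.trans hzy.symm)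
      · rintro rfl
        exact hzy
    rwa [h2] at h1
  exact (PrimeSpectrum.isClosed_singleton_iff_isMaximal z).1 hcl

/-- the depth of the stalks of a finite direct image at the closed points -/
theorem le_depth_stalk_pushforward {X P : Scheme.{u}} (i : X ⟶ P) [IsFinite i]
    [IsLocallyNoetherian P] [JacobsonSpace X] (F : X.Modules) (hF : Coh.IsCoh F) (s : ℕ)
    (hdepth : ∀ x : X, IsClosed ({x} : Set X) →
      (s : ℕ∞) ≤ depth (X.presheaf.stalk x) (F.presheaf.stalk x))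
    (y : P) (hy : IsClosed ({y} : Set P)) :
    (s : ℕ∞) ≤ depth (P.presheaf.stalk y)
      (((Scheme.Modules.pushforward i).obj F).presheaf.stalk y) := by
  haveI : IsLocallyNoetherian X := LocallyOfFiniteType.isLocallyNoetherian i
  haveI : F.IsQuasicoherent := hF.1
  obtain ⟨V, hV, hyV, -⟩ := Groth.Agent.Helper2.ExtPowInv.exists_affine_le
    (show y ∈ (⊤ : P.Opens) from trivial)
  have hW : IsAffineOpen (i ⁻¹ᵁ V) := hV.preimage i
  have hG : Coh.IsCoh ((Scheme.Modules.pushforward i).obj F) :=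
    Groth.Agent.Helper1.FinPush.isCoh_pushforward i F hF
  haveI : ((Scheme.Modules.pushforward i).obj F).IsQuasicoherent := hG.1
  haveI := Groth.Agent.Lead.SD.isLocalizedModule_germ ((Scheme.Modules.pushforward i).obj F) hV
    ⟨y, hyV⟩
  rw [Groth.Agent.Lib.Helper4.CohHartogs1.depth_stalk_eq_of_isLocalizedModule
      ((Scheme.Modules.pushforward i).obj F) hV ⟨y, hyV⟩
      (Groth.Agent.Lead.SD.germₗ ((Scheme.Modules.pushforward i).obj F) ⟨y, hyV⟩)]
  haveI h𝔭 : (hV.primeIdealOf ⟨y, hyV⟩).asIdeal.IsMaximal := isMaximal_primeIdealOf hV y hyV hy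
  haveI : IsNoetherianRing Γ(P, V) := IsLocallyNoetherian.component_noetherian ⟨V, hV⟩
  haveI : IsNoetherianRing Γ(X, i ⁻¹ᵁ V) := IsLocallyNoetherian.component_noetherian ⟨_, hW⟩
  letI : Algebra Γ(P, V) Γ(X, i ⁻¹ᵁ V) := (i.app V).hom.toAlgebra
  haveI hfinAB : Module.Finite Γ(P, V) Γ(X, i ⁻¹ᵁ V) := IsFinite.finite_app i V hV
  letI : Module Γ(X, i ⁻¹ᵁ V) Γ((Scheme.Modules.pushforward i).obj F, V) :=
    inferInstanceAs (Module Γ(X, i ⁻¹ᵁ V) Γ(F, i ⁻¹ᵁ V))
  haveI : IsScalarTower Γ(P, V) Γ(X, i ⁻¹ᵁ V) Γ((Scheme.Modules.pushforward i).obj F, V) :=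
    IsScalarTower.of_algebraMap_smul fun a m => rfl
  haveI : Module.Finite Γ(P, V) Γ((Scheme.Modules.pushforward i).obj F, V) :=
    Groth.Agent.Lead.FLF.ft_sections _ hG.2 hV
  rw [(Groth.Agent.Helper8.FinRes.supportDim_depth_restrictScalars_finite Γ(P, V) Γ(X, i ⁻¹ᵁ V)
    Γ((Scheme.Modules.pushforward i).obj F, V) (hV.primeIdealOf ⟨y, hyV⟩).asIdeal).2]
  refine le_iInf₂ fun q hq => ?_
  have hqp : q.asIdeal.comap (algebraMap Γ(P, V) Γ(X, i ⁻¹ᵁ V)) =
      (hV.primeIdealOf ⟨y, hyV⟩).asIdeal := hq.1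
  haveI : Algebra.IsIntegral Γ(P, V) Γ(X, i ⁻¹ᵁ V) := Algebra.IsIntegral.of_finite _ _
  haveI hqm : q.asIdeal.IsMaximal :=
    Ideal.isMaximal_of_isIntegral_of_isMaximal_comap (R := Γ(P, V)) q.asIdeal
      (by rw [hqp]; exact h𝔭)
  have hxW : hW.fromSpec q ∈ i ⁻¹ᵁ V := fromSpec_mem hW q
  have hcl : IsClosed ({hW.fromSpec q} : Set X) := by
    have := isClosed_fromSpec_of_isMaximal hW q.asIdeal
    exact this
  have h1 := hdepth _ hcl
  haveI := Groth.Agent.Lead.SD.isLocalizedModule_germ F hW ⟨hW.fromSpec q, hxW⟩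
  rw [Groth.Agent.Lib.Helper4.CohHartogs1.depth_stalk_eq_of_isLocalizedModule F hW
      ⟨hW.fromSpec q, hxW⟩ (Groth.Agent.Lead.SD.germₗ F ⟨hW.fromSpec q, hxW⟩)] at h1
  have key : ∀ z' : PrimeSpectrum Γ(X, i ⁻¹ᵁ V), z' = q →
      (s : ℕ∞) ≤ depth (Localization.AtPrime z'.asIdeal)
        (LocalizedModule z'.asIdeal.primeCompl Γ(F, i ⁻¹ᵁ V)) →
      (s : ℕ∞) ≤ depth (Localization.AtPrime q.asIdeal)
        (LocalizedModule q.asIdeal.primeCompl Γ(F, i ⁻¹ᵁ V)) := by
    rintro _ rfl h0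
    exact h0
  exact key _ (primeIdealOf_fromSpec hW q) h1

end Groth.Agent.Helper2.DepthTransfer
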