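import Mathlib
import Groth.Prelude
import Groth.Agent.Lib.Helper8.ABS20
import Groth.Agent.Lib.Helper8.FinRes4
import Groth.Agent.Lib.Helper8.Depth19
import Groth.Agent.S14412

/-!
# From the vanishing of `Ext` into the ring to depth, globally over a regular ring (helper2)
-/

set_option autoImplicit false
set_option backward.isDefEq.respectTransparency.types false
set_option synthInstance.maxHeartbeats 400000
set_option maxHeartbeats 4000000
set_option linter.style.haveILetI false
set_option linter.unusedSectionVars false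

universe u

namespace Groth.Agent.Helper2.CMConvAlg

open CategoryTheory CategoryTheory.Limits CategoryTheory.Abelian LocCoh

/-- over a regular local ring of dimension `N`, vanishing of `Ext^q(M, A)` for `N - n < q ≤ N`
gives `depth M ≥ n` -/
theorem le_depth_of_ext_self (A : Type u) [CommRing A] [IsRegularLocalRing A] (N n : ℕ)
    (hN : ringKrullDim A = N) (hnN : n ≤ N) (M : Type u) [AddCommGroup M] [Module A M]
    [Module.Finite A M]
    (h : ∀ q : ℕ, N - n < q → q ≤ N →
      Subsingleton (Ext (ModuleCat.of A M) (ModuleCat.of A A) q)) :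
    (n : ℕ∞) ≤ depth A M := by
  have key := (Groth.Agent.Helper8.ABS.min_le_depth_iff_ext_self_vanishing A N hN M n (N - n)).2
  have hmin : min n (N - (N - n)) = n := by
    rw [Nat.sub_sub_self hnN]; exact min_self n
  rw [hmin] at key
  apply key
  intro q hq hnt
  exfalso
  by_cases hqN : q ≤ N
  · exact not_subsingleton _ (h q hq hqN)
  · have h1 := Groth.Agent.Helper8.ABS.hasProjectiveDimensionLT_of_regular_finite N A hN M
    have := HasProjectiveDimensionLT.subsingleton (ModuleCat.of A M) (N + 1) q (by omega)
      (ModuleCat.of A A)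
    exact not_subsingleton _ this

/-- vanishing of `Ext` passes to localizations -/
theorem subsingleton_ext_localized (R : Type u) [CommRing R] [IsNoetherianRing R]
    (S : Submonoid R) (M N : ModuleCat.{u} R) [Module.Finite R M] [Module.Finite R N] (q : ℕ)
    (h : Subsingleton (Ext M N q)) :
    Subsingleton (Ext ((ModuleCat.localizedModuleFunctor.{u} S).obj M)
      ((ModuleCat.localizedModuleFunctor.{u} S).obj N) q) := by
  refine subsingleton_of_forall_eq 0 fun y => ?_
  obtain ⟨e, s, hs⟩ := (Groth.Agent.S14412.result R S M N q).1 y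
  rw [Subsingleton.elim e 0, map_zero] at hs
  obtain ⟨v, hv⟩ := (IsLocalization.map_units (Localization S) s).exists_left_inv
  calc y = (1 : Localization S) • y := (one_smul _ y).symm
    _ = (v * algebraMap R (Localization S) (s : R)) • y := by rw [hv]
    _ = v • (algebraMap R (Localization S) (s : R) • y) := mul_smul _ _ _
    _ = 0 := by rw [hs, smul_zero]

section Iso

variable {C : Type*} [Category C] [Abelian C] [HasExt.{u} C]

theorem subsingleton_ext_of_iso_left {X X' : C} (e : X ≅ X') (Y : C) (q : ℕ)
    (h : Subsingleton (Ext X Y q)) : Subsingleton (Ext X' Y q) := by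
  refine subsingleton_of_forall_eq 0 fun y => ?_
  have h1 : (Ext.mk₀ e.inv).comp ((Ext.mk₀ e.hom).comp y (zero_add q)) (zero_add q) = y := by
    rw [← Ext.comp_assoc (Ext.mk₀ e.inv) (Ext.mk₀ e.hom) y (zero_add 0) (zero_add q) (by omega),
      Ext.mk₀_comp_mk₀, Iso.inv_hom_id, Ext.mk₀_id_comp]
  rw [← h1, Subsingleton.elim ((Ext.mk₀ e.hom).comp y (zero_add q)) 0, Ext.comp_zero]

theorem subsingleton_ext_of_iso_right (X : C) {Y Y' : C} (e : Y ≅ Y') (q : ℕ)
    (h : Subsingleton (Ext X Y q)) : Subsingleton (Ext X Y' q) := by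
  refine subsingleton_of_forall_eq 0 fun y => ?_
  have h1 : (y.comp (Ext.mk₀ e.inv) (add_zero q)).comp (Ext.mk₀ e.hom) (add_zero q) = y := by
    rw [Ext.comp_assoc y (Ext.mk₀ e.inv) (Ext.mk₀ e.hom) (add_zero q) (add_zero 0) (by omega),
      Ext.mk₀_comp_mk₀, Iso.inv_hom_id, Ext.comp_mk₀_id]
  rw [← h1, Subsingleton.elim (y.comp (Ext.mk₀ e.inv) (add_zero q)) 0, Ext.zero_comp]

end Iso

/-- **from global `Ext` vanishing to depth of the localizations** -/
theorem le_depth_localizedModule_of_ext (R : Type u) [CommRing R] [IsNoetherianRing R]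
    (p : Ideal R) [p.IsPrime] [IsRegularLocalRing (Localization.AtPrime p)] (N n : ℕ)
    (hN : ringKrullDim (Localization.AtPrime p) = N) (hnN : n ≤ N)
    (B : Type u) [AddCommGroup B] [Module R B] [Module.Finite R B]
    (h : ∀ q : ℕ, N - n < q → q ≤ N →
      Subsingleton (Ext (ModuleCat.of R B) (ModuleCat.of R R) q)) :
    (n : ℕ∞) ≤ depth (Localization.AtPrime p) (LocalizedModule p.primeCompl B) := by
  let S := p.primeCompl
  apply le_depth_of_ext_self (Localization.AtPrime p) N n hN hnN
  intro q hq1 hq2
  have h1 := subsingleton_ext_localized R S (ModuleCat.of R B) (ModuleCat.of R R) q (h q hq1 hq2)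
  let e₁ : (ModuleCat.localizedModuleFunctor.{u} S).obj (ModuleCat.of R B) ≅
      ModuleCat.of (Localization.AtPrime p) (LocalizedModule S B) :=
    (Shrink.linearEquiv (Localization S) (LocalizedModule S B)).toModuleIso
  let e₂ : (ModuleCat.localizedModuleFunctor.{u} S).obj (ModuleCat.of R R) ≅
      ModuleCat.of (Localization.AtPrime p) (Localization.AtPrime p) :=
    ((Shrink.linearEquiv (Localization S) (LocalizedModule S R)).trans
      (Groth.Agent.Helper8.Depth.localizedModuleSelfEquiv p)).toModuleIso
  exact subsingleton_ext_of_iso_right _ e₂ q (subsingleton_ext_of_iso_left e₁ _ q h1)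

/-- depth over the base versus depth of the local rings of a finite algebra -/
theorem le_depth_self_of_le_depth_localizedModule (R B : Type u) [CommRing R] [CommRing B]
    [IsNoetherianRing R] [IsNoetherianRing B] [Algebra R B] [Module.Finite R B] (n : ℕ)
    (Q : Ideal B) [hQ : Q.IsPrime]
    (h : haveI : (Q.comap (algebraMap R B)).IsPrime := Ideal.comap_isPrime _ _
      (n : ℕ∞) ≤ depth (Localization.AtPrime (Q.comap (algebraMap R B)))
        (LocalizedModule (Q.comap (algebraMap R B)).primeCompl B)) :
    (n : ℕ∞) ≤ depth (Localization.AtPrime Q) (Localization.AtPrime Q) := by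
  haveI : (Q.comap (algebraMap R B)).IsPrime := Ideal.comap_isPrime _ _
  rw [(Groth.Agent.Helper8.FinRes.supportDim_depth_restrictScalars_finite R B B
    (Q.comap (algebraMap R B))).2] at h
  have hmem : (⟨Q, hQ⟩ : PrimeSpectrum B) ∈
      Groth.Agent.Helper8.FinRes.ptsOver R B B (Q.comap (algebraMap R B)) := by
    refine ⟨rfl, ?_⟩
    rw [Module.mem_support_iff_of_finite, Module.annihilator_eq_bot.mpr inferInstance]
    exact bot_le
  have h2 := h.trans (iInf₂_le (⟨Q, hQ⟩ : PrimeSpectrum B) hmem)
  rwa [Groth.Agent.Helper8.Depth.depth_localizedModule_self] at h2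

end Groth.Agent.Helper2.CMConvAlg
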