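import Mathlib
import Groth.Prelude
import Groth.Agent.Lib.Helper6.RDL.Classes

/-!
# Representability of `Ext^c(L -, A)` by `R^c R (A)` for an adjunction `L ⊣ R` with `L` exact,
when the lower derived functors of `R` vanish at `A` (helper2)

For an adjunction `L ⊣ R` between abelian categories (`L : C ⥤ D` preserving monomorphisms, `D`
with injective resolutions) and an object `A` of `D` with `R^q R (A) = 0` for `q < c`, there is a
class `η ∈ Ext^c(L (R^c R A), A)` such that `φ ↦ L(φ) · η` is a bijection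
`Hom(F, R^c R A) → Ext^c(L F, A)` for every `F`.
-/

set_option autoImplicit false
set_option backward.isDefEq.respectTransparency.types false
set_option synthInstance.maxHeartbeats 400000
set_option maxHeartbeats 4000000
set_option linter.style.haveILetI false
set_option linter.unusedSectionVars false

universe w v u v' u'

namespace Groth.Agent.Helper2.AdjExt

open CategoryTheory CategoryTheory.Limits CategoryTheory.Abelian
open Groth.Agent.Helper6.RDU Groth.Agent.Helper6.RDL

variable {C : Type u} [Category.{v} C] [Abelian C] {D : Type u'} [Category.{v'} D] [Abelian D]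
  [HasInjectiveResolutions D] [HasExt.{w} D]
  (L : C ⥤ D) (R : D ⥤ C)

/-- the representability property -/
def Good [R.Additive] (c : ℕ) (A : D) : Prop :=
  ∃ η : Ext (L.obj ((R.rightDerived c).obj A)) A c, ∀ F : C,
    Function.Bijective (fun φ : F ⟶ (R.rightDerived c).obj A =>
      (Ext.mk₀ (L.map φ)).comp η (zero_add c))

variable {L R} (adj : L ⊣ R) [L.Additive] [R.Additive] [L.PreservesMonomorphisms]
  [PreservesFiniteLimits R]

include adj in
theorem good_zero (A : D) : Good L R 0 A := by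
  let e0 : (R.rightDerived 0).obj A ≅ R.obj A := R.rightDerivedZeroIsoSelf.app A
  refine ⟨Ext.mk₀ (L.map e0.hom ≫ adj.counit.app A), fun F => ?_⟩
  have h : (fun φ : F ⟶ (R.rightDerived 0).obj A => (Ext.mk₀ (L.map φ)).comp
      (Ext.mk₀ (L.map e0.hom ≫ adj.counit.app A)) (zero_add 0)) =
      fun φ => Ext.mk₀ ((adj.homEquiv F A).symm (φ ≫ e0.hom)) := by
    funext φ
    rw [Ext.mk₀_comp_mk₀, Adjunction.homEquiv_counit, Functor.map_comp, Category.assoc]
  rw [h]
  refine (Ext.mk₀_bijective _ _).comp ((adj.homEquiv F A).symm.bijective.comp ⟨?_, ?_⟩)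
  · intro a b hab
    exact (cancel_mono e0.hom).1 hab
  · intro g
    exact ⟨g ≫ e0.inv, by simp⟩

section SES

variable {S : ShortComplex D} (hS : S.ShortExact) [Injective S.X₂]

theorem postcomp_extClass_bijective (Z : D) (c : ℕ) :
    Function.Bijective (hS.extClass.postcomp Z (rfl : (c + 1) + 1 = c + 2)) := by
  constructor
  · rw [injective_iff_map_eq_zero]
    intro x hx
    obtain ⟨z, hz⟩ := Ext.covariant_sequence_exact₃ Z hS x rfl hx
    rw [← hz, Ext.eq_zero_of_injective z, Ext.zero_comp]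
  · intro y
    obtain ⟨x, hx⟩ := Ext.covariant_sequence_exact₁ Z hS y (Ext.eq_zero_of_injective _) rfl
    exact ⟨x, hx⟩

include hS in
theorem good_succ (c : ℕ)
    (γ : (R.rightDerived (c + 1)).obj S.X₃ ≅ (R.rightDerived (c + 2)).obj S.X₁)
    (h : Good L R (c + 1) S.X₃) : Good L R (c + 2) S.X₁ := by
  obtain ⟨η', hη'⟩ := h
  refine ⟨(Ext.mk₀ (L.map γ.inv)).comp (η'.comp hS.extClass rfl) (zero_add _), fun F => ?_⟩
  have key : (fun φ : F ⟶ (R.rightDerived (c + 2)).obj S.X₁ => (Ext.mk₀ (L.map φ)).comp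
      ((Ext.mk₀ (L.map γ.inv)).comp (η'.comp hS.extClass rfl) (zero_add (c + 2)))
        (zero_add (c + 2))) =
      fun φ => hS.extClass.postcomp (L.obj F) (rfl : (c + 1) + 1 = c + 2)
        ((Ext.mk₀ (L.map (φ ≫ γ.inv))).comp η' (zero_add (c + 1))) := by
    funext φ
    change _ = ((Ext.mk₀ (L.map (φ ≫ γ.inv))).comp η' (zero_add (c + 1))).comp hS.extClass rfl
    rw [Functor.map_comp, ← Ext.mk₀_comp_mk₀,
      Ext.comp_assoc (Ext.mk₀ (L.map φ)) (Ext.mk₀ (L.map γ.inv)) η' (zero_add 0) (zero_add (c + 1))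
        (by omega),
      Ext.comp_assoc (Ext.mk₀ (L.map φ)) ((Ext.mk₀ (L.map γ.inv)).comp η' (zero_add (c + 1)))
        hS.extClass (zero_add (c + 1)) rfl (by omega),
      Ext.comp_assoc (Ext.mk₀ (L.map γ.inv)) η' hS.extClass (zero_add (c + 1)) rfl (by omega)]
  rw [key]
  refine (postcomp_extClass_bijective hS (L.obj F) c).comp ((hη' F).comp ⟨?_, ?_⟩)
  · intro a b hab
    exact (cancel_mono γ.inv).1 hab
  · intro g
    exact ⟨g ≫ γ.hom, by simp⟩

variable [Injective (R.obj S.X₁)]

include adj hS in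
/-- `R(g)` is von Neumann regular -/
theorem exists_regular :
    ∃ u : R.obj S.X₃ ⟶ R.obj S.X₂, R.map S.g ≫ u ≫ R.map S.g = R.map S.g := by
  haveI : Injective (R.obj S.X₂) := Injective.injective_of_adjoint adj S.X₂
  haveI : Mono S.f := hS.mono_f
  haveI : Mono (R.map S.f) := inferInstance
  have hab : (S.map R).Exact := hS.exact.map_of_mono_of_preservesKernel R hS.mono_f inferInstance
  let ρ : R.obj S.X₂ ⟶ R.obj S.X₁ := Injective.factorThru (𝟙 (R.obj S.X₁)) (R.map S.f)
  have hρ : R.map S.f ≫ ρ = 𝟙 _ := Injective.comp_factorThru _ _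
  let e : R.obj S.X₂ ⟶ R.obj S.X₂ := 𝟙 _ - ρ ≫ R.map S.f
  have he : (S.map R).f ≫ e = 0 := by
    change R.map S.f ≫ (𝟙 _ - ρ ≫ R.map S.f) = 0
    rw [Preadditive.comp_sub, Category.comp_id, reassoc_of% hρ, sub_self]
  have heb : e ≫ R.map S.g = R.map S.g := by
    change (𝟙 _ - ρ ≫ R.map S.f) ≫ R.map S.g = _
    rw [Preadditive.sub_comp, Category.id_comp, Category.assoc, ← Functor.map_comp, S.zero,
      Functor.map_zero, comp_zero, sub_zero]
  refine ⟨hab.descToInjective e he, ?_⟩
  have h1 : R.map S.g ≫ hab.descToInjective e he = e := hab.comp_descToInjective e he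
  rw [reassoc_of% h1, heb]

/-- the comparison `R X₃ ⟶ R¹ R (X₁)` -/
noncomputable def pmap : R.obj S.X₃ ⟶ (R.rightDerived 1).obj S.X₁ :=
  R.rightDerivedZeroIsoSelf.inv.app S.X₃ ≫ (les R).δ S hS 0 1 rfl

theorem g_pmap : R.map S.g ≫ pmap (R := R) hS = 0 := by
  unfold pmap
  have hn := R.rightDerivedZeroIsoSelf.inv.naturality S.g
  rw [← Category.assoc, hn, Category.assoc, (les R).comp_δ S hS 0 1 rfl, comp_zero]

theorem exact_g_pmap : (ShortComplex.mk (R.map S.g) (pmap (R := R) hS) (g_pmap hS)).Exact := by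
  refine (ShortComplex.exact_iff_of_iso ?_).1 ((les R).exact₃ S hS 0 1 rfl)
  refine ShortComplex.isoMk (R.rightDerivedZeroIsoSelf.app S.X₂) (R.rightDerivedZeroIsoSelf.app S.X₃)
    (Iso.refl _) ?_ ?_
  · exact (R.rightDerivedZeroIsoSelf.hom.naturality S.g).symm
  · change R.rightDerivedZeroIsoSelf.hom.app S.X₃ ≫ pmap hS = (les R).δ S hS 0 1 rfl ≫ 𝟙 _
    unfold pmap
    rw [Category.comp_id, Iso.hom_inv_id_app_assoc]

instance epi_pmap : Epi (pmap (R := R) hS) := by
  haveI : Epi ((les R).δ S hS 0 1 rfl) :=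
    epi_δ R S hS 0 (R.isZero_rightDerived_obj_injective_succ 0 S.X₂)
  unfold pmap
  infer_instance

include adj in
theorem exists_section :
    ∃ (σ : (R.rightDerived 1).obj S.X₁ ⟶ R.obj S.X₃) (u : R.obj S.X₃ ⟶ R.obj S.X₂),
      σ ≫ pmap hS = 𝟙 _ ∧ pmap hS ≫ σ = 𝟙 _ - u ≫ R.map S.g := by
  obtain ⟨u, hu⟩ := exists_regular adj hS
  have hT := exact_g_pmap (R := R) hS
  have hk : R.map S.g ≫ (𝟙 _ - u ≫ R.map S.g) = 0 := by
    rw [Preadditive.comp_sub, Category.comp_id, hu, sub_self]
  refine ⟨hT.desc (𝟙 _ - u ≫ R.map S.g) hk, u, ?_, hT.g_desc _ hk⟩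
  have h1 : pmap hS ≫ hT.desc (𝟙 _ - u ≫ R.map S.g) hk = 𝟙 _ - u ≫ R.map S.g := hT.g_desc _ hk
  rw [← cancel_epi (pmap hS), reassoc_of% h1, Preadditive.sub_comp, Category.id_comp,
    Category.assoc, g_pmap, comp_zero, sub_zero, Category.comp_id]

include adj hS in
theorem good_one : Good L R 1 S.X₁ := by
  obtain ⟨σ, u, hσ, hpσ⟩ := exists_section adj hS
  refine ⟨(Ext.mk₀ ((adj.homEquiv _ _).symm σ)).comp hS.extClass (zero_add 1), fun F => ?_⟩
  have key : ∀ φ : F ⟶ (R.rightDerived 1).obj S.X₁,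
      (Ext.mk₀ (L.map φ)).comp ((Ext.mk₀ ((adj.homEquiv _ _).symm σ)).comp hS.extClass
        (zero_add 1)) (zero_add 1) =
      (Ext.mk₀ ((adj.homEquiv F S.X₃).symm (φ ≫ σ))).comp hS.extClass (zero_add 1) := by
    intro φ
    rw [← Ext.comp_assoc (Ext.mk₀ (L.map φ)) (Ext.mk₀ ((adj.homEquiv _ _).symm σ)) hS.extClass
      (zero_add 0) (zero_add 1) (by omega), Ext.mk₀_comp_mk₀,
      Adjunction.homEquiv_naturality_left_symm]
  constructor
  · intro φ φ' h
    dsimp only at h
    rw [key, key] at h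
    have h0 : (Ext.mk₀ ((adj.homEquiv F S.X₃).symm ((φ - φ') ≫ σ))).comp hS.extClass
        (zero_add 1) = 0 := by
      have hsum : φ ≫ σ = (φ - φ') ≫ σ + φ' ≫ σ := by
        rw [← Preadditive.add_comp, sub_add_cancel]
      have h2 := h
      rw [hsum, Adjunction.homAddEquiv_symm_add, Ext.mk₀_add, Ext.add_comp] at h2
      exact add_eq_right.1 h2
    obtain ⟨z, hz⟩ := Ext.covariant_sequence_exact₃ (L.obj F) hS _ (zero_add 1) h0
    obtain ⟨h', rfl⟩ := (Ext.mk₀_bijective _ _).2 z
    rw [Ext.mk₀_comp_mk₀] at hz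
    have hz' := (Ext.mk₀_bijective _ _).1 hz
    have hz'' : adj.homEquiv F S.X₂ h' ≫ R.map S.g = (φ - φ') ≫ σ := by
      rw [← Adjunction.homEquiv_naturality_right, hz', Equiv.apply_symm_apply]
    have : φ - φ' = 0 := by
      have := congrArg (fun m => m ≫ pmap hS) hz''
      rw [Category.assoc, Category.assoc, g_pmap, comp_zero, hσ, Category.comp_id] at this
      exact this.symm
    exact sub_eq_zero.1 this
  · intro y
    obtain ⟨x, hx⟩ := Ext.covariant_sequence_exact₁ (L.obj F) hS y (Ext.eq_zero_of_injective _)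
      (zero_add 1)
    obtain ⟨g', rfl⟩ := (Ext.mk₀_bijective _ _).2 x
    let g := adj.homEquiv F S.X₃ g'
    refine ⟨g ≫ pmap hS, ?_⟩
    dsimp only
    rw [key, ← hx]
    have hdec : g = (g ≫ pmap hS) ≫ σ + (g ≫ u) ≫ R.map S.g := by
      rw [Category.assoc, hpσ, Preadditive.comp_sub, Category.comp_id, Category.assoc,
        sub_add_cancel]
    have hg' : g' = (adj.homEquiv F S.X₃).symm ((g ≫ pmap hS) ≫ σ) +
        (adj.homEquiv F S.X₂).symm (g ≫ u) ≫ S.g := by
      have : g' = (adj.homEquiv F S.X₃).symm g := (Equiv.symm_apply_apply _ _).symm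
      rw [this]
      conv_lhs => rw [hdec]
      rw [Adjunction.homAddEquiv_symm_add, Adjunction.homEquiv_naturality_right_symm]
    conv_rhs => rw [hg']
    rw [Ext.mk₀_add, Ext.add_comp, ← Ext.mk₀_comp_mk₀,
      Ext.comp_assoc (Ext.mk₀ ((adj.homEquiv F S.X₂).symm (g ≫ u))) (Ext.mk₀ S.g) hS.extClass
        (zero_add 0) (zero_add 1) (by omega), hS.comp_extClass, Ext.comp_zero, add_zero]

include adj hS in
/-- if moreover `R¹ R (X₁) = 0` then `R X₃` is injective -/
theorem injective_X₃ (h1 : IsZero ((R.rightDerived 1).obj S.X₁)) : Injective (R.obj S.X₃) := by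
  haveI : Injective (R.obj S.X₂) := Injective.injective_of_adjoint adj S.X₂
  obtain ⟨u, hu⟩ := exists_regular adj hS
  haveI : Epi (R.map S.g) := (exact_g_pmap (R := R) hS).epi_f (h1.eq_of_tgt _ _)
  have hu' : u ≫ R.map S.g = 𝟙 _ := by
    rw [← cancel_epi (R.map S.g), hu, Category.comp_id]
  refine ⟨fun {X Y} g f _ => ⟨Injective.factorThru (g ≫ u) f ≫ R.map S.g, ?_⟩⟩
  rw [← Category.assoc, Injective.comp_factorThru, Category.assoc, hu', Category.comp_id]

end SES

/-- the standard short exact sequence `0 → A → I → I/A → 0` with `I` injective -/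
noncomputable def ses (A : D) [EnoughInjectives D] : ShortComplex D :=
  ShortComplex.mk (Injective.ι A) (cokernel.π (Injective.ι A)) (cokernel.condition _)

theorem ses_shortExact (A : D) [EnoughInjectives D] : (ses A).ShortExact := by
  haveI : Mono (ses A).f := inferInstanceAs (Mono (Injective.ι A))
  haveI : Epi (ses A).g := inferInstanceAs (Epi (cokernel.π (Injective.ι A)))
  exact { exact := ShortComplex.exact_of_g_is_cokernel _ (cokernelIsCokernel (Injective.ι A)) }

instance (A : D) [EnoughInjectives D] : Injective (ses A).X₂ :=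
  inferInstanceAs (Injective (Injective.under A))

include adj in
theorem good_of_injective (c : ℕ) : ∀ (A : D), Injective (R.obj A) →
    (∀ q, 1 ≤ q → q < c + 1 → IsZero ((R.rightDerived q).obj A)) → Good L R (c + 1) A := by
  haveI : EnoughInjectives D := enoughInjectives_of_hasInjectiveResolutions
  induction c with
  | zero =>
    intro A hA _
    haveI : Injective (R.obj (ses A).X₁) := hA
    exact good_one adj (ses_shortExact A)
  | succ c ih =>
    intro A hA hvan
    have hS := ses_shortExact A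
    haveI : Injective (R.obj (ses A).X₁) := hA
    have hinj : Injective (R.obj (ses A).X₃) :=
      injective_X₃ adj hS (hvan 1 le_rfl (by omega))
    have hvan' : ∀ q, 1 ≤ q → q < c + 1 → IsZero ((R.rightDerived q).obj (ses A).X₃) := by
      intro q hq1 hq
      exact isZero_X₃_of_isZero_X₁ R (ses A) hS q
        (by
          obtain ⟨j, rfl⟩ : ∃ j, q = j + 1 := ⟨q - 1, by omega⟩
          exact R.isZero_rightDerived_obj_injective_succ j _)
        (hvan (q + 1) (by omega) (by omega))
    have hgood := ih (ses A).X₃ hinj hvan'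
    haveI : Mono ((les R).δ (ses A) hS (c + 1) (c + 2) rfl) :=
      mono_δ R (ses A) hS (c + 1) (R.isZero_rightDerived_obj_injective_succ c _)
    haveI : Epi ((les R).δ (ses A) hS (c + 1) (c + 2) rfl) :=
      epi_δ R (ses A) hS (c + 1) (R.isZero_rightDerived_obj_injective_succ (c + 1) _)
    haveI : IsIso ((les R).δ (ses A) hS (c + 1) (c + 2) rfl) := isIso_of_mono_of_epi _
    exact good_succ hS c (asIso ((les R).δ (ses A) hS (c + 1) (c + 2) rfl)) hgood

include adj in
/-- **Main theorem.** -/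
theorem good_of_isZero (c : ℕ) (A : D)
    (h : ∀ q, q < c → IsZero ((R.rightDerived q).obj A)) : Good L R c A := by
  rcases c with _ | c
  · exact good_zero adj A
  · have h0 : IsZero (R.obj A) :=
      (h 0 (Nat.succ_pos c)).of_iso (R.rightDerivedZeroIsoSelf.app A).symm
    have hinj : Injective (R.obj A) :=
      ⟨fun {X Y} g f _ => ⟨0, h0.eq_of_tgt _ _⟩⟩
    exact good_of_injective adj c A hinj (fun q _ hq => h q hq)

end Groth.Agent.Helper2.AdjExt
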