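import Mathlib
import Groth.Prelude
import Groth.Agent.Lib.Helper4.DuF7

/-!
# The Yoneda pairing `Ext^i(F, ω) × H^j(F) → H^{i+j}(ω) → k` is perfect (helper2)

In the setting of helper4's abstract Serre duality (`DuF7.ext_duality`), the explicit Yoneda pairing
map `Ψ : Ext^i(F, ω) → H^{n-i}(F)^*` is bijective; since `Ψ` is natural in `F` by construction, this
gives a natural form of Serre duality.
-/

set_option autoImplicit false
set_option backward.isDefEq.respectTransparency.types false
set_option synthInstance.maxHeartbeats 400000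
set_option maxHeartbeats 4000000
set_option linter.style.haveILetI false
set_option linter.unusedSectionVars false

universe u

namespace Groth.Agent.Helper2.YonedaDual

open CategoryTheory CategoryTheory.Limits AlgebraicGeometry CategoryTheory.Abelian
open Groth.Agent.Helper1
open Groth.Agent.Lib.Helper4 Groth.Agent.Lib.Helper4.DuF5 Groth.Agent.Lib.Helper4.DuF6
  Groth.Agent.Lib.Helper4.DuF7

variable (k : Type u) [Field k] {X : Scheme.{u}} [X.Over (Spec (CommRingCat.of k))]
variable [HasExt.{u} X.Modules]

/-- the image of an `Ext` class of `O_X`-modules in abelian sheaves -/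
noncomputable def toAbExt {F G : X.Modules} {i : ℕ} (e : Ext F G i) :
    Ext (Coh.toAb F) (Coh.toAb G) i :=
  e.mapExactFunctor (QcExt.T X)

theorem toAbExt_mk₀ {F G : X.Modules} (f : F ⟶ G) :
    toAbExt (Ext.mk₀ f) = Ext.mk₀ ((SheafOfModules.toSheaf.{u} X.ringCatSheaf).map f) :=
  Ext.mapExactFunctor_mk₀ (QcExt.T X) f

theorem toAbExt_comp {F G H : X.Modules} {a b c : ℕ} (α : Ext F G a) (β : Ext G H b)
    (h : a + b = c) : toAbExt (α.comp β h) = (toAbExt α).comp (toAbExt β) h :=
  Ext.mapExactFunctor_comp (QcExt.T X) α β h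

theorem toAbExt_add {F G : X.Modules} {i : ℕ} (e e' : Ext F G i) :
    toAbExt (e + e') = toAbExt e + toAbExt e' :=
  Ext.mapExactFunctor_add (QcExt.T X) F G i e e'

theorem toAbExt_zero {F G : X.Modules} {i : ℕ} : toAbExt (0 : Ext F G i) = 0 :=
  Ext.mapExactFunctor_zero (QcExt.T X) F G i

theorem toAbExt_extClass {S : ShortComplex X.Modules} (hS : S.ShortExact) :
    toAbExt hS.extClass = (HHFin2.Sab_shortExact hS).extClass :=
  Ext.mapExactFunctor_extClass (QcExt.T X) hS

/-- scalars commute with `Ext` classes -/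
theorem smulMod_comp {F G : X.Modules} {i : ℕ} (e : Ext F G i) (a : k) :
    (Ext.mk₀ (Formal.smulMod k F a)).comp e (zero_add i) =
      e.comp (Ext.mk₀ (Formal.smulMod k G a)) (add_zero i) := by
  rw [← KLin.smul_id, ← KLin.smul_id, Ext.mk₀_smul, Ext.mk₀_smul, Ext.smul_comp, Ext.comp_smul,
    Ext.mk₀_id_comp, Ext.comp_mk₀_id]

/-- the Yoneda pairing with a fixed class, as a `k`-linear map on cohomology -/
noncomputable def pair {F ω : X.Modules} {i : ℕ} (e : Ext F ω i) (j n : ℕ) (h : j + i = n) :
    Coh.HH X F j →ₗ[k] Coh.HH X ω n where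
  toFun x := (show Ext _ (Coh.toAb F) j from x).comp (toAbExt e) h
  map_add' x y := Ext.add_comp _ _ _ _
  map_smul' a x := by
    change ((show Ext _ (Coh.toAb F) j from Canon.HHlin k (Formal.smulMod k F a) j x)).comp
        (toAbExt e) h =
      Canon.HHlin k (Formal.smulMod k ω a) n ((show Ext _ (Coh.toAb F) j from x).comp (toAbExt e) h)
    change ((show Ext _ (Coh.toAb F) j from x).comp
        (Ext.mk₀ ((SheafOfModules.toSheaf.{u} X.ringCatSheaf).map (Formal.smulMod k F a)))
          (add_zero j)).comp (toAbExt e) h =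
      ((show Ext _ (Coh.toAb F) j from x).comp (toAbExt e) h).comp
        (Ext.mk₀ ((SheafOfModules.toSheaf.{u} X.ringCatSheaf).map (Formal.smulMod k ω a)))
          (add_zero n)
    rw [← toAbExt_mk₀, ← toAbExt_mk₀,
      Ext.comp_assoc _ _ _ (add_zero j) (zero_add i) (by omega),
      Ext.comp_assoc _ _ _ h (add_zero i) (by omega), ← toAbExt_comp, ← toAbExt_comp,
      smulMod_comp]

theorem pair_apply {F ω : X.Modules} {i : ℕ} (e : Ext F ω i) (j n : ℕ) (h : j + i = n)
    (x : Coh.HH X F j) :
    pair k e j n h x = (show Ext _ (Coh.toAb F) j from x).comp (toAbExt e) h := rfl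

variable (n : ℕ) (ω : X.Modules) (t : Coh.HH X ω n →ₗ[k] k)

/-- the duality map `Ext^i(F, ω) → H^j(F)^*`, `i + j = n` -/
noncomputable def Psi (F : X.Modules) (i j : ℕ) (h : j + i = n) :
    Ext F ω i →+ Module.Dual k (Coh.HH X F j) where
  toFun e := t ∘ₗ pair k e j n h
  map_zero' := by
    apply LinearMap.ext
    intro x
    change t ((show Ext _ (Coh.toAb F) j from x).comp (toAbExt (0 : Ext F ω i)) h) = 0
    rw [toAbExt_zero, Ext.comp_zero, map_zero]
  map_add' e e' := by
    apply LinearMap.ext
    intro x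
    change t ((show Ext _ (Coh.toAb F) j from x).comp (toAbExt (e + e')) h) =
      t ((show Ext _ (Coh.toAb F) j from x).comp (toAbExt e) h) +
        t ((show Ext _ (Coh.toAb F) j from x).comp (toAbExt e') h)
    rw [toAbExt_add, Ext.comp_add, map_add]

theorem Psi_apply (F : X.Modules) (i j : ℕ) (h : j + i = n) (e : Ext F ω i) (x : Coh.HH X F j) :
    Psi k n ω t F i j h e x = t ((show Ext _ (Coh.toAb F) j from x).comp (toAbExt e) h) := rfl

/-- degree zero: the pairing is `theta` -/
theorem Psi_mk₀ (F : X.Modules) (φ : F ⟶ ω) :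
    Psi k n ω t F 0 n (add_zero n) (Ext.mk₀ φ) = theta k n ω t F φ := by
  apply LinearMap.ext
  intro x
  rw [Psi_apply, theta_apply, toAbExt_mk₀]
  rfl

/-- naturality in `F` -/
theorem Psi_naturality {F G : X.Modules} (f : F ⟶ G) (i j : ℕ) (h : j + i = n) (e : Ext G ω i)
    (x : Coh.HH X F j) :
    Psi k n ω t F i j h ((Ext.mk₀ f).comp e (zero_add i)) x =
      Psi k n ω t G i j h e (Canon.HHlin k f j x) := by
  rw [Psi_apply, Psi_apply, toAbExt_comp, toAbExt_mk₀,
    ← Ext.comp_assoc _ _ _ (add_zero j) (zero_add i) (by omega)]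
  rfl

/-- compatibility with the connecting homomorphisms -/
theorem Psi_extClass {S : ShortComplex X.Modules} (hS : S.ShortExact) (i j : ℕ)
    (h : j + (i + 1) = n) (e : Ext S.X₁ ω i) (x : Coh.HH X S.X₃ j) :
    Psi k n ω t S.X₃ (i + 1) j h (hS.extClass.comp e (add_comm 1 i)) x =
      Psi k n ω t S.X₁ i (j + 1) (by omega) e (HHFin2.deltaLin k hS j x) := by
  rw [Psi_apply, Psi_apply, toAbExt_comp, toAbExt_extClass,
    ← Ext.comp_assoc _ _ _ rfl (add_comm 1 i) (by omega)]
  rfl

variable (P : X.Modules → Prop)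

/-- **The Yoneda pairing is perfect.** -/
theorem Psi_bijective (hdual : ∀ F, P F → DuB1.Dual k n ω t F)
    (hpres : ∀ F, P F → HasPres k n ω t P F) (i : ℕ) :
    ∀ F, P F → ∀ (j : ℕ) (h : j + i = n), Function.Bijective (Psi k n ω t F i j h) := by
  induction i with
  | zero =>
    intro F hF j h
    obtain rfl : j = n := by omega
    have hθ := theta_bijective k j ω t F (hdual F hF)
    constructor
    · intro e e' he
      obtain ⟨φ, rfl⟩ := (Ext.mk₀_bijective _ _).2 e
      obtain ⟨φ', rfl⟩ := (Ext.mk₀_bijective _ _).2 e'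
      rw [Psi_mk₀, Psi_mk₀] at he
      rw [hθ.1 he]
    · intro ψ
      obtain ⟨φ, rfl⟩ := hθ.2 ψ
      exact ⟨Ext.mk₀ φ, Psi_mk₀ k j ω t F φ⟩
  | succ i ih =>
    intro F hF j h
    obtain ⟨E, π, hπ, hK, hE, hext, hcoh⟩ := hpres F hF
    haveI := hπ
    have hS := shortExact_kernel π
    rcases Nat.eq_zero_or_pos i with hi | hi
    · subst hi
      obtain rfl : n = j + 1 := by omega
      have hKd := hdual _ hK
      have hcomp : ∀ φ : kernel π ⟶ ω,
          Psi k (j + 1) ω t F 1 j h (bdry k hS ω φ) = Theta k hS ω j t φ := by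
        intro φ
        apply LinearMap.ext
        intro x
        rw [bdry_apply, Theta_apply]
        have h1 := Psi_extClass k (j + 1) ω t hS 0 j h (Ext.mk₀ φ) x
        have h2 := Psi_mk₀ k (j + 1) ω t (kernel π) φ
        refine h1.trans ?_
        exact congrArg (fun ψ : Module.Dual k (Coh.HH X (kernel π) (j + 1)) =>
          ψ (HHFin2.deltaLin k hS j x)) h2
      constructor
      · rw [injective_iff_map_eq_zero]
        intro e he
        obtain ⟨φ, rfl⟩ := bdry_surjective k hS ω (hext 1 le_rfl) e
        rw [hcomp] at he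
        rw [mem_ker_bdry]
        exact (mem_ker_Theta k hS ω j t hKd hE φ).1 he
      · intro ψ
        obtain ⟨φ, rfl⟩ := Theta_surjective k hS ω j t hKd (hcoh j (Nat.lt_succ_self j)) ψ
        exact ⟨bdry k hS ω φ, hcomp φ⟩
    · have h0 := hext i hi
      have h1 := hext (i + 1) (by omega)
      have g0 := hcoh j (by omega)
      have g1 := hcoh (j + 1) (by omega)
      have hbij := ih _ hK (j + 1) (by omega)
      have hcomp : ∀ e : Ext (kernel π) ω i,
          Psi k n ω t F (i + 1) j h (extShift k hS ω i h0 h1 e) =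
            (Psi k n ω t (kernel π) i (j + 1) (by omega) e) ∘ₗ
              (cohShift k hS j g0 g1).toLinearMap := by
        intro e
        apply LinearMap.ext
        intro x
        exact Psi_extClass k n ω t hS i j h e x
      constructor
      · rw [injective_iff_map_eq_zero]
        intro e he
        obtain ⟨e', rfl⟩ := (extShift k hS ω i h0 h1).surjective e
        rw [hcomp] at he
        have hz : Psi k n ω t (kernel π) i (j + 1) (by omega) e' = 0 := by
          apply LinearMap.ext
          intro y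
          obtain ⟨x, rfl⟩ := (cohShift k hS j g0 g1).surjective y
          exact congrArg (fun ψ : Module.Dual k (Coh.HH X F j) => ψ x) he
        have : e' = 0 := (injective_iff_map_eq_zero _).1 hbij.1 e' hz
        rw [this, map_zero]
      · intro ψ
        obtain ⟨e', he'⟩ := hbij.2 (ψ ∘ₗ (cohShift k hS j g0 g1).symm.toLinearMap)
        refine ⟨extShift k hS ω i h0 h1 e', ?_⟩
        rw [hcomp, he']
        apply LinearMap.ext
        intro x
        change ψ ((cohShift k hS j g0 g1).symm ((cohShift k hS j g0 g1) x)) = ψ x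
        rw [LinearEquiv.symm_apply_apply]

end Groth.Agent.Helper2.YonedaDual
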