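import Mathlib
import Groth.Prelude
import Groth.Agent.Lib.Helper2.Dual.AdjExt
import Groth.Agent.Lib.Helper2.Dual.YonedaDual
import Groth.Agent.Lib.Helper2.HomExt.HomOCoh
import Groth.Agent.Lib.Helper4.DuF8
import Groth.Agent.Lib.Helper4.LinBridge1
import Groth.Agent.Lib.Helper4.SerreFin
import Groth.Agent.Lib.Helper1.FinPush
import Groth.Agent.S0485

/-!
# The dualizing sheaf of a closed subscheme of projective space (helper2)

For a closed immersion `ι : X ⟶ P = P^n_k` over a field with `ℰxt^q(ι_* O_X, ω_P) = 0` for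
`q < c`, any `ω` with `ι_* ω ≅ ℰxt^c(ι_* O_X, ω_P)` is dualizing in degree `r = n - c`: there is a
trace `t : H^r(X, ω) → k` such that `Hom(F, ω) → H^r(X, F)^*` is bijective for all coherent `F`.
-/

set_option autoImplicit false
set_option backward.isDefEq.respectTransparency.types false
set_option synthInstance.maxHeartbeats 400000
set_option maxHeartbeats 4000000
set_option linter.style.haveILetI false
set_option linter.unusedSectionVars false

universe u

namespace Groth.Agent.Helper2.DualizingCl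

open CategoryTheory CategoryTheory.Limits AlgebraicGeometry CategoryTheory.Abelian
open Groth.Agent.Helper1
open Groth.Agent.Lib.Helper4 Groth.Agent.Lib.Helper4.DuF5 Groth.Agent.Lib.Helper4.DuF7
  Groth.Agent.Lib.Helper4.DuF8 Groth.Agent.Lib.Helper4.DuA4 Groth.Agent.Lib.Helper4.DuB1
  Groth.Agent.Lib.Helper4.DuB2 Groth.Agent.Lib.Helper4.DuC1 Groth.Agent.Lib.Helper4.DuC2
open Groth.Agent.Helper2.YonedaDual Groth.Agent.Helper2.HomExt Groth.Agent.Helper2.HomExt.ChangeRings

section Pn

variable (k : Type u) [Field k] (n : ℕ) [HasExt.{u} (CohB1.ProjSpace n k).Modules]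

/-- the Yoneda pairing on projective space is perfect for coherent modules -/
theorem exists_trace :
    ∃ t : Coh.HH (CohB1.ProjSpace n k) (Twist.twistProjSpace n k (-((n : ℤ) + 1))) n →ₗ[k] k,
      ∀ (F : (CohB1.ProjSpace n k).Modules), Coh.IsCoh F → ∀ (i j : ℕ) (h : j + i = n),
        Function.Bijective (Psi k n (Twist.twistProjSpace n k (-((n : ℤ) + 1))) t F i j h) := by
  rcases n with _ | p
  · refine ⟨(tr0 k).toLinearMap, fun F hF i j h => ?_⟩
    exact Psi_bijective k 0 _ _ Coh.IsCoh (fun F hF => dual_coh0 k F hF)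
      (hasPres_of_dual k 0 rfl _ (fun d => dual_twist0 k d)) i F hF j h
  · refine ⟨(tr p k).toLinearMap, fun F hF i j h => ?_⟩
    exact Psi_bijective k (p + 1) _ _ Coh.IsCoh (fun F hF => dual_coh p k F hF)
      (hasPres_of_dual k (p + 1) rfl _ (fun d => dual_twist p k d)) i F hF j h

end Pn

open scoped ZeroObject in
/-- a module with zero direct image is zero -/
theorem isZero_of_isZero_push {X Q : Scheme.{u}} (ι : X ⟶ Q) [IsClosedImmersion ι] (M : X.Modules)
    (h : IsZero ((Scheme.Modules.pushforward ι).obj M)) : IsZero M := by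
  obtain ⟨e⟩ := ClImm.nonempty_iso_of_push_iso ι (A := M) (B := 0)
    (h.iso (Functor.map_isZero _ (isZero_zero _)))
  exact (isZero_zero _).of_iso e

section Main

variable (k : Type u) [Field k] (n : ℕ) {X : Scheme.{u}} [X.Over (Spec (CommRingCat.of k))]
  (ι : X ⟶ CohB1.ProjSpace n k) [IsClosedImmersion ι]
  (hι : ι ≫ CohB1.ProjSpace.toSpec n k = X ↘ Spec (CommRingCat.of k))

local notation "PP" => CohB1.ProjSpace n k
local notation "ωP" => Twist.twistProjSpace n k (-((n : ℤ) + 1))


include hι in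
theorem exists_dualizing (c r : ℕ) (hrc : r + c = n)
    [ModSite.HasSheafHom (O := (PP).sheaf)
      ((Scheme.Modules.pushforward ι).obj (Coh.structureModule X))]
    [HasInjectiveResolutions (ModSite.Mod (PP).sheaf)]
    (hvan : ∀ q, q < c → IsZero ((ModSite.extSh (O := (PP).sheaf)
      ((Scheme.Modules.pushforward ι).obj (Coh.structureModule X)) q).obj ωP))
    (ω : X.Modules) (hω : Nonempty ((Scheme.Modules.pushforward ι).obj ω ≅
      (ModSite.extSh (O := (PP).sheaf)
        ((Scheme.Modules.pushforward ι).obj (Coh.structureModule X)) c).obj ωP)) :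
    ∃ t : Coh.HH X ω r →ₗ[k] k, ∀ F : X.Modules, Coh.IsCoh F → DuB1.Dual k r ω t F := by
  haveI : EnoughInjectives (PP).Modules := Groth.Agent.S0485.result _ (PP).ringCatSheaf
  haveI hExt : HasExt.{u} (PP).Modules := hasExt_of_enoughInjectives _
  haveI : HasExt.{u} (ModSite.Mod (PP).sheaf) := hExt
  haveI : IsLocallyNoetherian PP := SerreFin.instLN n k
  obtain ⟨tP, hΨ⟩ := exists_trace k n
  have hM : ∀ q, q < c → IsZero (((ish ι).rightDerived q).obj ωP) := by
    intro q hq
    apply isZero_of_isZero_push ι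
    exact (hvan q hq).of_iso (pushRightDerivedIshIso ι ωP q)
  haveI : PreservesFiniteLimits (ish ι) := by
    haveI := (pushAdj ι).rightAdjoint_preservesLimits
    infer_instance
  obtain ⟨η, hη⟩ := AdjExt.good_of_isZero (pushAdj ι) c ωP hM
  obtain ⟨e0⟩ := hω
  obtain ⟨α⟩ := ClImm.nonempty_iso_of_push_iso ι (e0 ≪≫ (pushRightDerivedIshIso ι ωP c).symm)
  have hωP : Coh.IsCoh ωP := SerreFin.isCoh_twist n k _
  have hωcoh : Coh.IsCoh ω := by
    apply ClImmRefl.isCoh_of_push ι
    exact Groth.Agent.Lib.Helper5.LocalCoh.isCoh_of_iso e0.symm (isCoh_extSh _ ωP (isCoh_push_unit ι) hωP c)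
  haveI : Coh.IsQCoh ω := hωcoh.1
  -- the transported fundamental class
  let η' : Ext ((Scheme.Modules.pushforward ι).obj ω) ωP c :=
    (Ext.mk₀ ((Scheme.Modules.pushforward ι).map α.hom)).comp η (zero_add c)
  have hη' : ∀ F : X.Modules, Function.Bijective (fun φ : F ⟶ ω =>
      (Ext.mk₀ ((Scheme.Modules.pushforward ι).map φ)).comp η' (zero_add c)) := by
    intro F
    have h1 : (fun φ : F ⟶ ω =>
        (Ext.mk₀ ((Scheme.Modules.pushforward ι).map φ)).comp η' (zero_add c)) =
        (fun ψ : F ⟶ ((ish ι).rightDerived c).obj ωP =>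
          (Ext.mk₀ ((Scheme.Modules.pushforward ι).map ψ)).comp η (zero_add c)) ∘
            (fun φ : F ⟶ ω => φ ≫ α.hom) := by
      funext φ
      simp only [Function.comp]
      rw [Functor.map_comp, ← Ext.mk₀_comp_mk₀,
        Ext.comp_assoc _ _ _ (zero_add 0) (zero_add c) (by omega)]
    rw [h1]
    exact (hη F).comp ⟨fun a b hab => (cancel_mono α.hom).1 hab, fun g => ⟨g ≫ α.inv, by simp⟩⟩
  -- the trace
  let lω := LinBridge1.lerayEquiv ι ω k hι r
  let t : Coh.HH X ω r →ₗ[k] k := tP ∘ₗ pair k η' r n hrc ∘ₗ lω.symm.toLinearMap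
  refine ⟨t, fun F hF => ?_⟩
  haveI : Coh.IsQCoh F := hF.1
  let lF := LinBridge1.lerayEquiv ι F k hι r
  have hpF : Coh.IsCoh ((Scheme.Modules.pushforward ι).obj F) :=
    FinPush.isCoh_pushforward ι F hF
  have hbij := hΨ _ hpF c r hrc
  have key : ∀ (φ : F ⟶ ω) (x : Coh.HH X F r), t (Canon.HHlin k φ r x) =
      Psi k n ωP tP ((Scheme.Modules.pushforward ι).obj F) c r hrc
        ((Ext.mk₀ ((Scheme.Modules.pushforward ι).map φ)).comp η' (zero_add c)) (lF.symm x) := by
    intro φ x
    rw [Psi_naturality]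
    have hnat : lω.symm (Canon.HHlin k φ r x) =
        Canon.HHlin k ((Scheme.Modules.pushforward ι).map φ) r (lF.symm x) := by
      apply lω.injective
      rw [LinearEquiv.apply_symm_apply]
      have h2 := LinBridge1.lerayAdd_natural ι
        ((SheafOfModules.toSheaf X.ringCatSheaf).map φ) r (lF.symm x)
      have h3 : LinBridge1.lerayAdd ι F r (lF.symm x) = x := lF.apply_symm_apply x
      rw [h3] at h2
      exact h2.symm
    change tP (pair k η' r n hrc (lω.symm (Canon.HHlin k φ r x))) = _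
    rw [hnat]
    rfl
  intro ψ
  obtain ⟨e, he⟩ := hbij.2 (ψ ∘ₗ lF.toLinearMap)
  obtain ⟨φ, hφ⟩ := (hη' F).2 e
  dsimp only at hφ
  refine ⟨φ, fun x => ?_, fun φ₁ hφ₁ => ?_⟩
  · change ψ x = t (Canon.HHlin k φ r x)
    rw [key, hφ, he]
    change ψ x = ψ (lF (lF.symm x))
    rw [LinearEquiv.apply_symm_apply]
  · apply (hη' F).1
    dsimp only
    rw [hφ]
    apply hbij.1
    rw [he]
    apply LinearMap.ext
    intro y
    have h4 := hφ₁ (lF y)
    change ψ (lF y) = t (Canon.HHlin k φ₁ r (lF y)) at h4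
    rw [key, LinearEquiv.symm_apply_apply] at h4
    exact h4.symm

end Main

end Groth.Agent.Helper2.DualizingCl
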