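import Mathlib
import Groth.Prelude
import Groth.Agent.Lib.Helper2.Dual.DualizingCl
import Groth.Agent.Lib.Helper2.HomExt.TwistExtCl
import Groth.Agent.Lib.Helper2.HomExt.ProjCodim
import Groth.Agent.Lib.Helper4.TopDim2
import Groth.Agent.Lib.Helper4.ClBridge2
import Groth.Agent.Lib.Helper4.SerreVan
import Groth.Agent.Lib.Helper1.InvInv2
import Groth.Agent.Lib.Helper1.InvFt
import Groth.Agent.Lib.Helper1.PullGen2
import Groth.Agent.Lib.Helper1.CohAbel
import Groth.Agent.S11904

/-!
# Duality for `Ext` in a range of degrees on closed subschemes of projective space (helper2)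
-/

set_option autoImplicit false
set_option backward.isDefEq.respectTransparency.types false
set_option synthInstance.maxHeartbeats 400000
set_option maxHeartbeats 4000000
set_option linter.style.haveILetI false
set_option linter.unusedSectionVars false

universe u

namespace Groth.Agent.Helper2.DualRange

open CategoryTheory CategoryTheory.Limits AlgebraicGeometry CategoryTheory.Abelian
open Groth.Agent.Helper1
open Groth.Agent.Lib.Helper4 Groth.Agent.Lib.Helper4.DuF5 Groth.Agent.Lib.Helper4.DuF6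
  Groth.Agent.Lib.Helper4.DuF7 Groth.Agent.Lib.Helper4.DuF8 Groth.Agent.Lib.Helper4.SerreFin
open Groth.Agent.Helper2.HomExt

section Abstract

variable (k : Type u) [Field k] {X : Scheme.{u}} [X.Over (Spec (CommRingCat.of k))]
variable [HasExt.{u} X.Modules] (n : ℕ) (ω : X.Modules) (t : Coh.HH X ω n →ₗ[k] k)
variable (P : X.Modules → Prop)

/-- duality for `Ext^i`, `i ≤ s`, when the presentations have vanishing cohomology in the range
`n - s ≤ j < n` only -/
theorem ext_duality_range (s : ℕ)
    (hdual : ∀ F, P F → DuB1.Dual k n ω t F)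
    (hpres : ∀ F, P F → ∃ (E : X.Modules) (π : E ⟶ F), Epi π ∧ P (kernel π) ∧
      DuB1.Dual k n ω t E ∧ (∀ i, 1 ≤ i → Subsingleton (Ext E ω i)) ∧
      (∀ j, n - s ≤ j → j < n → Subsingleton (Coh.HH X E j))) (i : ℕ) :
    i ≤ s → ∀ F, P F → ∀ j, i + j = n →
      Nonempty (Ext F ω i ≃ₗ[k] Module.Dual k (Coh.HH X F j)) := by
  induction i with
  | zero =>
    intro _ F hF j hj
    obtain rfl : j = n := by omega
    exact ⟨ext0Equiv k j ω t F (hdual F hF)⟩
  | succ i ih =>
    intro his F hF j hj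
    obtain ⟨E, π, hπ, hK, hE, hext, hcoh⟩ := hpres F hF
    haveI := hπ
    have hS := shortExact_kernel π
    rcases Nat.eq_zero_or_pos i with hi | hi
    · subst hi
      obtain rfl : n = j + 1 := by omega
      exact ⟨ext1Equiv k hS ω j t (hdual _ hK) hE (hext 1 le_rfl)
        (hcoh j (by omega) (Nat.lt_succ_self j))⟩
    · have e1 := extShift k hS ω i (hext i hi) (hext (i + 1) (by omega))
      obtain ⟨e2⟩ := ih (by omega) _ hK (j + 1) (by omega)
      have e3 := cohShift k hS j (hcoh j (by omega) (by omega))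
        (hcoh (j + 1) (by omega) (by omega))
      exact ⟨e1.symm.trans (e2.trans e3.dualMap)⟩

end Abstract

section Pres

variable (k : Type u) [Field k] (n : ℕ) {X : Scheme.{u}} (ι : X ⟶ CohB1.ProjSpace n k)
  [IsClosedImmersion ι]

/-- coherent modules on a closed subscheme of projective space are quotients of sums of (pulled
back) twists `O_X(-q)`, for all large `q` -/
theorem exists_pres_closed (F : X.Modules) (hF : Coh.IsCoh F) :
    ∃ n₀ : ℕ, ∀ q : ℕ, n₀ ≤ q → ∃ (m : ℕ)
      (π : (∐ fun _ : Fin m => (Scheme.Modules.pullback ι).obj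
        (Twist.twistProjSpace n k (-(q : ℤ)))) ⟶ F), Epi π := by
  have hpF : Coh.IsCoh ((Scheme.Modules.pushforward ι).obj F) :=
    FinPush.isCoh_pushforward ι F hF
  obtain ⟨n₀, h⟩ := Groth.Agent.S4402.result (CohB1.polyGrading n k) (sX n k)
    (sX_mem n k) (irrelevant_eq n k) ((Scheme.Modules.pushforward ι).obj F) hpF.1 hpF.2
  refine ⟨n₀, fun q hq => ?_⟩
  obtain ⟨m, π', hπ'⟩ := h q hq
  let π₀ : (∐ fun _ : Fin m => Twist.twistProjSpace n k (-(q : ℤ))) ⟶
    (Scheme.Modules.pushforward ι).obj F := π'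
  haveI : Epi π₀ := hπ'
  let adj := Scheme.Modules.pullbackPushforwardAdjunction ι
  haveI := (ClImm.fullyFaithfulPushforward ι).full
  haveI := (ClImm.fullyFaithfulPushforward ι).faithful
  haveI : IsIso (adj.counit.app F) := inferInstance
  haveI : PreservesColimitsOfSize.{0, 0} (Scheme.Modules.pullback ι) :=
    adj.leftAdjoint_preservesColimits
  haveI : (Scheme.Modules.pullback ι).PreservesEpimorphisms :=
    Functor.preservesEpimorphisms_of_adjunction adj
  let iso := PreservesCoproduct.iso (Scheme.Modules.pullback ι)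
    (fun _ : Fin m => Twist.twistProjSpace n k (-(q : ℤ)))
  haveI : Epi ((Scheme.Modules.pullback ι).map π₀) := inferInstance
  refine ⟨m, iso.inv ≫ (Scheme.Modules.pullback ι).map π₀ ≫ adj.counit.app F, ?_⟩
  infer_instance

end Pres

section Main

variable (k : Type u) [Field k] (n r s : ℕ) (hr : r ≤ n) (hs : s ≤ r)
  (X : Scheme.{u}) [X.Over (Spec (CommRingCat.of k))] (ι : X ⟶ CohB1.ProjSpace n k)
  [IsClosedImmersion ι]
  (hι : ι ≫ CohB1.ProjSpace.toSpec n k = X ↘ Spec (CommRingCat.of k))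
  (heq : ∀ Z : Set ↥X, Z ∈ irreducibleComponents ↥X → topologicalKrullDim ↥Z = (r : WithBot ℕ∞))

local notation "PP" => CohB1.ProjSpace n k
local notation "ωP" => Twist.twistProjSpace n k (-((n : ℤ) + 1))

include heq in
theorem dim_le : topologicalKrullDim ↥X ≤ (r : WithBot ℕ∞) := by
  rw [Groth.Agent.Helper4.TD.topologicalKrullDim_eq_iSup_irreducibleComponents]
  exact iSup₂_le fun Y hY => (heq Y hY).le

include hr heq in
theorem isZero_extSh_lt
    [ModSite.HasSheafHom (O := (PP).sheaf)
      ((Scheme.Modules.pushforward ι).obj (Coh.structureModule X))]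
    [HasInjectiveResolutions (ModSite.Mod (PP).sheaf)] (q : ℕ) (hq : q < n - r) :
    IsZero ((ModSite.extSh (O := (PP).sheaf)
      ((Scheme.Modules.pushforward ι).obj (Coh.structureModule X)) q).obj ωP) := by
  have hr' : topologicalKrullDim ↥X + ((n - r : ℕ) : WithBot ℕ∞) ≤ (n : WithBot ℕ∞) := by
    refine (add_le_add (dim_le r X heq) le_rfl).trans ?_
    have : r + (n - r) = n := by omega
    exact_mod_cast this.le
  exact Groth.Agent.Helper3.ExtReg.isZero_extSh_of_locally_regular _ _
    (InvInv2.isFinLocFree_of_isInvertible (ClBridge2.isInvertible_twist n k _)) (n - r)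
    (ProjCodim.locally_regular ι (n - r) hr' (Coh.structureModule X)) q hq

include hr hs hι heq in
/-- **Duality in a range** -/
theorem main
    [ModSite.HasSheafHom (O := (PP).sheaf)
      ((Scheme.Modules.pushforward ι).obj (Coh.structureModule X))]
    [HasInjectiveResolutions (ModSite.Mod (PP).sheaf)]
    (ω : X.Modules) (hω : Nonempty ((Scheme.Modules.pushforward ι).obj ω ≅
      (ModSite.extSh (O := (PP).sheaf)
        ((Scheme.Modules.pushforward ι).obj (Coh.structureModule X)) (n - r)).obj ωP))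
    [HasExt.{u} X.Modules]
    (hiii : ∀ p : ℕ, r - s ≤ p → p < r →
      IsZero ((ModSite.extSh (O := (PP).sheaf)
        ((Scheme.Modules.pushforward ι).obj (Coh.structureModule X)) (n - p)).obj ωP))
    (F : X.Modules) (hF : Coh.IsCoh F) (i : ℕ) (hi : i ≤ s) :
    Nonempty (Abelian.Ext F ω i ≃ₗ[k] Module.Dual k (Coh.HH X F (r - i))) := by
  haveI : IsLocallyNoetherian PP := SerreFin.instLN n k
  haveI : IsLocallyNoetherian X := LocallyOfFiniteType.isLocallyNoetherian ι
  obtain ⟨t, ht⟩ := DualizingCl.exists_dualizing k n ι hι (n - r) r (by omega)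
    (fun q hq => isZero_extSh_lt k n r hr X ι heq q hq) ω hω
  have hωP : Coh.IsCoh ωP := SerreFin.isCoh_twist n k _
  have hωcoh : Coh.IsCoh ω := by
    obtain ⟨e0⟩ := hω
    apply ClImmRefl.isCoh_of_push ι
    exact Groth.Agent.Lib.Helper5.LocalCoh.isCoh_of_iso e0.symm
      (isCoh_extSh _ ωP (ChangeRings.isCoh_push_unit ι) hωP (n - r))
  -- Serre vanishing for Ext
  obtain ⟨N₁, hN₁⟩ := TwistExtCl.exists_subsingleton_ext_pullback_twist k n ι ω hωcoh
  -- vanishing of the cohomology of negative twists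
  have hii := (Groth.Agent.S11904.result k n r s hr hs X ι heq).mpr hiii
  have hii' : ∀ p : ℕ, ∃ m₀ : ℤ, r - s ≤ p → p < r → ∀ m : ℤ, m₀ ≤ m →
      Subsingleton (Coh.HH X ((Scheme.Modules.pullback ι).obj
        (Twist.twistProjSpace n k (-m))) p) := by
    intro p
    by_cases h : r - s ≤ p ∧ p < r
    · obtain ⟨m₀, h0⟩ := hii p h.1 h.2
      exact ⟨m₀, fun _ _ => h0⟩
    · exact ⟨0, fun h1 h2 => absurd ⟨h1, h2⟩ h⟩
  choose M hM using hii'
  obtain ⟨m₁, hm₁⟩ := ((Finset.range r).image M).exists_le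
  have hm₁' : ∀ p : ℕ, p < r → M p ≤ m₁ := fun p hp =>
    hm₁ _ (Finset.mem_image.2 ⟨p, Finset.mem_range.2 hp, rfl⟩)
  refine ext_duality_range k r ω t Coh.IsCoh s ht ?_ i hi F hF (r - i) (by omega)
  intro G hG
  obtain ⟨n₀, hn₀⟩ := exists_pres_closed k n ι G hG
  let q : ℕ := max n₀ (max N₁.toNat m₁.toNat)
  have hq0 : n₀ ≤ q := le_max_left _ _
  have hq1 : N₁ ≤ (q : ℤ) := by
    have : N₁.toNat ≤ q := (le_max_left _ _).trans (le_max_right _ _)
    omega
  have hq2 : m₁ ≤ (q : ℤ) := by
    have : m₁.toNat ≤ q := (le_max_right _ _).trans (le_max_right _ _)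
    omega
  obtain ⟨m, π, hπ⟩ := hn₀ q hq0
  have hB : Coh.IsCoh ((Scheme.Modules.pullback ι).obj (Twist.twistProjSpace n k (-(q : ℤ)))) :=
    InvQc.isCoh_of_isInvertible _
      (PullGen.isInvertible_pullback ι (ClBridge2.isInvertible_twist n k (-(q : ℤ))))
  have hE : Coh.IsCoh (∐ fun _ : Fin m => (Scheme.Modules.pullback ι).obj
      (Twist.twistProjSpace n k (-(q : ℤ)))) := by
    haveI : ((Scheme.Modules.pullback ι).obj
        (Twist.twistProjSpace n k (-(q : ℤ)))).IsQuasicoherent := hB.1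
    exact ⟨FinSigma.isQuasicoherent_sigma _, VT.isFT_sigma _ (fun _ => hB.2)⟩
  have hK : Coh.IsCoh (kernel π) := FtLocal.isCoh_kernel hE hG π
  refine ⟨_, π, hπ, hK, ht _ hE, fun a ha => ?_, fun j hj1 hj2 => ?_⟩
  · apply subsingleton_ext_sigma
    intro _
    exact hN₁ q hq1 a ha
  · exact SerreVan.subsingleton_sigma k (𝟭 _) (fun _ : Fin m => (Scheme.Modules.pullback ι).obj
      (Twist.twistProjSpace n k (-(q : ℤ)))) j
      (fun _ => hM j hj1 hj2 q ((hm₁' j hj2).trans hq2))

end Main

end Groth.Agent.Helper2.DualRange
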