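import Mathlib
import Groth.Prelude
import Groth.Agent.Lib.Helper2.HomExt.PureDimCodim

/-!
# Pure dimensionality and the dimensions of the local rings at closed points, for schemes locally
of finite type over a field (helper2)
-/

set_option autoImplicit false
set_option backward.isDefEq.respectTransparency.types false
set_option synthInstance.maxHeartbeats 400000
set_option maxHeartbeats 4000000
set_option linter.style.haveILetI false
set_option linter.unusedSectionVars false

universe u

namespace Groth.Agent.Helper2.PureDimClosed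

open AlgebraicGeometry CategoryTheory
open Groth.Agent.Lib.Helper4.DimFT2 Groth.Agent.Lib.Helper4.RadBir3 Groth.Agent.Lib.Helper4.DimFT4

variable (k : Type u) [Field k] (X : Scheme.{u}) [X.Over (Spec (CommRingCat.of k))]
  [LocallyOfFiniteType (X ↘ (Spec (CommRingCat.of k)))]

include k in
/-- the local dimension at a closed point is the dimension of the local ring -/
theorem localDim_eq_stalk_of_isClosed (x : X) (hx : IsClosed ({x} : Set X)) :
    FlatMor.localDim X x = ringKrullDim (X.presheaf.stalk x) := by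
  obtain ⟨W, hW, hxW, -⟩ := exists_isAffineOpen_mem_and_subset (U := (⊤ : X.Opens)) (x := x)
    (by simp)
  rw [localDim_eq_chart k X hW x hxW]
  set z := hW.primeIdealOf ⟨x, hxW⟩ with hz
  have hzx : hW.fromSpec z = x := hW.fromSpec_primeIdealOf ⟨x, hxW⟩
  have hcl : IsClosed ({z} : Set (PrimeSpectrum Γ(X, W))) := by
    have h1 : IsClosed (hW.fromSpec ⁻¹' {x}) := hx.preimage hW.fromSpec.continuous
    have h2 : hW.fromSpec ⁻¹' {x} = {z} := by
      ext y
      simp only [Set.mem_preimage, Set.mem_singleton_iff]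
      constructor
      · intro hy
        exact hW.fromSpec.isOpenEmbedding.injective (hy.trans hzx.symm)
      · rintro rfl
        exact hzx
    rwa [h2] at h1
  haveI hmax : z.asIdeal.IsMaximal := (PrimeSpectrum.isClosed_singleton_iff_isMaximal z).1 hcl
  letI := X.presheaf.algebra_section_stalk (U := W) ⟨x, hxW⟩
  haveI := hW.isLocalization_stalk ⟨x, hxW⟩
  rw [← IsLocalization.AtPrime.ringKrullDim_eq_height z.asIdeal (X.presheaf.stalk x)]
  have h0 : ringKrullDim (Γ(X, W) ⧸ z.asIdeal) = 0 :=
    ringKrullDim_eq_zero_of_isField ((Ideal.Quotient.maximal_ideal_iff_isField_quotient _).1 hmax)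
  rw [h0, add_zero]

include k in
/-- pure dimension `n` gives local rings of dimension `n` at the closed points -/
theorem ringKrullDim_stalk_of_pure (n : ℕ)
    (heq : ∀ Z : Set ↥X, Z ∈ irreducibleComponents ↥X →
      topologicalKrullDim ↥Z = (n : WithBot ℕ∞))
    (x : X) (hx : IsClosed ({x} : Set X)) : ringKrullDim (X.presheaf.stalk x) = n := by
  rw [← localDim_eq_stalk_of_isClosed k X x hx]
  exact Groth.Agent.Helper2.HomExt.PureDimCodim.localDim_eq_of_pure k
    (X ↘ (Spec (CommRingCat.of k))) n heq x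

include k in
/-- if all local rings at closed points have dimension `n`, the scheme has pure dimension `n` -/
theorem dim_component_of_closedPoints [TopologicalSpace.NoetherianSpace X] (n : ℕ)
    (hn : topologicalKrullDim ↥X ≤ (n : WithBot ℕ∞))
    (h : ∀ x : X, IsClosed ({x} : Set X) → ringKrullDim (X.presheaf.stalk x) = n)
    (Z : Set ↥X) (hZ : Z ∈ irreducibleComponents ↥X) :
    topologicalKrullDim ↥Z = (n : WithBot ℕ∞) := by
  classical
  haveI : JacobsonSpace X := LocallyOfFiniteType.jacobsonSpace (X ↘ (Spec (CommRingCat.of k)))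
  apply le_antisymm ((topologicalKrullDim_subspace_le X Z).trans hn)
  have hfin : (irreducibleComponents ↥X).Finite :=
    TopologicalSpace.NoetherianSpace.finite_irreducibleComponents
  let 𝒮 : Finset (Set ↥X) := hfin.toFinset.erase Z
  have h𝒮cl : ∀ z ∈ 𝒮, IsClosed z := by
    intro z hz
    have hz' : z ∈ irreducibleComponents ↥X := hfin.mem_toFinset.1 (Finset.mem_of_mem_erase hz)
    exact isClosed_of_mem_irreducibleComponents z hz'
  have hTcl : IsClosed (⋃₀ (𝒮 : Set (Set ↥X))) := by
    rw [Set.sUnion_eq_biUnion]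
    exact Set.Finite.isClosed_biUnion 𝒮.finite_toSet (fun z hz => h𝒮cl z hz)
  have hZirr : IsIrreducible Z := hZ.1
  have hne : ¬ Z ⊆ ⋃₀ (𝒮 : Set (Set ↥X)) := by
    intro hsub
    obtain ⟨z, hz, hZz⟩ := isIrreducible_iff_sUnion_isClosed.1 hZirr 𝒮 h𝒮cl hsub
    have hz' : z ∈ irreducibleComponents ↥X := hfin.mem_toFinset.1 (Finset.mem_of_mem_erase hz)
    have : z ≤ Z := hZ.2 hz'.1 hZz
    have hzZ : z = Z := le_antisymm this hZz
    exact (Finset.ne_of_mem_erase hz) hzZ
  -- the open complement
  have hUo : IsOpen (⋃₀ (𝒮 : Set (Set ↥X)))ᶜ := hTcl.isOpen_compl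
  have hUne : ((⋃₀ (𝒮 : Set (Set ↥X)))ᶜ).Nonempty := by
    obtain ⟨y, hyZ, hyT⟩ := Set.not_subset.1 hne
    exact ⟨y, hyT⟩
  have hdense : Dense (closedPoints ↥X) := dense_iff_closure_eq.2 closure_closedPoints
  obtain ⟨x, hxcl, hxU⟩ := hdense.exists_mem_open hUo hUne
  have hUZ : (⋃₀ (𝒮 : Set (Set ↥X)))ᶜ ⊆ Z := by
    intro y hy
    by_contra hyZ
    apply hy
    have hc : irreducibleComponent y ∈ irreducibleComponents ↥X :=
      irreducibleComponent_mem_irreducibleComponents y
    have hcne : irreducibleComponent y ≠ Z := fun h0 => hyZ (h0 ▸ mem_irreducibleComponent)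
    exact Set.mem_sUnion.2 ⟨irreducibleComponent y,
      Finset.mem_coe.2 (Finset.mem_erase.2 ⟨hcne, hfin.mem_toFinset.2 hc⟩),
      mem_irreducibleComponent⟩
  have h1 : FlatMor.localDim X x = n := by
    rw [localDim_eq_stalk_of_isClosed k X x hxcl]
    exact h x hxcl
  rw [← h1]
  unfold FlatMor.localDim
  refine (iInf_le _ (⟨⟨_, hUo⟩, hxU⟩ : {U : TopologicalSpace.Opens X // x ∈ U})).trans ?_
  exact topologicalKrullDim_mono hUZ

end Groth.Agent.Helper2.PureDimClosed
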