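import Mathlib
import Groth.Prelude
import Groth.Agent.Lib.Helper2.Dual.DualRange
import Groth.Agent.Lib.Helper2.Dual.CMExtVanish
import Groth.Agent.Lib.Helper2.Dual.PureDimClosed
import Groth.Agent.Lib.Helper4.DimIneq4
import Groth.Agent.Lib.Helper3.LerayCol2

/-!
# Serre duality on Cohen–Macaulay closed subschemes of projective space (helper2)
-/

set_option autoImplicit false
set_option backward.isDefEq.respectTransparency.types false
set_option synthInstance.maxHeartbeats 400000
set_option maxHeartbeats 4000000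
set_option linter.style.haveILetI false
set_option linter.unusedSectionVars false

universe u

namespace Groth.Agent.Helper2.CMDuality

open CategoryTheory CategoryTheory.Limits AlgebraicGeometry CategoryTheory.Abelian
open Groth.Agent.Helper1
open Groth.Agent.Lib.Helper4 Groth.Agent.Lib.Helper4.DuF5 Groth.Agent.Lib.Helper4.DuF6
  Groth.Agent.Lib.Helper4.DuF7 Groth.Agent.Lib.Helper4.DuF8 Groth.Agent.Lib.Helper4.SerreFin
open Groth.Agent.Helper2.HomExt Groth.Agent.Helper2.DualRange

section Dim

variable (k : Type u) [Field k] (N : ℕ)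

/-- the dimension of projective space is at most `N` -/
theorem dim_projSpace_le : topologicalKrullDim ↥(CohB1.ProjSpace N k) ≤ (N : WithBot ℕ∞) := by
  rw [Groth.Agent.Lib.Helper4.DimIneq4.topologicalKrullDim_eq_iSup_stalk]
  refine iSup_le fun p => ?_
  have hp : p ∈ (⨆ i, ProjCodim.V k N i : (CohB1.ProjSpace N k).Opens) := by
    rw [ProjCodim.iSup_V]; trivial
  obtain ⟨i, hi⟩ := TopologicalSpace.Opens.mem_iSup.1 hp
  have hV := ProjCodim.isAffineOpen_V k N i
  letI := (CohB1.ProjSpace N k).presheaf.algebra_section_stalk (U := ProjCodim.V k N i) ⟨p, hi⟩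
  haveI := hV.isLocalization_stalk ⟨p, hi⟩
  rw [IsLocalization.AtPrime.ringKrullDim_eq_height (hV.primeIdealOf ⟨p, hi⟩).asIdeal
    ((CohB1.ProjSpace N k).presheaf.stalk p), ← CMExtVanish.ringKrullDim_chart k N i]
  exact Ideal.height_le_ringKrullDim_of_isPrime

variable {X : Scheme.{u}} (ι : X ⟶ CohB1.ProjSpace N k) [IsClosedImmersion ι]

include k ι in
theorem dim_le_of_closedImmersion : topologicalKrullDim ↥X ≤ (N : WithBot ℕ∞) :=
  (Topology.IsInducing.topologicalKrullDim_le
    (Scheme.Hom.isClosedEmbedding ι).isInducing).trans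
    (dim_projSpace_le k N)

end Dim

section Main

variable (k : Type u) [Field k] (N n : ℕ) (X : Scheme.{u}) [X.Over (Spec (CommRingCat.of k))]
  (ι : X ⟶ CohB1.ProjSpace N k) [IsClosedImmersion ι]
  (hι : ι ≫ CohB1.ProjSpace.toSpec N k = X ↘ Spec (CommRingCat.of k))
  (hn : topologicalKrullDim ↥X = n)
  (hCM : ∀ x : X, IsClosed ({x} : Set ↥X) →
    LocCoh.IsCohenMacaulayLocalRing (X.presheaf.stalk x) ∧ ringKrullDim (X.presheaf.stalk x) = n)

local notation "PP" => CohB1.ProjSpace N k
local notation "ωP" => Twist.twistProjSpace N k (-((N : ℤ) + 1))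

include hι hn hCM in
/-- a Cohen–Macaulay closed subscheme all of whose local rings at closed points have dimension `n`
has pure dimension `n` -/
theorem heq_of_CM : ∀ Z : Set ↥X, Z ∈ irreducibleComponents ↥X →
    topologicalKrullDim ↥Z = (n : WithBot ℕ∞) := by
  haveI : LocallyOfFiniteType (X ↘ Spec (CommRingCat.of k)) := by rw [← hι]; infer_instance
  haveI : IsLocallyNoetherian PP := SerreFin.instLN N k
  haveI : IsLocallyNoetherian X := LocallyOfFiniteType.isLocallyNoetherian ι
  haveI : CompactSpace X := (Scheme.Hom.isClosedEmbedding ι).compactSpace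
  haveI : IsNoetherian X := {}
  exact fun Z hZ => PureDimClosed.dim_component_of_closedPoints k X n hn.le
    (fun x hx => (hCM x hx).2) Z hZ

include k ι hn in
theorem n_le : n ≤ N := by
  have h := dim_le_of_closedImmersion k N ι
  rw [hn] at h
  exact_mod_cast h

variable [HasExt.{u} X.Modules] (ω : X.Modules) (hω : Coh.IsCoh ω) (t : Coh.HH X ω n →ₗ[k] k)
  (hdual : ∀ F : X.Modules, Coh.IsCoh F → DuB1.Dual k n ω t F)

include hι hn hCM hω hdual in
/-- good presentations of coherent modules on a Cohen–Macaulay closed subscheme -/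
theorem hasPres (G : X.Modules) (hG : Coh.IsCoh G) : HasPres k n ω t Coh.IsCoh G := by
  haveI : IsLocallyNoetherian PP := SerreFin.instLN N k
  haveI : IsLocallyNoetherian X := LocallyOfFiniteType.isLocallyNoetherian ι
  haveI : ModSite.HasSheafHom (O := (PP).sheaf)
      ((Scheme.Modules.pushforward ι).obj (Coh.structureModule X)) :=
    Groth.Agent.Helper3.SHomEx.hasSheafHom _
  haveI : HasInjectiveResolutions (ModSite.Mod (PP).sheaf) :=
    Groth.Agent.Helper3.LerayCol.hasInjectiveResolutions PP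
  have hnN : n ≤ N := n_le k N n X ι hn
  have heq := heq_of_CM k N n X ι hι hn hCM
  have hωP : Coh.IsCoh ωP := SerreFin.isCoh_twist N k _
  haveI : (ωP).IsQuasicoherent := hωP.1
  -- Serre vanishing for Ext
  obtain ⟨N₁, hN₁⟩ := TwistExtCl.exists_subsingleton_ext_pullback_twist k N ι ω hω
  -- vanishing of the cohomology of negative twists
  have hiii : ∀ p : ℕ, n - n ≤ p → p < n →
      IsZero ((ModSite.extSh (O := (PP).sheaf)
        ((Scheme.Modules.pushforward ι).obj (Coh.structureModule X)) (N - p)).obj ωP) :=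
    fun p _ hp => CMExtVanish.isZero_extSh_of_CM k N ι n (N - n) (by omega) hCM ωP (N - p)
      (by omega)
  have hii := (Groth.Agent.S11904.result k N n n hnN le_rfl X ι heq).mpr hiii
  have hii' : ∀ p : ℕ, ∃ m₀ : ℤ, p < n → ∀ m : ℤ, m₀ ≤ m →
      Subsingleton (Coh.HH X ((Scheme.Modules.pullback ι).obj
        (Twist.twistProjSpace N k (-m))) p) := by
    intro p
    by_cases h : p < n
    · obtain ⟨m₀, h0⟩ := hii p (by omega) h
      exact ⟨m₀, fun _ => h0⟩
    · exact ⟨0, fun h1 => absurd h1 h⟩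
  choose M hM using hii'
  obtain ⟨m₁, hm₁⟩ := ((Finset.range n).image M).exists_le
  have hm₁' : ∀ p : ℕ, p < n → M p ≤ m₁ := fun p hp =>
    hm₁ _ (Finset.mem_image.2 ⟨p, Finset.mem_range.2 hp, rfl⟩)
  obtain ⟨n₀, hn₀⟩ := exists_pres_closed k N ι G hG
  let q : ℕ := max n₀ (max N₁.toNat m₁.toNat)
  have hq0 : n₀ ≤ q := le_max_left _ _
  have hq1 : N₁ ≤ (q : ℤ) := by
    have : N₁.toNat ≤ q := (le_max_left _ _).trans (le_max_right _ _)
    omega
  have hq2 : m₁ ≤ (q : ℤ) := by
    have : m₁.toNat ≤ q := (le_max_right _ _).trans (le_max_right _ _)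
    omega
  obtain ⟨m, π, hπ⟩ := hn₀ q hq0
  have hB : Coh.IsCoh ((Scheme.Modules.pullback ι).obj (Twist.twistProjSpace N k (-(q : ℤ)))) :=
    InvQc.isCoh_of_isInvertible _
      (PullGen.isInvertible_pullback ι (ClBridge2.isInvertible_twist N k (-(q : ℤ))))
  have hE : Coh.IsCoh (∐ fun _ : Fin m => (Scheme.Modules.pullback ι).obj
      (Twist.twistProjSpace N k (-(q : ℤ)))) := by
    haveI : ((Scheme.Modules.pullback ι).obj
        (Twist.twistProjSpace N k (-(q : ℤ)))).IsQuasicoherent := hB.1
    exact ⟨FinSigma.isQuasicoherent_sigma _, VT.isFT_sigma _ (fun _ => hB.2)⟩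
  have hK : Coh.IsCoh (kernel π) := FtLocal.isCoh_kernel hE hG π
  refine ⟨_, π, hπ, hK, hdual _ hE, fun a ha => ?_, fun j hj => ?_⟩
  · apply subsingleton_ext_sigma
    intro _
    exact hN₁ q hq1 a ha
  · exact SerreVan.subsingleton_sigma k (𝟭 _) (fun _ : Fin m => (Scheme.Modules.pullback ι).obj
      (Twist.twistProjSpace N k (-(q : ℤ)))) j
      (fun _ => hM j hj q ((hm₁' j hj).trans hq2))

include hι hn hCM hω hdual in
/-- **Serre duality on a Cohen–Macaulay closed subscheme of projective space.** -/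
theorem main (F : X.Modules) (hF : Coh.IsCoh F) :
    (∀ i : ℕ, i ≤ n → Nonempty (Abelian.Ext F ω i ≃ₗ[k] Module.Dual k (Coh.HH X F (n - i)))) ∧
    ∀ i : ℕ, n < i → Subsingleton (Abelian.Ext F ω i) := by
  have hpres := hasPres k N n X ι hι hn hCM ω hω t hdual
  refine ⟨fun i hi => ?_, fun i hi => ?_⟩
  · exact (ext_duality k n ω t Coh.IsCoh hdual hpres i).1 F hF (n - i) (by omega)
  · exact (ext_duality k n ω t Coh.IsCoh hdual hpres i).2 F hF hi

end Main

end Groth.Agent.Helper2.CMDuality
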