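import Mathlib
import Groth.Prelude
import Groth.Agent.Lib.Helper2.Dual.CMConvAlg
import Groth.Agent.Lib.Helper2.Dual.CMDuality
import Groth.Agent.Lib.Helper2.Dual.CMExtVanish
import Groth.Agent.Lib.Helper2.HomExt.TwistExt
import Groth.Agent.Lib.Helper2.HomExt.Tilde
import Groth.Agent.Lib.Helper1.TwistTriv
import Groth.Agent.Lib.Lead.TilT4
import Groth.Agent.Lib.Helper1.VT16
import Groth.Agent.Lib.Helper1.FinPush
import Groth.Agent.Lib.Helper1.Dv21
import Groth.Agent.Lib.Helper4.DimFT1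
import Groth.Agent.Lib.Helper4.DimIneq4
import Groth.Agent.Lib.Helper4.ClBridge2
import Groth.Agent.Lib.Helper8.Depth7
import Groth.Agent.Lib.Helper8.CMF3

/-!
# The converse: vanishing of the cohomology of the negative twists forces Cohen–Macaulayness
(helper2)
-/

set_option autoImplicit false
set_option backward.isDefEq.respectTransparency.types false
set_option synthInstance.maxHeartbeats 400000
set_option maxHeartbeats 4000000
set_option linter.style.haveILetI false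
set_option linter.unusedSectionVars false

universe u

namespace Groth.Agent.Helper2.CMConverse

open CategoryTheory CategoryTheory.Limits AlgebraicGeometry LocCoh
open Groth.Agent.Helper2.HomExt Groth.Agent.Helper2.CMExtVanish

variable (k : Type u) [Field k] (N : ℕ)

local notation "PP" => CohB1.ProjSpace N k
local notation "ωP" => Twist.twistProjSpace N k (-((N : ℤ) + 1))

/-- the standard charts of projective space -/
noncomputable abbrev jj (i : Fin (N + 1)) : Spec Γ(PP, ProjCodim.V k N i) ⟶ PP :=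
  (ProjCodim.isAffineOpen_V k N i).fromSpec

instance (i : Fin (N + 1)) : IsOpenImmersion (jj k N i) :=
  IsAffineOpen.isOpenImmersion_fromSpec (ProjCodim.isAffineOpen_V k N i)

/-- the sections of `ω_P` over a standard chart are free of rank one -/
theorem nonempty_sections_omega (i : Fin (N + 1)) :
    Nonempty (Γ((ωP).restrict (jj k N i), (⊤ : (Spec Γ(PP, ProjCodim.V k N i)).Opens))
      ≃ₗ[Γ(PP, ProjCodim.V k N i)] Γ(PP, ProjCodim.V k N i)) := by
  have hf : (MvPolynomial.X i : MvPolynomial (Fin (N + 1)) k) ∈ CohB1.polyGrading N k 1 := by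
    change MvPolynomial.X i ∈ MvPolynomial.homogeneousSubmodule (Fin (N + 1)) k 1
    exact MvPolynomial.isHomogeneous_X k i
  let j' : Spec Γ(PP, ProjCodim.V k N i) ⟶ Proj (CohB1.polyGrading N k) := jj k N i
  haveI : IsOpenImmersion j' :=
    IsAffineOpen.isOpenImmersion_fromSpec (ProjCodim.isAffineOpen_V k N i)
  have hj : j'.opensRange ≤
      Proj.basicOpen (CohB1.polyGrading N k) (MvPolynomial.X i) := by
    have h0 : (jj k N i).opensRange = ProjCodim.V k N i :=
      IsAffineOpen.opensRange_fromSpec (ProjCodim.isAffineOpen_V k N i)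
    exact h0.le
  obtain ⟨e⟩ := Groth.Agent.Helper1.TwistTriv.nonempty_twist_restrict_iso_of_le
    (CohB1.polyGrading N k) hf (-((N : ℤ) + 1)) j' hj
  have hmul : (-((N : ℤ) + 1)) * ((1 : ℕ) : ℤ) = -((N : ℤ) + 1) := by simp
  rw [hmul] at e
  exact ⟨(Groth.Agent.Lead.TilT.sectionsEquivOfIso
    (e ≪≫ (tildeSelf (R := Γ(PP, ProjCodim.V k N i))).symm) ⊤).trans
      (topEquiv _ (ModuleCat.of _ _)).symm⟩

variable {X : Scheme.{u}} (ι : X ⟶ CohB1.ProjSpace N k) [IsClosedImmersion ι]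

/-- from the vanishing of a local Ext sheaf to the vanishing of the Ext module on a chart -/
theorem subsingleton_ext_chart_of_isZero (i : Fin (N + 1)) (q : ℕ)
    [ModSite.HasSheafHom (O := (PP).sheaf) (FF ι)]
    [HasInjectiveResolutions (ModSite.Mod (PP).sheaf)]
    (hz : IsZero ((ModSite.extSh (O := (PP).sheaf) (FF ι) q).obj ωP)) :
    letI : Algebra Γ(PP, ProjCodim.V k N i) Γ(X, ι ⁻¹ᵁ ((jj k N i) ''ᵁ ⊤)) :=
      (ρ ι (jj k N i)).toAlgebra
    Subsingleton (Abelian.Ext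
      (ModuleCat.of Γ(PP, ProjCodim.V k N i) Γ(X, ι ⁻¹ᵁ ((jj k N i) ''ᵁ ⊤)))
      (ModuleCat.of Γ(PP, ProjCodim.V k N i) Γ(PP, ProjCodim.V k N i)) q) := by
  letI : Algebra Γ(PP, ProjCodim.V k N i) Γ(X, ι ⁻¹ᵁ ((jj k N i) ''ᵁ ⊤)) :=
    (ρ ι (jj k N i)).toAlgebra
  haveI := isRegularRing_chart k N i
  haveI : IsNoetherianRing Γ(PP, ProjCodim.V k N i) := inferInstance
  haveI : (ωP).IsQuasicoherent := (Groth.Agent.Lib.Helper4.SerreFin.isCoh_twist N k _).1
  obtain ⟨e⟩ := nonempty_restrict_extSh_iso_tilde (FF ι) ωP (ChangeRings.isCoh_push_unit ι)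
    (jj k N i) q
  have h1 := IsZero.of_iso (Functor.map_isZero (Scheme.Modules.restrictFunctor (jj k N i)) hz)
    e.symm
  have h2 := IsZero.of_full_of_faithful_of_isZero (tilde.functor Γ(PP, ProjCodim.V k N i)) _ h1
  have h3 := ModuleCat.subsingleton_of_isZero h2
  obtain ⟨eL⟩ := nonempty_sections_omega k N i
  exact CMConvAlg.subsingleton_ext_of_iso_right _ eL.toModuleIso q
    (CMConvAlg.subsingleton_ext_of_iso_left (ψ ι (jj k N i)).toModuleIso _ q h3)

/-- **the converse on the level of local Ext sheaves** -/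
theorem cm_of_isZero_extSh (n : ℕ) (hn : topologicalKrullDim ↥X = n) (hnN : n ≤ N)
    [ModSite.HasSheafHom (O := (PP).sheaf) (FF ι)]
    [HasInjectiveResolutions (ModSite.Mod (PP).sheaf)]
    (hz : ∀ q : ℕ, N - n < q → q ≤ N →
      IsZero ((ModSite.extSh (O := (PP).sheaf) (FF ι) q).obj ωP))
    (x : X) (hx : IsClosed ({x} : Set X)) :
    IsCohenMacaulayLocalRing (X.presheaf.stalk x) ∧ ringKrullDim (X.presheaf.stalk x) = n := by
  haveI : IsLocallyNoetherian PP := Groth.Agent.Lib.Helper4.SerreFin.instLN N k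
  haveI : IsLocallyNoetherian X := LocallyOfFiniteType.isLocallyNoetherian ι
  have hp : ι x ∈ (⨆ i, ProjCodim.V k N i : (PP).Opens) := by
    rw [ProjCodim.iSup_V]; trivial
  obtain ⟨i, hi⟩ := TopologicalSpace.Opens.mem_iSup.1 hp
  have hV : IsAffineOpen ((jj k N i) ''ᵁ ⊤) :=
    (isAffineOpen_top (Spec _)).image_of_isOpenImmersion (jj k N i)
  have hW : IsAffineOpen (ι ⁻¹ᵁ ((jj k N i) ''ᵁ ⊤)) := hV.preimage ι
  have himg : (jj k N i) ''ᵁ ⊤ = ProjCodim.V k N i := by
    rw [Scheme.Hom.image_top_eq_opensRange, IsAffineOpen.opensRange_fromSpec]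
  have hxW : x ∈ ι ⁻¹ᵁ ((jj k N i) ''ᵁ ⊤) := by
    rw [himg]; exact hi
  letI : Algebra Γ(PP, ProjCodim.V k N i) Γ(X, ι ⁻¹ᵁ ((jj k N i) ''ᵁ ⊤)) :=
    (ρ ι (jj k N i)).toAlgebra
  haveI := isRegularRing_chart k N i
  haveI : IsNoetherianRing Γ(PP, ProjCodim.V k N i) := inferInstance
  have hF : Coh.IsCoh (FF ι) := ChangeRings.isCoh_push_unit ι
  haveI : Module.Finite Γ(PP, ProjCodim.V k N i)
      Γ((FF ι).restrict (jj k N i), (⊤ : (Spec Γ(PP, ProjCodim.V k N i)).Opens)) :=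
    Groth.Agent.Helper1.AffFin.finite_restrict (FF ι) hF.1 hF.2 (jj k N i)
  haveI : Module.Finite Γ(PP, ProjCodim.V k N i) Γ(X, ι ⁻¹ᵁ ((jj k N i) ''ᵁ ⊤)) :=
    Module.Finite.equiv (ψ ι (jj k N i))
  haveI : IsNoetherianRing Γ(X, ι ⁻¹ᵁ ((jj k N i) ''ᵁ ⊤)) :=
    IsLocallyNoetherian.component_noetherian ⟨_, hW⟩
  -- the maximal ideal of the point
  set z := hW.primeIdealOf ⟨x, hxW⟩ with hz'
  have hzx : hW.fromSpec z = x := hW.fromSpec_primeIdealOf ⟨x, hxW⟩
  have hcl : IsClosed ({z} : Set (PrimeSpectrum Γ(X, ι ⁻¹ᵁ ((jj k N i) ''ᵁ ⊤)))) := by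
    have h1 : IsClosed (hW.fromSpec ⁻¹' {x}) := hx.preimage hW.fromSpec.continuous
    have h2 : hW.fromSpec ⁻¹' {x} = {z} := by
      ext y
      simp only [Set.mem_preimage, Set.mem_singleton_iff]
      constructor
      · intro hy
        exact hW.fromSpec.isOpenEmbedding.injective (hy.trans hzx.symm)
      · rintro rfl
        exact hzx
    rwa [h2] at h1
  haveI hmax : z.asIdeal.IsMaximal := (PrimeSpectrum.isClosed_singleton_iff_isMaximal z).1 hcl
  haveI : Algebra.IsIntegral Γ(PP, ProjCodim.V k N i) Γ(X, ι ⁻¹ᵁ ((jj k N i) ''ᵁ ⊤)) :=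
    Algebra.IsIntegral.of_finite _ _
  haveI hm : (z.asIdeal.comap (algebraMap Γ(PP, ProjCodim.V k N i)
      Γ(X, ι ⁻¹ᵁ ((jj k N i) ''ᵁ ⊤)))).IsMaximal :=
    Ideal.isMaximal_comap_of_isIntegral_of_isMaximal z.asIdeal
  -- the dimension of the regular local ring
  obtain ⟨e⟩ := ProjCodim.nonempty_chartEquiv k N i
  have hht : (z.asIdeal.comap (algebraMap Γ(PP, ProjCodim.V k N i)
      Γ(X, ι ⁻¹ᵁ ((jj k N i) ''ᵁ ⊤)))).height = N := by
    rw [← RingEquiv.height_comap e]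
    exact Groth.Agent.Lib.Helper4.DimFT1.mvPolynomial_height_of_isMaximal k N _
  have hN : ringKrullDim (Localization.AtPrime (z.asIdeal.comap
      (algebraMap Γ(PP, ProjCodim.V k N i) Γ(X, ι ⁻¹ᵁ ((jj k N i) ''ᵁ ⊤))))) = N := by
    rw [IsLocalization.AtPrime.ringKrullDim_eq_height (z.asIdeal.comap
      (algebraMap Γ(PP, ProjCodim.V k N i) Γ(X, ι ⁻¹ᵁ ((jj k N i) ''ᵁ ⊤)))), hht]
    rfl
  -- depth
  have hd1 := CMConvAlg.le_depth_localizedModule_of_ext Γ(PP, ProjCodim.V k N i)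
    (z.asIdeal.comap (algebraMap Γ(PP, ProjCodim.V k N i) Γ(X, ι ⁻¹ᵁ ((jj k N i) ''ᵁ ⊤))))
    N n hN hnN Γ(X, ι ⁻¹ᵁ ((jj k N i) ''ᵁ ⊤))
    (fun q hq1 hq2 => subsingleton_ext_chart_of_isZero k N ι i q (hz q hq1 hq2))
  have hd2 := CMConvAlg.le_depth_self_of_le_depth_localizedModule Γ(PP, ProjCodim.V k N i)
    Γ(X, ι ⁻¹ᵁ ((jj k N i) ''ᵁ ⊤)) n z.asIdeal hd1
  -- dimension
  letI := X.presheaf.algebra_section_stalk (U := ι ⁻¹ᵁ ((jj k N i) ''ᵁ ⊤)) ⟨x, hxW⟩
  haveI := hW.isLocalization_stalk ⟨x, hxW⟩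
  let eq : Localization.AtPrime z.asIdeal ≃+* X.presheaf.stalk x :=
    (IsLocalization.algEquiv z.asIdeal.primeCompl (Localization.AtPrime z.asIdeal)
      (X.presheaf.stalk x)).toRingEquiv
  have hdim : ringKrullDim (Localization.AtPrime z.asIdeal) ≤ n := by
    rw [ringKrullDim_eq_of_ringEquiv eq, ← hn]
    exact Groth.Agent.Lib.Helper4.DimIneq4.ringKrullDim_stalk_le X x
  have hdep : ((depth (Localization.AtPrime z.asIdeal) (Localization.AtPrime z.asIdeal) : ℕ∞) :
      WithBot ℕ∞) ≤ Module.supportDim (Localization.AtPrime z.asIdeal)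
        (Localization.AtPrime z.asIdeal) :=
    Groth.Agent.Helper8.Depth.depth_le_supportDim
  rw [Module.supportDim_self_eq_ringKrullDim] at hdep
  have h1 : (((n : ℕ) : ℕ∞) : WithBot ℕ∞) ≤
      ((depth (Localization.AtPrime z.asIdeal) (Localization.AtPrime z.asIdeal) : ℕ∞) :
        WithBot ℕ∞) := WithBot.coe_le_coe.2 hd2
  have hdimeq : ringKrullDim (Localization.AtPrime z.asIdeal) = n :=
    le_antisymm hdim (h1.trans hdep)
  have hdepeq : ((depth (Localization.AtPrime z.asIdeal) (Localization.AtPrime z.asIdeal) : ℕ∞) :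
      WithBot ℕ∞) = (((n : ℕ) : ℕ∞) : WithBot ℕ∞) := le_antisymm (hdep.trans hdim) h1
  have hCMA : IsCohenMacaulayLocalRing (Localization.AtPrime z.asIdeal) :=
    { supportDim_eq_depth := by
        rw [Module.supportDim_self_eq_ringKrullDim, hdimeq, hdepeq]
        rfl }
  refine ⟨Groth.Agent.Helper8.CMF.isCohenMacaulayLocalRing_of_ringEquiv eq hCMA, ?_⟩
  rw [← ringKrullDim_eq_of_ringEquiv eq]
  exact hdimeq

/-- vanishing of the cohomology of the negative twists of `O_X` versus the local Ext sheaves -/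
theorem vanishing_iff_isZero_extSh (p : ℕ) (hp : p ≤ N)
    [ModSite.HasSheafHom (O := (PP).sheaf) (FF ι)]
    [HasInjectiveResolutions (ModSite.Mod (PP).sheaf)] :
    (∃ m₀ : ℤ, ∀ m : ℤ, m₀ ≤ m →
        Subsingleton (Coh.HH X ((Scheme.Modules.pullback ι).obj
          (Twist.twistProjSpace N k (-m))) p)) ↔
      IsZero ((ModSite.extSh (O := (PP).sheaf) (FF ι) (N - p)).obj ωP) := by
  have hcohX : Coh.IsCoh (Coh.structureModule X) := Groth.Agent.Helper1.Dv.isCoh_structureModule X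
  have hcoh : Coh.IsCoh (FF ι) := Groth.Agent.Helper1.FinPush.isCoh_pushforward ι _ hcohX
  have h1 := Groth.Agent.Helper2.HomExt.TwistExt.main k N (FF ι) hcoh (N - p) (Nat.sub_le N p)
  rw [Nat.sub_sub_self hp] at h1
  rw [← h1]
  apply exists_congr
  intro m₀
  apply forall_congr'
  intro m
  apply imp_congr_right
  intro _
  haveI : Coh.IsQCoh (Coh.structureModule X) := hcohX.1
  rw [← Groth.Agent.Lib.Helper4.ClBridge2.subsingleton_twOn_iff N k ι (Coh.structureModule X)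
    (-m) p]
  obtain ⟨e⟩ := Groth.Agent.Helper1.VT.nonempty_unit_tensorMod_iso
    ((Scheme.Modules.pullback ι).obj (Twist.twistProjSpace N k (-m)))
  exact ⟨fun h => Groth.Agent.Lib.Helper4.ClBridge2.subsingleton_HH_of_iso e.symm p h,
    fun h => Groth.Agent.Lib.Helper4.ClBridge2.subsingleton_HH_of_iso e p h⟩

/-- **the converse**: if `H^p(X, O_X(-m)) = 0` for `p < n = dim X` and `m ≫ 0`, then `X` is
Cohen–Macaulay of pure dimension `n` -/
theorem cm_of_vanishing (n : ℕ) (hn : topologicalKrullDim ↥X = n)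
    (hvan : ∀ p : ℕ, p < n → ∃ m₀ : ℤ, ∀ m : ℤ, m₀ ≤ m →
      Subsingleton (Coh.HH X ((Scheme.Modules.pullback ι).obj
        (Twist.twistProjSpace N k (-m))) p))
    (x : X) (hx : IsClosed ({x} : Set X)) :
    IsCohenMacaulayLocalRing (X.presheaf.stalk x) ∧ ringKrullDim (X.presheaf.stalk x) = n := by
  haveI : ModSite.HasSheafHom (O := (PP).sheaf) (FF ι) :=
    Groth.Agent.Helper3.SHomEx.hasSheafHom _
  haveI : HasInjectiveResolutions (ModSite.Mod (PP).sheaf) :=
    Groth.Agent.Helper3.LerayCol.hasInjectiveResolutions PP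
  letI : X.Over (Spec (CommRingCat.of k)) := ⟨ι ≫ CohB1.ProjSpace.toSpec N k⟩
  have hnN : n ≤ N := CMDuality.n_le k N n X ι hn
  apply cm_of_isZero_extSh k N ι n hn hnN _ x hx
  intro q hq1 hq2
  have h1 := (vanishing_iff_isZero_extSh k N ι (N - q) (Nat.sub_le N q)).mp
    (hvan (N - q) (by omega))
  rwa [Nat.sub_sub_self hq2] at h1

end Groth.Agent.Helper2.CMConverse
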