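import Mathlib
import Groth.Prelude
import Groth.Agent.Lib.Helper2.Dual.CMConvAlg
import Groth.Agent.Lib.Helper2.Dual.CMpd
import Groth.Agent.Lib.Helper8.ABS15
import Groth.Agent.Lib.Helper8.Depth7
import Groth.Agent.Lib.Helper8.Depth3

/-!
# Depth of the localizations versus vanishing of `Ext` into a regular ring (helper2)
-/

set_option autoImplicit false
set_option backward.isDefEq.respectTransparency.types false
set_option synthInstance.maxHeartbeats 400000
set_option maxHeartbeats 4000000
set_option linter.style.haveILetI false
set_option linter.unusedSectionVars false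

universe u

namespace Groth.Agent.Helper2.DepthExt

open CategoryTheory CategoryTheory.Limits CategoryTheory.Abelian LocCoh

/-- over a regular local ring of dimension `N`: vanishing of `Ext^q(M, A)` for `N - s < q ≤ N`
(all `q ≤ N` if `s > N`) gives `depth M ≥ s` -/
theorem le_depth_of_ext_self' (A : Type u) [CommRing A] [IsRegularLocalRing A] (N s : ℕ)
    (hN : ringKrullDim A = N) (M : Type u) [AddCommGroup M] [Module A M] [Module.Finite A M]
    (h : ∀ q : ℕ, q ≤ N → N < q + s →
      Subsingleton (Ext (ModuleCat.of A M) (ModuleCat.of A A) q)) :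
    (s : ℕ∞) ≤ depth A M := by
  by_cases hs : s ≤ N
  · exact CMConvAlg.le_depth_of_ext_self A N s hN hs M (fun q hq1 hq2 => h q hq2 (by omega))
  · rw [not_le] at hs
    haveI : Module.Free A M := Groth.Agent.Helper8.ABS.free_of_ext_self_subsingleton A M N hN
      (fun j _ hj => h j hj (by omega))
    have h0 := h 0 (Nat.zero_le N) (by omega)
    haveI : Subsingleton M := by
      let b := Module.Free.chooseBasis A M
      have hc : ∀ (i : Module.Free.ChooseBasisIndex A M) (m : M), b.repr m i = 0 := by
        intro i m
        have h1 : Ext.mk₀ (ModuleCat.ofHom (b.coord i)) =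
            (0 : Ext (ModuleCat.of A M) (ModuleCat.of A A) 0) := Subsingleton.elim _ _
        have h2 : ModuleCat.ofHom (b.coord i) = 0 := by
          apply (Ext.mk₀_bijective _ _).1
          rw [h1, Ext.mk₀_zero]
        have h3 := congrArg (fun f : ModuleCat.of A M ⟶ ModuleCat.of A A => f.hom m) h2
        exact h3
      refine ⟨fun m m' => ?_⟩
      apply b.repr.injective
      ext i
      rw [hc i m, hc i m']
    rw [Groth.Agent.Helper8.Depth.depth_eq_top_of_subsingleton]
    exact le_top

/-- **depth of the localizations at the maximal ideals versus `Ext` into the ring**, for a finite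
module over a regular ring all of whose maximal ideals have height `N` -/
theorem ext_vanishing_iff_depth (R : Type u) [CommRing R] [IsRegularRing R] (N : ℕ)
    (hR : ringKrullDim R ≤ (N : WithBot ℕ∞))
    (hN : ∀ (𝔪 : Ideal R) [𝔪.IsMaximal], ringKrullDim (Localization.AtPrime 𝔪) = N)
    (M : Type u) [AddCommGroup M] [Module R M] [Module.Finite R M] (s : ℕ) :
    (∀ q : ℕ, q ≤ N → N < q + s →
      Subsingleton (Ext (ModuleCat.of R M) (ModuleCat.of R R) q)) ↔
    ∀ (𝔪 : Ideal R) [𝔪.IsMaximal],
      (s : ℕ∞) ≤ depth (Localization.AtPrime 𝔪) (LocalizedModule 𝔪.primeCompl M) := by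
  haveI : IsNoetherianRing R := inferInstance
  constructor
  · intro h 𝔪 _
    apply le_depth_of_ext_self' (Localization.AtPrime 𝔪) N s (hN 𝔪)
    intro q hq1 hq2
    let S := 𝔪.primeCompl
    have h1 := CMConvAlg.subsingleton_ext_localized R S (ModuleCat.of R M) (ModuleCat.of R R) q
      (h q hq1 hq2)
    let e₁ : (ModuleCat.localizedModuleFunctor.{u} S).obj (ModuleCat.of R M) ≅
        ModuleCat.of (Localization.AtPrime 𝔪) (LocalizedModule S M) :=
      (Shrink.linearEquiv (Localization S) (LocalizedModule S M)).toModuleIso
    let e₂ : (ModuleCat.localizedModuleFunctor.{u} S).obj (ModuleCat.of R R) ≅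
        ModuleCat.of (Localization.AtPrime 𝔪) (Localization.AtPrime 𝔪) :=
      ((Shrink.linearEquiv (Localization S) (LocalizedModule S R)).trans
        (Groth.Agent.Helper8.Depth.localizedModuleSelfEquiv 𝔪)).toModuleIso
    exact CMConvAlg.subsingleton_ext_of_iso_right _ e₂ q
      (CMConvAlg.subsingleton_ext_of_iso_left e₁ _ q h1)
  · intro h q hq1 hq2
    by_cases hs : s ≤ N
    · have hR' : ringKrullDim R ≤ ((s + (N - s) : ℕ) : WithBot ℕ∞) := by
        rw [Nat.add_sub_cancel' hs]; exact hR
      have hpd := CMpd.hasProjectiveDimensionLE_of_depth R s (N - s) hR' M h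
      exact HasProjectiveDimensionLT.subsingleton _ (N - s + 1) q (by omega) _
    · rw [not_le] at hs
      haveI : Subsingleton M := by
        apply Module.subsingleton_of_localization_maximal (R := R)
          (fun p ↦ LocalizedModule p.primeCompl M)
          (fun p ↦ LocalizedModule.mkLinearMap p.primeCompl M)
        intro 𝔪 h𝔪
        by_contra hnt
        rw [not_subsingleton_iff_nontrivial] at hnt
        have h1 := h 𝔪
        have h2 : ((depth (Localization.AtPrime 𝔪) (LocalizedModule 𝔪.primeCompl M) : ℕ∞) :
            WithBot ℕ∞) ≤ Module.supportDim (Localization.AtPrime 𝔪)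
              (LocalizedModule 𝔪.primeCompl M) :=
          Groth.Agent.Helper8.Depth.depth_le_supportDim
        have h3 : Module.supportDim (Localization.AtPrime 𝔪) (LocalizedModule 𝔪.primeCompl M) ≤
            ringKrullDim (Localization.AtPrime 𝔪) := Module.supportDim_le_ringKrullDim _ _
        rw [hN 𝔪] at h3
        have h4 : (((s : ℕ) : ℕ∞) : WithBot ℕ∞) ≤ (((N : ℕ) : ℕ∞) : WithBot ℕ∞) :=
          (WithBot.coe_le_coe.2 h1).trans (h2.trans h3)
        have h5 : s ≤ N := by exact_mod_cast h4
        omega
      have hz : IsZero (ModuleCat.of R M) := ModuleCat.isZero_of_subsingleton _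
      have := hz.hasProjectiveDimensionLT_zero
      exact HasProjectiveDimensionLT.subsingleton (ModuleCat.of R M) 0 q (by omega) _

end Groth.Agent.Helper2.DepthExt
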