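import Mathlib
import Groth.Prelude
import Groth.Agent.Lib.Helper2.Dual.DepthExt
import Groth.Agent.Lib.Helper2.Dual.CMConverse
import Groth.Agent.Lib.Helper4.CohHartogs1
import Groth.Agent.Lib.Lead.SD1
import Groth.Agent.Lib.Lead.FLF4
import Groth.Agent.Lib.Lead.TilT4
import Groth.Agent.S0022

/-!
# Coherent sheaves on projective space: cohomology of the negative twists, local Ext sheaves, and
the depth of the stalks at closed points (helper2)
-/

set_option autoImplicit false
set_option backward.isDefEq.respectTransparency.types false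
set_option synthInstance.maxHeartbeats 400000
set_option maxHeartbeats 4000000
set_option linter.style.haveILetI false
set_option linter.unusedSectionVars false

universe u

namespace Groth.Agent.Helper2.PnDepth

open CategoryTheory CategoryTheory.Limits AlgebraicGeometry LocCoh
open Groth.Agent.Helper2.HomExt Groth.Agent.Helper2.CMExtVanish Groth.Agent.Helper2.CMConverse
open Groth.Agent.Lib.Helper4.RadBir3

variable (k : Type u) [Field k] (N : ℕ)

local notation "PP" => CohB1.ProjSpace N k
local notation "ωP" => Twist.twistProjSpace N k (-((N : ℤ) + 1))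

variable (F : (CohB1.ProjSpace N k).Modules) (hF : Coh.IsCoh F)

include hF in
/-- the local Ext sheaves into `ω_P` vanish iff the Ext modules into the ring vanish on the
standard charts -/
theorem isZero_extSh_iff_charts (q : ℕ) [ModSite.HasSheafHom (O := (PP).sheaf) F]
    [HasInjectiveResolutions (ModSite.Mod (PP).sheaf)] :
    IsZero ((ModSite.extSh (O := (PP).sheaf) F q).obj ωP) ↔
    ∀ i : Fin (N + 1), Subsingleton (Abelian.Ext
      (ModuleCat.of Γ(PP, ProjCodim.V k N i)
        Γ(F.restrict (jj k N i), (⊤ : (Spec Γ(PP, ProjCodim.V k N i)).Opens)))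
      (ModuleCat.of Γ(PP, ProjCodim.V k N i) Γ(PP, ProjCodim.V k N i)) q) := by
  haveI : IsLocallyNoetherian PP := Groth.Agent.Lib.Helper4.SerreFin.instLN N k
  haveI : (ωP).IsQuasicoherent := (Groth.Agent.Lib.Helper4.SerreFin.isCoh_twist N k _).1
  constructor
  · intro hz i
    haveI := isRegularRing_chart k N i
    haveI : IsNoetherianRing Γ(PP, ProjCodim.V k N i) := inferInstance
    obtain ⟨e⟩ := nonempty_restrict_extSh_iso_tilde F ωP hF (jj k N i) q
    have h1 := IsZero.of_iso
      (Functor.map_isZero (Scheme.Modules.restrictFunctor (jj k N i)) hz) e.symm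
    have h2 := IsZero.of_full_of_faithful_of_isZero (tilde.functor Γ(PP, ProjCodim.V k N i)) _ h1
    have h3 := ModuleCat.subsingleton_of_isZero h2
    obtain ⟨eL⟩ := nonempty_sections_omega k N i
    exact CMConvAlg.subsingleton_ext_of_iso_right _ eL.toModuleIso q h3
  · intro h
    apply isZero_of_restrict_fromSpec_cover _ (ProjCodim.V k N) (ProjCodim.isAffineOpen_V k N)
      (ProjCodim.iSup_V k N)
    intro i
    haveI := isRegularRing_chart k N i
    haveI : IsNoetherianRing Γ(PP, ProjCodim.V k N i) := inferInstance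
    obtain ⟨e⟩ := nonempty_restrict_extSh_iso_tilde F ωP hF (jj k N i) q
    obtain ⟨eL⟩ := nonempty_sections_omega k N i
    haveI := CMConvAlg.subsingleton_ext_of_iso_right _ eL.toModuleIso.symm q (h i)
    refine IsZero.of_iso ?_ e
    exact Functor.map_isZero (tilde.functor _) (ModuleCat.isZero_of_subsingleton _)

/-- the local rings of the standard charts at their maximal ideals have dimension `N` -/
theorem ringKrullDim_localization_chart (i : Fin (N + 1)) (𝔪 : Ideal Γ(PP, ProjCodim.V k N i))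
    [𝔪.IsMaximal] : ringKrullDim (Localization.AtPrime 𝔪) = N := by
  obtain ⟨e⟩ := ProjCodim.nonempty_chartEquiv k N i
  rw [IsLocalization.AtPrime.ringKrullDim_eq_height 𝔪, ← RingEquiv.height_comap e,
    Groth.Agent.Lib.Helper4.DimFT1.mvPolynomial_height_of_isMaximal k N _]
  rfl

attribute [local instance] Groth.Agent.Lead.SD.stalkModule

include hF in
/-- the depth of the stalk at a point of a standard chart -/
theorem depth_stalk_eq (i : Fin (N + 1)) (x : PP) (hx : x ∈ ProjCodim.V k N i) :
    depth ((PP).presheaf.stalk x) (F.presheaf.stalk x) =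
      depth (Localization.AtPrime
          ((ProjCodim.isAffineOpen_V k N i).primeIdealOf ⟨x, hx⟩).asIdeal)
        (LocalizedModule ((ProjCodim.isAffineOpen_V k N i).primeIdealOf ⟨x, hx⟩).asIdeal.primeCompl
          Γ(F.restrict (jj k N i), (⊤ : (Spec Γ(PP, ProjCodim.V k N i)).Opens))) := by
  haveI : F.IsQuasicoherent := hF.1
  haveI := Groth.Agent.Lead.SD.isLocalizedModule_germ F (ProjCodim.isAffineOpen_V k N i) ⟨x, hx⟩
  exact Groth.Agent.Lib.Helper4.CohHartogs1.depth_stalk_eq_of_isLocalizedModule F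
    (ProjCodim.isAffineOpen_V k N i) ⟨x, hx⟩
    ((Groth.Agent.Lead.SD.germₗ F ⟨x, hx⟩) ∘ₗ
      (Groth.Agent.Lead.FLF.sectionsLinearEquiv (ProjCodim.isAffineOpen_V k N i) F).toLinearMap)

include hF in
/-- depth at the closed points versus depth at the maximal ideals of the charts -/
theorem depth_closedPoints_iff (s : ℕ) :
    (∀ x : PP, IsClosed ({x} : Set PP) →
      (s : ℕ∞) ≤ depth ((PP).presheaf.stalk x) (F.presheaf.stalk x)) ↔
    ∀ (i : Fin (N + 1)) (𝔪 : Ideal Γ(PP, ProjCodim.V k N i)) [𝔪.IsMaximal],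
      (s : ℕ∞) ≤ depth (Localization.AtPrime 𝔪) (LocalizedModule 𝔪.primeCompl
        Γ(F.restrict (jj k N i), (⊤ : (Spec Γ(PP, ProjCodim.V k N i)).Opens))) := by
  haveI : JacobsonSpace PP :=
    LocallyOfFiniteType.jacobsonSpace (CohB1.ProjSpace.toSpec N k)
  constructor
  · intro h i 𝔪 h𝔪
    have hV := ProjCodim.isAffineOpen_V k N i
    let z : PrimeSpectrum Γ(PP, ProjCodim.V k N i) := ⟨𝔪, h𝔪.isPrime⟩
    have hxV : hV.fromSpec z ∈ ProjCodim.V k N i := fromSpec_mem hV z
    have hcl := isClosed_fromSpec_of_isMaximal hV 𝔪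
    have h1 := h _ hcl
    rw [depth_stalk_eq k N F hF i _ hxV] at h1
    have key : ∀ z' : PrimeSpectrum Γ(PP, ProjCodim.V k N i), z' = z →
        (s : ℕ∞) ≤ depth (Localization.AtPrime z'.asIdeal)
          (LocalizedModule z'.asIdeal.primeCompl
            Γ(F.restrict (jj k N i), (⊤ : (Spec Γ(PP, ProjCodim.V k N i)).Opens))) →
        (s : ℕ∞) ≤ depth (Localization.AtPrime 𝔪) (LocalizedModule 𝔪.primeCompl
          Γ(F.restrict (jj k N i), (⊤ : (Spec Γ(PP, ProjCodim.V k N i)).Opens))) := by
      rintro _ rfl h0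
      exact h0
    exact key _ (primeIdealOf_fromSpec hV z) h1
  · intro h x hx
    have hp : x ∈ (⨆ i, ProjCodim.V k N i : (PP).Opens) := by
      rw [ProjCodim.iSup_V]; trivial
    obtain ⟨i, hi⟩ := TopologicalSpace.Opens.mem_iSup.1 hp
    have hV := ProjCodim.isAffineOpen_V k N i
    set z := hV.primeIdealOf ⟨x, hi⟩ with hz'
    have hzx : hV.fromSpec z = x := hV.fromSpec_primeIdealOf ⟨x, hi⟩
    have hcl : IsClosed ({z} : Set (PrimeSpectrum Γ(PP, ProjCodim.V k N i))) := by
      have h1 : IsClosed (hV.fromSpec ⁻¹' {x}) := hx.preimage hV.fromSpec.continuous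
      have h2 : hV.fromSpec ⁻¹' {x} = {z} := by
        ext y
        simp only [Set.mem_preimage, Set.mem_singleton_iff]
        constructor
        · intro hy
          exact hV.fromSpec.isOpenEmbedding.injective (hy.trans hzx.symm)
        · rintro rfl
          exact hzx
      rwa [h2] at h1
    haveI hmax : z.asIdeal.IsMaximal := (PrimeSpectrum.isClosed_singleton_iff_isMaximal z).1 hcl
    rw [depth_stalk_eq k N F hF i x hi]
    exact h i z.asIdeal

include hF in
/-- vanishing of the low cohomology of the negative twists versus the local Ext sheaves -/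
theorem vanishing_iff_isZero_extSh (n : ℕ) [ModSite.HasSheafHom (O := (PP).sheaf) F]
    [HasInjectiveResolutions (ModSite.Mod (PP).sheaf)] :
    (∃ m₀ : ℤ, ∀ m : ℤ, m₀ ≤ m → ∀ i : ℕ, i ≤ n →
        Subsingleton (Coh.HH PP (CohB1.tensorMod F (Twist.twistProjSpace N k (-m))) i)) ↔
    ∀ q : ℕ, q ≤ N → N < q + (n + 1) →
      IsZero ((ModSite.extSh (O := (PP).sheaf) F q).obj ωP) := by
  constructor
  · rintro ⟨m₀, h⟩ q hq1 hq2
    exact (TwistExt.main k N F hF q hq1).mp ⟨m₀, fun m hm => h m hm (N - q) (by omega)⟩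
  · intro h
    have hex : ∀ i : ℕ, ∃ m₀ : ℤ, i ≤ n → ∀ m : ℤ, m₀ ≤ m →
        Subsingleton (Coh.HH PP (CohB1.tensorMod F (Twist.twistProjSpace N k (-m))) i) := by
      intro i
      by_cases hi : i ≤ n
      · by_cases hiN : i ≤ N
        · have h1 := TwistExt.main k N F hF (N - i) (Nat.sub_le N i)
          rw [Nat.sub_sub_self hiN] at h1
          obtain ⟨m₀, h0⟩ := h1.mpr (h (N - i) (Nat.sub_le N i) (by omega))
          exact ⟨m₀, fun _ => h0⟩
        · refine ⟨0, fun _ m _ => ?_⟩
          haveI : F.IsQuasicoherent := hF.1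
          haveI : (Twist.twistProjSpace N k (-m)).IsQuasicoherent :=
            (Groth.Agent.Lib.Helper4.SerreFin.isCoh_twist N k _).1
          haveI : Coh.IsQCoh (CohB1.tensorMod F (Twist.twistProjSpace N k (-m))) :=
            Groth.Agent.Lead.TilT.isQuasicoherent_tensorMod F _
          exact Groth.Agent.S0022.result N k _ i (by omega)
      · exact ⟨0, fun h0 => absurd h0 hi⟩
    choose M hM using hex
    obtain ⟨m₁, hm₁⟩ := ((Finset.range (n + 1)).image M).exists_le
    refine ⟨m₁, fun m hm i hi => hM i hi m (le_trans ?_ hm)⟩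
    exact hm₁ _ (Finset.mem_image.2 ⟨i, Finset.mem_range.2 (by omega), rfl⟩)

include hF in
/-- **cohomology of the negative twists versus depth at the closed points** -/
theorem vanishing_iff_depth (n : ℕ) :
    (∃ m₀ : ℤ, ∀ m : ℤ, m₀ ≤ m → ∀ i : ℕ, i ≤ n →
        Subsingleton (Coh.HH PP (CohB1.tensorMod F (Twist.twistProjSpace N k (-m))) i)) ↔
    ∀ x : PP, IsClosed ({x} : Set PP) →
      ((n + 1 : ℕ) : ℕ∞) ≤ depth ((PP).presheaf.stalk x) (F.presheaf.stalk x) := by
  haveI : IsLocallyNoetherian PP := Groth.Agent.Lib.Helper4.SerreFin.instLN N k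
  haveI : ModSite.HasSheafHom (O := (PP).sheaf) F := Groth.Agent.Helper3.SHomEx.hasSheafHom _
  haveI : HasInjectiveResolutions (ModSite.Mod (PP).sheaf) :=
    Groth.Agent.Helper3.LerayCol.hasInjectiveResolutions PP
  rw [vanishing_iff_isZero_extSh k N F hF n, depth_closedPoints_iff k N F hF (n + 1)]
  have hfin : ∀ i : Fin (N + 1), Module.Finite Γ(PP, ProjCodim.V k N i)
      Γ(F.restrict (jj k N i), (⊤ : (Spec Γ(PP, ProjCodim.V k N i)).Opens)) :=
    fun i => Groth.Agent.Helper1.AffFin.finite_restrict F hF.1 hF.2 (jj k N i)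
  have hA : ∀ i : Fin (N + 1),
      ((∀ q : ℕ, q ≤ N → N < q + (n + 1) → Subsingleton (Abelian.Ext
        (ModuleCat.of Γ(PP, ProjCodim.V k N i)
          Γ(F.restrict (jj k N i), (⊤ : (Spec Γ(PP, ProjCodim.V k N i)).Opens)))
        (ModuleCat.of Γ(PP, ProjCodim.V k N i) Γ(PP, ProjCodim.V k N i)) q)) ↔
      ∀ (𝔪 : Ideal Γ(PP, ProjCodim.V k N i)) [𝔪.IsMaximal],
        ((n + 1 : ℕ) : ℕ∞) ≤ depth (Localization.AtPrime 𝔪) (LocalizedModule 𝔪.primeCompl
          Γ(F.restrict (jj k N i), (⊤ : (Spec Γ(PP, ProjCodim.V k N i)).Opens)))) := by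
    intro i
    haveI := isRegularRing_chart k N i
    haveI := hfin i
    exact DepthExt.ext_vanishing_iff_depth Γ(PP, ProjCodim.V k N i) N
      (ringKrullDim_chart k N i).le (fun 𝔪 _ => ringKrullDim_localization_chart k N i 𝔪) _ (n + 1)
  constructor
  · intro h i
    exact (hA i).mp (fun q hq1 hq2 => (isZero_extSh_iff_charts k N F hF q).mp (h q hq1 hq2) i)
  · intro h q hq1 hq2
    exact (isZero_extSh_iff_charts k N F hF q).mpr (fun i => (hA i).mpr (h i) q hq1 hq2)

end Groth.Agent.Helper2.PnDepth
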