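import Mathlib
import Groth.Prelude
import Groth.Agent.Lib.Helper2.Dual.DepthTransfer
import Groth.Agent.Lib.Helper2.Dual.PnDepth
import Groth.Agent.Lib.Helper1.SerreAmple1
import Groth.Agent.Lib.Helper1.PullSec
import Groth.Agent.Lib.Lead.PullTensorAll

/-!
# Vanishing of the low cohomology of the negative twists of a module of depth at least two
(Enriques–Severi–Zariski) (helper2)
-/

set_option autoImplicit false
set_option backward.isDefEq.respectTransparency.types false
set_option synthInstance.maxHeartbeats 400000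
set_option maxHeartbeats 4000000
set_option linter.style.haveILetI false
set_option linter.unusedSectionVars false

universe u

namespace Groth.Agent.Helper2.NegTwistVanish

open CategoryTheory CategoryTheory.Limits AlgebraicGeometry LocCoh TopologicalSpace
open Groth.Agent.Helper1.TwForm Groth.Agent.Helper1 Groth.Agent.Lib.Helper4.ClBridge2
open Groth.Agent.Helper2.CMExtVanish

variable {X : Scheme.{u}}

section Inv

open Groth.Agent.Helper1.QcCech

variable {L₁ L₂ F G : X.Modules} {d₁ d₂ : ℤ} (T : Tw L₁ L₂ F d₁ d₂ G)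

theorem inv_add' (W : X.Opens) (f : Frame L₁ L₂ W) (g g' : Γ(G, W)) :
    T.inv W f (g + g') = T.inv W f g + T.inv W f g' := by
  apply T.inv_eq
  rw [T.add, Tw.θ_inv, Tw.θ_inv]

theorem inv_smul' (W : X.Opens) (f : Frame L₁ L₂ W) (r : Γ(X, W)) (g : Γ(G, W)) :
    T.inv W f (r • g) = r • T.inv W f g := by
  apply T.inv_eq
  rw [T.smul, Tw.θ_inv]

theorem inv_res' (W V : X.Opens) (h : V ≤ W) (f : Frame L₁ L₂ W) (g : Γ(G, W)) :
    QcCech.res F h (T.inv W f g) = T.inv V (f.res h) (QcCech.res G h g) := by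
  symm
  apply T.inv_eq
  rw [← T.res, Tw.θ_inv]

theorem inv_unit₁' (W : X.Opens) (f : Frame L₁ L₂ W) (u : (Γ(X, W))ˣ) (g : Γ(G, W)) :
    T.inv W (f.smul₁ u) g = ((u ^ (-d₁) : (Γ(X, W))ˣ) : Γ(X, W)) • T.inv W f g := by
  apply T.inv_eq
  rw [T.unit₁, T.smul, Tw.θ_inv, smul_smul, ← Units.val_mul, ← zpow_add, add_neg_cancel, zpow_zero,
    Units.val_one, one_smul]

theorem inv_unit₂' (W : X.Opens) (f : Frame L₁ L₂ W) (u : (Γ(X, W))ˣ) (g : Γ(G, W)) :
    T.inv W (f.smul₂ u) g = ((u ^ (-d₂) : (Γ(X, W))ˣ) : Γ(X, W)) • T.inv W f g := by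
  apply T.inv_eq
  rw [T.unit₂, T.smul, Tw.θ_inv, smul_smul, ← Units.val_mul, ← zpow_add, add_neg_cancel, zpow_zero,
    Units.val_one, one_smul]

/-- the inverse form: `F` is a form of `G` twisted by the opposite exponents (copy of helper1's
`Tw.symm`, whose file cannot be imported together with `TwMap`) -/
noncomputable def twSymm : Tw L₁ L₂ G (-d₁) (-d₂) F where
  θ := T.inv
  bij W f := Function.bijective_iff_has_inverse.2 ⟨T.θ W f, T.θ_inv W f, T.inv_θ W f⟩
  add := inv_add' T
  smul := inv_smul' T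
  res W V h f g := inv_res' T W V h f g
  unit₁ := inv_unit₁' T
  unit₂ := inv_unit₂' T

end Inv

/-- the low cohomology of the negative twists of a coherent module of depth `≥ n + 1` at the closed
points of a closed subscheme of projective space vanishes -/
theorem neg_vanishing_closed (k : Type u) [Field k] (N : ℕ) (r : X ⟶ CohB1.ProjSpace N k)
    [IsClosedImmersion r] (G : X.Modules) (hG : Coh.IsCoh G) (n : ℕ)
    (hdepth : ∀ x : X, IsClosed ({x} : Set X) →
      ((n + 1 : ℕ) : ℕ∞) ≤ depth (X.presheaf.stalk x) (G.presheaf.stalk x)) :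
    ∃ D : ℤ, ∀ d : ℤ, D ≤ d → ∀ j : ℕ, j ≤ n →
      Subsingleton (Coh.HH X (twOn N k r G (-d)) j) := by
  haveI : IsLocallyNoetherian (CohB1.ProjSpace N k) := Groth.Agent.Lib.Helper4.SerreFin.instLN N k
  haveI : JacobsonSpace X := jacobsonSpace_of_closedImmersion k N r
  have hc : Coh.IsCoh ((Scheme.Modules.pushforward r).obj G) :=
    Groth.Agent.Helper1.FinPush.isCoh_pushforward r G hG
  haveI : Coh.IsQCoh G := hG.1
  obtain ⟨m₀, h⟩ := (Groth.Agent.Helper2.PnDepth.vanishing_iff_depth k N _ hc n).mpr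
    (fun y hy => Groth.Agent.Helper2.DepthTransfer.le_depth_stalk_pushforward r G hG (n + 1)
      hdepth y hy)
  refine ⟨m₀, fun d hd j hj => ?_⟩
  rw [subsingleton_twOn_iff]
  exact h d hd j hj

/-- **negative twists**: on a scheme proper over a field with an ample invertible module `L`, the
low cohomology of `F ⊗ L^{-m}` vanishes for `m ≫ 0` when `F` has depth at least `n + 1` at all
closed points -/
theorem main (k : Type u) [Field k] (f : X ⟶ Spec (CommRingCat.of k)) [IsProper f]
    {L : X.Modules} (hL : CohB1.IsAmple L) (M : X.Modules) (hM : ClSub.IsInverseOf L M)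
    (F : X.Modules) (hF : Coh.IsCoh F) (n : ℕ)
    (hdepth : ∀ x : X, IsClosed ({x} : Set X) →
      ((n + 1 : ℕ) : ℕ∞) ≤ depth (X.presheaf.stalk x) (F.presheaf.stalk x)) :
    ∃ m₀ : ℕ, ∀ m : ℕ, m₀ ≤ m → ∀ j : ℕ, j ≤ n →
      Subsingleton (Coh.HH X (CohB1.tensorMod F (CohB1.tensorPow M m)) j) := by
  classical
  have hO : PicF.IsInvertible (Coh.structureModule X) := isInvertible_tensorPow hL.1 0
  obtain ⟨n₁, hn₁⟩ := VA8.exists_immersion_projSpace_powers f hL hO
  obtain ⟨N, r, hr, hrf, ⟨e⟩⟩ := hn₁ (n₁ + 1) (Nat.le_succ _)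
  set m := n₁ + 1 with hm
  haveI : IsImmersion r := hr
  haveI : IsProper (r ≫ CohB1.ProjSpace.toSpec N k) := by rw [hrf]; infer_instance
  haveI : IsClosedImmersion r :=
    Chow.isClosedImmersion_of_isProper_comp r (CohB1.ProjSpace.toSpec N k)
  have hloc := locFrame_of_isInvertible hL.1 hL.1
  have hO1 : PicF.IsInvertible (Twist.twistProjSpace N k 1) := isInvertible_twist N k 1
  haveI : F.IsQuasicoherent := hF.1
  -- `M` as a form of `O` with exponents `(-1, 0)`
  obtain ⟨eM⟩ := hM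
  let SM : Tw L L (Coh.structureModule X) (-1) 0 M :=
    (twSymm (((Tw.fst L L).tensorL (Tw.self L L M)).ofIso eM)).cast (by ring) (by ring)
  have hMinv : PicF.IsInvertible M := SM.isInvertible hloc
  -- `r^*O(1)` as a form of `O` with exponents `(m, 0)`
  let S₁ : Tw L L (Coh.structureModule X) (m : ℤ) 0
      ((Scheme.Modules.pullback r).obj (Twist.twistProjSpace N k 1)) :=
    ((((Tw.fst L L).pow m).tensorR (Tw.self L L (Coh.structureModule X))).ofIso e).cast
      (by ring) (by ring)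
  -- `r^*O(d)` as a form of `O` with exponents `(m d, 0)`
  have hS : ∀ d : ℕ, Nonempty (Tw L L (Coh.structureModule X) ((m : ℤ) * d) 0
      ((Scheme.Modules.pullback r).obj (Twist.twistProjSpace N k (d : ℤ)))) := by
    intro d
    obtain ⟨ed⟩ := SerreAmple.nonempty_twist_pow_iso N k d
    exact ⟨(((S₁.pow d).ofIso ((PullPow.powIso r hO1 d).symm ≪≫
      (Scheme.Modules.pullback r).mapIso ed))).cast rfl (by simp)⟩
  -- `r^*O(-d)` as a form of `O` with exponents `(-(m d), 0)`
  have hS' : ∀ d : ℕ, Nonempty (Tw L L (Coh.structureModule X) (-((m : ℤ) * d)) 0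
      ((Scheme.Modules.pullback r).obj (Twist.twistProjSpace N k (-(d : ℤ))))) := by
    intro d
    obtain ⟨Sd⟩ := hS d
    obtain ⟨e1⟩ := Groth.Agent.Lead.PullTensorAll.nonempty_tensor_pullback_iso r
      (Twist.twistProjSpace N k (-(d : ℤ))) (Twist.twistProjSpace N k (d : ℤ))
    obtain ⟨e2⟩ := (TwistTens.twist_package (CohB1.polyGrading N k)
      (Groth.Agent.Lib.Helper4.SerreFin.hcov1 N k)).2.1 (-(d : ℤ)) (d : ℤ)
    obtain ⟨e3⟩ := TwistTens.nonempty_twist_zero_iso (CohB1.polyGrading N k)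
    have h0 : (-(d : ℤ)) + (d : ℤ) = 0 := by ring
    rw [h0] at e2
    let ε : CohB1.tensorMod ((Scheme.Modules.pullback r).obj (Twist.twistProjSpace N k (-(d : ℤ))))
        ((Scheme.Modules.pullback r).obj (Twist.twistProjSpace N k (d : ℤ))) ≅
        Coh.structureModule X :=
      e1 ≪≫ (Scheme.Modules.pullback r).mapIso (e2 ≪≫ e3) ≪≫ PullSec.unitIso r
    exact ⟨(twSymm (((Tw.self L L _).tensorR Sd).ofIso ε)).cast (by ring) (by ring)⟩
  -- the coherent modules `F ⊗ M^s`, with their depth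
  have hcoh : ∀ s : ℕ, Coh.IsCoh (CohB1.tensorMod F (CohB1.tensorPow M s)) := fun s =>
    SerreAmple.isCoh_tensor F _ hF (InvQc.isCoh_of_isInvertible _ (isInvertible_tensorPow hMinv s))
  have hdep : ∀ s : ℕ, ∀ x : X, IsClosed ({x} : Set X) → ((n + 1 : ℕ) : ℕ∞) ≤
      depth (X.presheaf.stalk x) ((CohB1.tensorMod F (CohB1.tensorPow M s)).presheaf.stalk x) := by
    intro s x hx
    rw [Groth.Agent.Helper2.DepthTransfer.depth_stalk_tensor_invertible F _
      (isInvertible_tensorPow hMinv s) x]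
    exact hdepth x hx
  have hsv := fun s : ℕ => neg_vanishing_closed k N r
    (CohB1.tensorMod F (CohB1.tensorPow M s)) (hcoh s) n (hdep s)
  choose D hD using hsv
  let D₀ : ℕ := (Finset.range m).sup fun s => (D s).toNat
  refine ⟨m * (D₀ + 1), fun n' hn' j hj => ?_⟩
  have hmpos : 0 < m := Nat.succ_pos _
  set d := n' / m with hd
  set s := n' % m with hs
  have hsm : s < m := Nat.mod_lt _ hmpos
  have hnd : n' = s + m * d := (Nat.mod_add_div n' m).symm
  have hdge : D₀ + 1 ≤ d := by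
    rw [hd, Nat.le_div_iff_mul_le hmpos]
    calc (D₀ + 1) * m = m * (D₀ + 1) := Nat.mul_comm _ _
      _ ≤ n' := hn'
  have hDs : D s ≤ (d : ℤ) := by
    have h1 : (D s).toNat ≤ D₀ := Finset.le_sup (f := fun s => (D s).toNat) (Finset.mem_range.2 hsm)
    have h2 : D s ≤ ((D s).toNat : ℤ) := Int.self_le_toNat _
    have h3 : ((D s).toNat : ℤ) ≤ (d : ℤ) := by exact_mod_cast (h1.trans (Nat.le_of_succ_le hdge))
    exact h2.trans h3
  have hvan := hD s (d : ℤ) hDs j hj
  obtain ⟨Sd⟩ := hS' d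
  -- the comparison isomorphism
  let T₁ := (Tw.self L L F).tensorR (SM.pow n')
  let T₂ := ((Tw.self L L F).tensorR (SM.pow s)).tensorR Sd
  have hn'' : (n' : ℤ) = s + m * d := by exact_mod_cast hnd
  have φ := Tw.iso T₂ (T₁.cast (by rw [hn'']; ring) (by ring)) hloc
  exact subsingleton_HH_of_iso φ j hvan

end Groth.Agent.Helper2.NegTwistVanish
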