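import Mathlib
import Groth.Prelude
import Groth.Agent.Lib.Helper2.Dual.NegTwistVanish
import Groth.Agent.Lib.Helper1.IdealMul1
import Groth.Agent.Lib.Helper1.InvFt
import Groth.Agent.Lib.Helper4.ClSubMV
import Groth.Agent.Lib.Helper4.HHFin3

/-!
# Cohomology of the structure sheaf and of the thickenings of an ample effective Cartier divisor
(helper2)

* `depth_stalk_structureModule`: the depth of the stalk of the structure module is the depth of the
  local ring;
* `isInvertible_of_isInverseOf`: an inverse of an invertible module is invertible;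
* `nonempty_tw_idealMod_pow`: `idealMod (I ^ (n + 1))` is a twisted form of `O` with exponent `n + 1`;
* `vanishing_idealMod_pow`: vanishing of the low cohomology of the powers of the ideal of an ample
  effective Cartier divisor;
* `thickening`: `H^i(O) → H^i(O/I^{m+1})` bijective for `i < n`, injective for `i = n`.
-/

set_option autoImplicit false
set_option backward.isDefEq.respectTransparency.types false
set_option synthInstance.maxHeartbeats 400000
set_option maxHeartbeats 4000000
set_option linter.style.haveILetI false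
set_option linter.unusedSectionVars false

universe u

namespace Groth.Agent.Helper2.LefThick

open CategoryTheory CategoryTheory.Limits AlgebraicGeometry LocCoh TopologicalSpace
open Groth.Agent.Helper1.TwForm Groth.Agent.Helper1 Groth.Agent.Lib.Helper4.ClBridge2
open Groth.Agent.Helper2.NegTwistVanish

attribute [local instance] Groth.Agent.Lead.SD.stalkModule

variable {X : Scheme.{u}}

/-- the depth of the stalk of the structure module is the depth of the local ring -/
theorem depth_stalk_structureModule (x : X) :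
    depth (X.presheaf.stalk x) ((Coh.structureModule X).presheaf.stalk x) =
      depth (X.presheaf.stalk x) (X.presheaf.stalk x) := by
  obtain ⟨W, hW, hxW, -⟩ := Groth.Agent.Helper2.ExtPowInv.exists_affine_le
    (show x ∈ (⊤ : X.Opens) from trivial)
  haveI : (Coh.structureModule X).IsQuasicoherent := IdealModL.isQuasicoherent_structureModule
  haveI := Groth.Agent.Lead.SD.isLocalizedModule_germ (Coh.structureModule X) hW ⟨x, hxW⟩
  rw [Groth.Agent.Lib.Helper4.CohHartogs1.depth_stalk_eq_of_isLocalizedModule
      (Coh.structureModule X) hW ⟨x, hxW⟩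
      (Groth.Agent.Lead.SD.germₗ (Coh.structureModule X) ⟨x, hxW⟩)]
  letI := X.presheaf.algebra_section_stalk (⟨x, hxW⟩ : W)
  haveI := hW.isLocalization_stalk ⟨x, hxW⟩
  haveI : IsLocalizedModule (hW.primeIdealOf ⟨x, hxW⟩).asIdeal.primeCompl
      (Algebra.linearMap Γ(X, W) (X.presheaf.stalk x)) :=
    (isLocalizedModule_iff_isLocalization).2 inferInstance
  exact (Groth.Agent.Helper8.Depth.depth_eq_of_semilinear
    (IsLocalization.algEquiv (hW.primeIdealOf ⟨x, hxW⟩).asIdeal.primeCompl
      (Localization.AtPrime (hW.primeIdealOf ⟨x, hxW⟩).asIdeal)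
      (X.presheaf.stalk x)).toRingEquiv
    (IsLocalizedModule.linearEquiv (hW.primeIdealOf ⟨x, hxW⟩).asIdeal.primeCompl
      (LocalizedModule.mkLinearMap (hW.primeIdealOf ⟨x, hxW⟩).asIdeal.primeCompl Γ(X, W))
      (Algebra.linearMap Γ(X, W) (X.presheaf.stalk x))).toAddEquiv
    (fun r y => Groth.Agent.Lib.Helper4.CohHartogs1.semilinear_of_isLocalizedModule _ _ _ r y)).symm

/-- an inverse of an invertible module is invertible -/
theorem isInvertible_of_isInverseOf {L M : X.Modules} (hL : PicF.IsInvertible L)
    (hM : ClSub.IsInverseOf L M) : PicF.IsInvertible M := by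
  obtain ⟨eM⟩ := hM
  have hloc := locFrame_of_isInvertible hL hL
  let SM : Tw L L (Coh.structureModule X) (-1) 0 M :=
    (twSymm (((Tw.fst L L).tensorL (Tw.self L L M)).ofIso eM)).cast (by ring) (by ring)
  exact SM.isInvertible hloc

/-- the ideal module of a power of an invertible ideal is a twisted form of the structure sheaf -/
theorem nonempty_tw_idealMod_pow (I : X.IdealSheafData)
    (hI : PicF.IsInvertible (ClSub.idealMod I)) (n : ℕ) :
    Nonempty (Tw (ClSub.idealMod I) (ClSub.idealMod I) (Coh.structureModule X) ((n : ℤ) + 1) 0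
      (ClSub.idealMod (I ^ (n + 1)))) := by
  induction n with
  | zero =>
    show Nonempty (Tw _ _ _ _ 0 (ClSub.idealMod (I ^ 1)))
    rw [pow_one]
    exact ⟨(Tw.fst _ _).cast (by simp) rfl⟩
  | succ n ih =>
    obtain ⟨T⟩ := ih
    rw [pow_succ]
    exact ⟨((T.tensorR (Tw.fst _ _)).ofIso
      (IdealMul.iso (IdealMul.isInvertible_pow hI n) hI)).cast (by push_cast; ring) (by ring)⟩

/-- the low cohomology of the powers of the ideal of an ample effective Cartier divisor vanishes -/
theorem vanishing_idealMod_pow (k : Type u) [Field k] (f : X ⟶ Spec (CommRingCat.of k))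
    [IsProper f] (I : X.IdealSheafData) {L : X.Modules} (hamp : CohB1.IsAmple L)
    (hL : ClSub.IsInverseOf L (ClSub.idealMod I)) (n : ℕ)
    (hdepth : ∀ x : X, IsClosed ({x} : Set X) →
      (n : ℕ∞) < depth (X.presheaf.stalk x) (X.presheaf.stalk x)) :
    ∃ m₀ : ℕ, ∀ m : ℕ, m₀ ≤ m → ∀ j : ℕ, j ≤ n →
      Subsingleton (Coh.HH X (ClSub.idealMod (I ^ (m + 1))) j) := by
  have hO : PicF.IsInvertible (Coh.structureModule X) := isInvertible_tensorPow hamp.1 0
  have hMinv : PicF.IsInvertible (ClSub.idealMod I) := isInvertible_of_isInverseOf hamp.1 hL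
  obtain ⟨m₀, h⟩ := NegTwistVanish.main k f hamp _ hL (Coh.structureModule X)
    (InvQc.isCoh_of_isInvertible _ hO) n (fun x hx => by
      rw [depth_stalk_structureModule]
      have h1 := hdepth x hx
      have h2 : ((n + 1 : ℕ) : ℕ∞) = (n : ℕ∞) + 1 := by push_cast; rfl
      rw [h2]
      exact Order.add_one_le_of_lt h1)
  refine ⟨m₀, fun m hm j hj => ?_⟩
  have hvan := h (m + 1) (hm.trans (Nat.le_succ m)) j hj
  have hlocM := locFrame_of_isInvertible hMinv hMinv
  obtain ⟨T⟩ := nonempty_tw_idealMod_pow I hMinv m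
  let T₁ := (Tw.self (ClSub.idealMod I) (ClSub.idealMod I) (Coh.structureModule X)).tensorR
    ((Tw.fst (ClSub.idealMod I) (ClSub.idealMod I)).pow (m + 1))
  have φ := Tw.iso (T₁.cast (by push_cast; ring) (by ring)) T hlocM
  exact subsingleton_HH_of_iso φ j hvan

/-- the defining short exact sequence of an ideal sheaf -/
theorem shortExact_S (I : X.IdealSheafData) : (IdealModL.S I).ShortExact := by
  haveI : Epi (IdealModL.S I).g := Groth.Agent.Lib.Helper4.ClSubMV.epi_toSubscheme I
  exact { exact := IdealModL.S_exact I }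

/-- **Lefschetz for thickenings**: comparison of the cohomology of the structure sheaf with that of
the thickenings of an ample effective Cartier divisor -/
theorem thickening (k : Type u) [Field k] [X.Over (Spec (CommRingCat.of k))]
    [IsProper (X ↘ (Spec (CommRingCat.of k)))] (I : X.IdealSheafData) {L : X.Modules}
    (hamp : CohB1.IsAmple L) (hL : ClSub.IsInverseOf L (ClSub.idealMod I)) (n : ℕ)
    (hdepth : ∀ x : X, IsClosed ({x} : Set X) →
      (n : ℕ∞) < depth (X.presheaf.stalk x) (X.presheaf.stalk x)) :
    ∃ m₀ : ℕ, ∀ m : ℕ, m₀ ≤ m →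
      (∀ i : ℕ, i < n → Function.Bijective (Sheaf.H.map
        ((SheafOfModules.toSheaf X.ringCatSheaf).map (ClSub.toSubscheme (I ^ (m + 1)))) i)) ∧
      Function.Injective (Sheaf.H.map
        ((SheafOfModules.toSheaf X.ringCatSheaf).map (ClSub.toSubscheme (I ^ (m + 1)))) n) := by
  obtain ⟨m₀, h⟩ := vanishing_idealMod_pow k (X ↘ (Spec (CommRingCat.of k))) I hamp hL n hdepth
  refine ⟨m₀, fun m hm => ?_⟩
  have hS := shortExact_S (I ^ (m + 1))
  have hinj : ∀ i : ℕ, i ≤ n → Function.Injective (Sheaf.H.map
      ((SheafOfModules.toSheaf X.ringCatSheaf).map (ClSub.toSubscheme (I ^ (m + 1)))) i) := by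
    intro i hi
    rw [injective_iff_map_eq_zero]
    intro x hx
    obtain ⟨y, hy⟩ := Groth.Agent.Lib.Helper4.HHFin2.exact_f_g k hS i x hx
    have hy0 : y = 0 := @Subsingleton.elim _ (h m hm i hi) y 0
    rw [← hy, hy0]
    exact map_zero _
  refine ⟨fun i hi => ⟨hinj i hi.le, fun x => ?_⟩, hinj n le_rfl⟩
  exact Groth.Agent.Lib.Helper4.HHFin2.exact_g_delta k hS i x
    (@Subsingleton.elim _ (h m hm (i + 1) hi) _ _)

end Groth.Agent.Helper2.LefThick
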