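import Mathlib
import Groth.Prelude
import Groth.Agent.Lib.Helper2.Dual.LefThick
import Groth.Agent.Lib.Lead.MeroL26
import Groth.Agent.Lib.Helper1.InvInv2
import Groth.Agent.Lib.Helper1.AmpleH1
import Groth.Agent.Lib.Helper9.FE.ClopenIdem
import Groth.Agent.Lib.Helper7.GeomConn.ArtinIdem
import Groth.Agent.Lib.Helper7.GeomConn.GlobSec

/-!
# Connectedness of the zero scheme of a regular section of an ample invertible module (helper2)

* `ideal_zeroScheme`: the ideals of the zero scheme of a regular section (`Mono s`);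
* `exists_iso_of_range`: criterion for a module to be the ideal sheaf, on a basis of affine opens;
* `isInverseOf_idealMod_zeroScheme`: `L ⊗ I_{Z(s)} ≅ O`;
* `connectedSpace_zeroScheme`: the main theorem.
-/

set_option autoImplicit false
set_option backward.isDefEq.respectTransparency.types false
set_option synthInstance.maxHeartbeats 400000
set_option maxHeartbeats 4000000
set_option linter.style.haveILetI false
set_option linter.unusedSectionVars false

universe u

namespace Groth.Agent.Helper2.ZeroConn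

open CategoryTheory CategoryTheory.Limits AlgebraicGeometry LocCoh TopologicalSpace Opposite
open Groth.Agent.Helper1.TwForm Groth.Agent.Helper1 Groth.Agent.Lib.Helper4.ClBridge2
open Groth.Agent.Helper2.NegTwistVanish Groth.Agent.Helper2.LefThick
open Groth.Agent.Lead Groth.Agent.Lead.MeroL Groth.Agent.Helper1.LGen Groth.Agent.Helper1.QcCech
open Groth.Agent.Helper1.IdealModL Groth.Agent.Lead.CIU Groth.Agent.Lead.IdM

variable {X : Scheme.{u}} {L : X.Modules}

section ZeroIdeal

/-- a regular section is not killed by a nonzero function -/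
theorem eq_zero_of_smul_secVal_eq_zero (s : Coh.structureModule X ⟶ L) [Mono s] (W : X.Opens)
    (c : Γ(X, W)) (h : c • secVal s W = 0) : c = 0 := by
  have h1 : s.app W (show Γ(Coh.structureModule X, W) from c) = 0 := by
    rw [app_eq_smul]; exact h
  exact FtLocal.app_injective_of_mono s W (h1.trans (map_zero _).symm)

theorem zI_loc' (s : Coh.structureModule X ⟶ L) [Mono s]
    (U : X.Opens) (hU : IsAffineOpen U) (a : Γ(X, U)) (S : Set Γ(X, U))
    (hS : Ideal.span S = ⊤)
    (h : ∀ g ∈ S, QCI.rs (X.basicOpen_le g) a ∈ zI L s (X.basicOpen g)) : a ∈ zI L s U := by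
  rw [mem_zI]
  intro m
  have hcov : U ≤ ⨆ g : S, X.basicOpen g.1 := hU.self_le_iSup_basicOpen_iff.mpr hS
  have hb : ∀ g : S, ∃ b : Γ(X, X.basicOpen g.1),
      resR (X.basicOpen_le g.1) a • QcCech.res L (X.basicOpen_le g.1) m = b • secVal s (X.basicOpen g.1) :=
    fun g => (mem_zI s _ _).1 (h g.1 g.2) _
  choose b hb using hb
  obtain ⟨β, hβ⟩ := Groth.Agent.Helper1.TwistSec.glue_of_compatible (Coh.structureModule X)
    (fun g : S => X.basicOpen g.1) U (fun g => X.basicOpen_le g.1) hcov
    (fun g => (show Γ(Coh.structureModule X, X.basicOpen g.1) from b g)) (by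
      intro g g'
      change resR _ (b g) = resR _ (b g')
      have h1 := congrArg (QcCech.res L (inf_le_left : X.basicOpen g.1 ⊓ X.basicOpen g'.1 ≤ _)) (hb g)
      have h2 := congrArg (QcCech.res L (inf_le_right : X.basicOpen g.1 ⊓ X.basicOpen g'.1 ≤ _)) (hb g')
      rw [res_smul, res_smul, res_res, res_secVal, resR_resR] at h1 h2
      have h3 : (resR inf_le_left (b g) - resR inf_le_right (b g')) •
          secVal s (X.basicOpen g.1 ⊓ X.basicOpen g'.1) = 0 := by
        rw [sub_smul, ← h1, ← h2, sub_self]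
      exact sub_eq_zero.mp (eq_zero_of_smul_secVal_eq_zero s _ _ h3))
  let β' : Γ(X, U) := β
  refine ⟨β', ?_⟩
  apply Groth.Agent.Helper1.TwistSec.eq_of_locally
  intro x hx
  obtain ⟨g, hxg⟩ := Opens.mem_iSup.1 (hcov hx)
  refine ⟨X.basicOpen g.1, X.basicOpen_le g.1, hxg, ?_⟩
  rw [res_smul, res_smul, res_secVal, hb g]
  congr 1
  exact (hβ g).symm

/-- the ideals of the zero scheme of a regular section of an invertible module -/
theorem ideal_zeroScheme (hL : PicF.IsInvertible L) (s : Coh.structureModule X ⟶ L) [Mono s]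
    (U : X.affineOpens) : (PicF2.zeroScheme L s).ideal U = zI L s U.1 := by
  obtain ⟨J, hJ⟩ := QCI.exists_idealSheafData (fun U => zI L s U) (zI_res hL s)
    (zI_loc' s) (zI_lp hL s)
  have h1 : PicF2.zeroScheme L s = Scheme.IdealSheafData.ofIdeals J.ideal := by
    change Scheme.IdealSheafData.ofIdeals _ = _
    congr 1
    funext V
    exact (hJ V).symm
  rw [h1, Scheme.IdealSheafData.ofIdeals_ideal, hJ]

end ZeroIdeal

section Criterion

variable (I : X.IdealSheafData)

/-- a morphism into the structure sheaf whose values on a basis of affine opens lie in the ideal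
composes to zero with the quotient map -/
theorem comp_toSubscheme_eq_zero {M : X.Modules} (a : M ⟶ Coh.structureModule X)
    (P : X.affineOpens → Prop)
    (hP : ∀ (V : X.Opens) (x : X), x ∈ V → ∃ W : X.affineOpens, P W ∧ x ∈ W.1 ∧ W.1 ≤ V)
    (hle : ∀ (U : X.affineOpens), P U → ∀ m : Γ(M, U.1), a.app U.1 m ∈ I.ideal U) :
    a ≫ ClSub.toSubscheme I = 0 := by
  apply Scheme.Modules.hom_ext
  intro V
  ext m
  change (ClSub.toSubscheme I).app V (a.app V m) = 0
  let J := {W : X.affineOpens // P W ∧ W.1 ≤ V}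
  apply TopCat.Sheaf.eq_of_locally_eq'
    (⟨(ClSub.quotMod I).presheaf, (ClSub.quotMod I).isSheaf⟩ : TopCat.Sheaf Ab X)
    (fun W : J => W.1.1) V (fun W => homOfLE W.2.2)
  · intro x hx
    obtain ⟨W, hPW, hxW, hWV⟩ := hP V x hx
    exact Opens.mem_iSup.2 ⟨⟨W, hPW, hWV⟩, hxW⟩
  · rintro ⟨W, hPW, hW⟩
    change (ClSub.quotMod I).presheaf.map (homOfLE hW).op ((ClSub.toSubscheme I).app V (a.app V m)) =
      (ClSub.quotMod I).presheaf.map (homOfLE hW).op 0
    rw [map_zero, ← hom_naturality_apply, ← hom_naturality_apply]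
    have := hle W hPW (M.presheaf.map (homOfLE hW).op m)
    rw [← I.ker_subschemeι_app W] at this
    exact this

/-- **criterion**: a module mapping injectively to the structure sheaf with image the ideal on a
basis of affine opens is the ideal sheaf -/
theorem exists_iso_of_range {M : X.Modules} (a : M ⟶ Coh.structureModule X)
    (P : X.affineOpens → Prop)
    (hP : ∀ (V : X.Opens) (x : X), x ∈ V → ∃ W : X.affineOpens, P W ∧ x ∈ W.1 ∧ W.1 ≤ V)
    (hinj : ∀ U : X.affineOpens, P U → Function.Injective (a.app U.1))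
    (hrange : ∀ U : X.affineOpens, P U →
      Set.range (a.app U.1) = (I.ideal U : Set Γ(X, U.1))) :
    ∃ e : M ≅ ClSub.idealMod I, e.hom ≫ ClSub.idealModι I = a := by
  have hz : a ≫ ClSub.toSubscheme I = 0 := by
    apply comp_toSubscheme_eq_zero I a P hP
    intro U hU m
    have : a.app U.1 m ∈ Set.range (a.app U.1) := ⟨m, rfl⟩
    rw [hrange U hU] at this
    exact this
  let k : M ⟶ ClSub.idealMod I := kernel.lift (ClSub.toSubscheme I) a hz
  have hk : k ≫ ClSub.idealModι I = a := kernel.lift_ι _ _ _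
  have hkapp : ∀ (V : X.Opens) (m : Γ(M, V)),
      (ClSub.idealModι I).app V (k.app V m) = a.app V m := by
    intro V m
    rw [← hk]
    rfl
  have : IsIso k := by
    apply Groth.Agent.Lead.BCU.isIso_of_bijective_nhds
    intro U x hx
    obtain ⟨⟨V, hV⟩, hPV, hxV, hVU⟩ := hP U x hx
    refine ⟨V, hVU, hxV, ?_, ?_⟩
    · intro m m' hmm
      apply hinj ⟨V, hV⟩ hPV
      change a.app V m = a.app V m'
      rw [← hkapp, ← hkapp, hmm]
    · intro y
      have : (ClSub.idealModι I).app V y ∈ Set.range ((ClSub.idealModι I).app V) := ⟨y, rfl⟩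
      rw [range_ι_affine I ⟨V, hV⟩, ← hrange ⟨V, hV⟩ hPV] at this
      obtain ⟨m, hm⟩ := this
      refine ⟨m, ?_⟩
      apply ι_injective I V
      rw [hkapp]
      exact hm
  exact ⟨asIso k, hk⟩

end Criterion

section Inverse

/-- the ideal sheaf of the zero scheme of a regular section of an invertible module `L` is an
inverse of `L` -/
theorem isInverseOf_idealMod_zeroScheme (hL : PicF.IsInvertible L)
    (s : Coh.structureModule X ⟶ L) [Mono s] :
    ClSub.IsInverseOf L (ClSub.idealMod (PicF2.zeroScheme L s)) := by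
  obtain ⟨K, hK, ⟨eK⟩⟩ := InvInv2.exists_inverse hL
  have hloc := locFrame_of_isInvertible hL hL
  -- `K` as a form of `O` with exponents `(-1, 0)`
  let T : Tw L L (Coh.structureModule X) (-1) 0 K :=
    (twSymm (((Tw.self L L K).tensorR (Tw.fst L L)).ofIso eK)).cast (by ring) (by ring)
  -- `O` as a form of `L` with exponents `(-1, 0)`
  let T' : Tw L L L (-1) 0 (Coh.structureModule X) :=
    (twSymm (Tw.fst L L)).cast rfl (by ring)
  let a : K ⟶ Coh.structureModule X := Tw.map s T T' hloc
  haveI : Mono a := Groth.Agent.Helper1.AmpleH1.mono_twMap s T T' hloc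
  -- the key computation
  have hcomp : ∀ (W : X.Opens) (f : Frame L L W) (c : Γ(X, W)), secVal s W = c • f.a₁ →
      ∀ g : Γ(X, W), a.app W (T.θ W f (show Γ(Coh.structureModule X, W) from g)) =
        (show Γ(Coh.structureModule X, W) from g * c) := by
    intro W f c hc g
    rw [Tw.map_θ]
    change (Tw.fst L L).inv W f _ = _
    apply Tw.inv_eq
    change (g * c) • f.a₁ = _
    rw [app_eq_smul, hc, mul_smul]
  let P : X.affineOpens → Prop := fun U => ∃ e : Γ(L, U.1), IsGen L U.1 e
  have hP : ∀ (V : X.Opens) (x : X), x ∈ V → ∃ W : X.affineOpens, P W ∧ x ∈ W.1 ∧ W.1 ≤ V := by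
    intro V x hx
    obtain ⟨W₀, e₀, hxW₀, he₀⟩ := exists_isGen hL x
    obtain ⟨_, ⟨W, hW, rfl⟩, hxW, hWle⟩ := X.isBasis_affineOpens.exists_subset_of_mem_open
      (show x ∈ ((W₀ ⊓ V : X.Opens) : Set X) from ⟨hxW₀, hx⟩) (W₀ ⊓ V).2
    have hle₁ : W ≤ W₀ := fun y hy => (hWle hy).1
    have hle₂ : W ≤ V := fun y hy => (hWle hy).2
    exact ⟨⟨W, hW⟩, ⟨QcCech.res L hle₁ e₀, he₀.res hle₁⟩, hxW, hle₂⟩
  obtain ⟨e, -⟩ := exists_iso_of_range (PicF2.zeroScheme L s) a P hP
    (fun U _ => FtLocal.app_injective_of_mono a U.1)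
    (by
      rintro U ⟨e, he⟩
      let f : Frame L L U.1 := ⟨e, e, he, he⟩
      obtain ⟨c, hc⟩ := he.exists_coeff (secVal s U.1)
      rw [ideal_zeroScheme hL s U, zI_eq_span s he c hc.symm]
      apply Set.Subset.antisymm
      · rintro _ ⟨y, rfl⟩
        obtain ⟨g, rfl⟩ := (T.bij U.1 f).2 y
        have h1 : (show Γ(X, U.1) from a.app U.1 (T.θ U.1 f g)) = (show Γ(X, U.1) from g) * c :=
          hcomp U.1 f c hc.symm g
        change (show Γ(X, U.1) from a.app U.1 (T.θ U.1 f g)) ∈ Ideal.span {c}
        rw [h1]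
        exact Ideal.mem_span_singleton'.2 ⟨_, rfl⟩
      · intro r hr
        have hr' : (show Γ(X, U.1) from r) ∈ Ideal.span {c} := hr
        obtain ⟨q, hq⟩ := Ideal.mem_span_singleton'.1 hr'
        exact ⟨T.θ U.1 f (show Γ(Coh.structureModule X, U.1) from q),
          (hcomp U.1 f c hc.symm q).trans hq⟩)
  let A₁ := (Tw.fst L L).tensorR (T.ofIso e)
  exact ⟨Tw.iso (A₁.cast (by ring) (by ring)) (Tw.self L L (Coh.structureModule X)) hloc⟩

end Inverse

section Conn

/-- a scheme receiving a morphism which is surjective on global functions from a scheme all of whose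
global functions are nilpotent or invertible is connected when it is nonempty -/
theorem connectedSpace_of_appTop_surjective {Y Z : Scheme.{u}} (i : Z ⟶ Y)
    (hR : ∀ a : Γ(Y, ⊤), IsNilpotent a ∨ IsUnit a) [Nonempty Z]
    (hsurj : Function.Surjective i.appTop.hom) : ConnectedSpace Z := by
  rw [connectedSpace_iff_clopen]
  refine ⟨inferInstance, fun T hT => ?_⟩
  obtain ⟨e, he, heT⟩ := H9FE.exists_idem_of_isClopen T hT
  obtain ⟨a, rfl⟩ := hsurj e
  rcases hR a with hn | hu
  · left
    obtain ⟨n, hn''⟩ := hn.map i.appTop.hom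
    have h0 : i.appTop.hom a = 0 := by
      cases n with
      | zero =>
        rw [pow_zero] at hn''
        rw [← mul_one (i.appTop.hom a), hn'', mul_zero]
      | succ n => rw [← he.pow_succ_eq n]; exact hn''
    rw [← heT, h0, Scheme.basicOpen_zero]
    rfl
  · right
    rw [← heT, Scheme.basicOpen_of_isUnit _ (hu.map i.appTop.hom)]
    rfl

theorem connectedSpace_of_range_eq {A B C : Type*} [TopologicalSpace A] [TopologicalSpace B]
    [TopologicalSpace C] {f : A → C} {g : B → C} (hf : Topology.IsInducing f) (hg : Continuous g)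
    (h : Set.range f = Set.range g) [ConnectedSpace B] : ConnectedSpace A := by
  have h1 : IsConnected (Set.range g) := isConnected_range hg
  rw [← h] at h1
  rw [connectedSpace_iff_univ]
  refine ⟨?_, ?_⟩
  · obtain ⟨c, a, rfl⟩ := h1.nonempty
    exact ⟨a, trivial⟩
  · rw [← hf.isPreconnected_image, Set.image_univ]
    exact h1.isPreconnected

/-- **connectedness of ample divisors**: on a connected scheme proper over a field whose local rings
at closed points have depth at least two, the zero scheme of a regular section of an ample invertible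
module is connected -/
theorem connectedSpace_zeroScheme (k : Type u) [Field k] [X.Over (Spec (CommRingCat.of k))]
    [IsProper (X ↘ (Spec (CommRingCat.of k)))] [ConnectedSpace X] (hL : CohB1.IsAmple L)
    (s : Coh.structureModule X ⟶ L) [Mono s]
    (hdepth : ∀ x : X, IsClosed ({x} : Set X) →
      2 ≤ depth (X.presheaf.stalk x) (X.presheaf.stalk x)) :
    ConnectedSpace ↥(PicF2.zeroScheme L s).subscheme := by
  have hinv := isInverseOf_idealMod_zeroScheme hL.1 s
  obtain ⟨m₀, h⟩ := thickening k (PicF2.zeroScheme L s) hL hinv 1 (fun x hx =>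
    lt_of_lt_of_le (by norm_num) (hdepth x hx))
  obtain ⟨hbij, -⟩ := h m₀ le_rfl
  have hb0 := hbij 0 Nat.one_pos
  set J := (PicF2.zeroScheme L s) ^ (m₀ + 1) with hJ
  -- global sections
  let E₁ := Groth.Agent.Helper1.HH0.equiv X (Coh.structureModule X)
  let E₂ := Groth.Agent.Helper1.HH0.equiv X (ClSub.quotMod J)
  have hnat : ∀ x : Coh.HH X (Coh.structureModule X) 0,
      (J.subschemeι.app ⊤).hom (E₁ x) = E₂ (Sheaf.H.map
        ((SheafOfModules.toSheaf X.ringCatSheaf).map (ClSub.toSubscheme J)) 0 x) := fun x =>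
    Sheaf.H.equiv₀_naturality (Limits.isTerminalTop (α := Opens X))
      ((SheafOfModules.toSheaf X.ringCatSheaf).map (ClSub.toSubscheme J)) x
  have hφsurj : Function.Surjective J.subschemeι.appTop.hom := by
    intro y
    obtain ⟨x, hx⟩ := hb0.2 (E₂.symm y)
    refine ⟨E₁ x, ?_⟩
    have := hnat x
    rw [hx, AddEquiv.apply_symm_apply] at this
    exact this
  have hφinj : Function.Injective J.subschemeι.appTop.hom := by
    rw [injective_iff_map_eq_zero]
    intro r hr
    have h1 := hnat (E₁.symm r)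
    rw [AddEquiv.apply_symm_apply] at h1
    have h2 : E₂ (Sheaf.H.map
        ((SheafOfModules.toSheaf X.ringCatSheaf).map (ClSub.toSubscheme J)) 0 (E₁.symm r)) = 0 :=
      h1.symm.trans hr
    have h3 := hb0.1 ((E₂.injective (h2.trans (map_zero E₂).symm)).trans (map_zero _).symm)
    have h4 := congrArg E₁ h3
    rw [AddEquiv.apply_symm_apply, map_zero] at h4
    exact h4
  -- the ring of global functions
  letI a1 : Algebra k Γ(X, ⊤) :=
    (Groth.Agent.Helper7.GeomConn.toΓ k X (X ↘ (Spec (CommRingCat.of k)))).toAlgebra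
  haveI hfin : Module.Finite k Γ(X, ⊤) :=
    Groth.Agent.Helper7.GeomConn.finite_globalSections k X (X ↘ (Spec (CommRingCat.of k)))
  haveI : IsArtinianRing Γ(X, ⊤) := IsArtinianRing.of_finite k _
  have hR : ∀ a : Γ(X, ⊤), IsNilpotent a ∨ IsUnit a :=
    Groth.Agent.Helper7.GeomConn.isNilpotent_or_isUnit_of_artinian
      (Groth.Agent.Helper7.GeomConn.idempotent_trivial_of_connected X)
  haveI : Nonempty ↥(⊤ : X.Opens) := by
    obtain ⟨x⟩ : Nonempty ↥X := inferInstance
    exact ⟨⟨x, trivial⟩⟩
  haveI : Nontrivial Γ(X, ⊤) := inferInstance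
  haveI : Nonempty ↥J.subscheme := by
    by_contra hne
    haveI : IsEmpty ↥J.subscheme := not_nonempty_iff.1 hne
    have h01 : (1 : Γ(X, ⊤)) = 0 := hφinj (Subsingleton.elim _ _)
    exact one_ne_zero h01
  haveI : ConnectedSpace ↥J.subscheme :=
    connectedSpace_of_appTop_surjective J.subschemeι hR hφsurj
  refine connectedSpace_of_range_eq (f := ⇑(PicF2.zeroScheme L s).subschemeι)
    (g := ⇑J.subschemeι) (PicF2.zeroScheme L s).subschemeι.isEmbedding.isInducing
    J.subschemeι.continuous ?_
  rw [Scheme.IdealSheafData.range_subschemeι, Scheme.IdealSheafData.range_subschemeι, hJ,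
    Scheme.IdealSheafData.support_pow_succ]

end Conn

end Groth.Agent.Helper2.ZeroConn
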