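import Mathlib
import Groth.Prelude
import Groth.Agent.Lib.Helper2.Dual.ZeroConn
import Groth.Agent.Lib.Helper1.PullGen2
import Groth.Agent.Lib.Helper5.Stalk.FlatPull
import Groth.Agent.Lib.Helper1.AmpleDev4
import Groth.Agent.Lib.Helper3.FibDepth
import Groth.Agent.Lib.Lead.FlatHart1
import Groth.Agent.Lib.Helper4.DimFT4

/-!
# Pullback of the zero scheme of a section along a flat finite morphism (helper2)

* `pullSec g s`: the pulled back section `O_Y → g^* L`;
* `secVal_pullSec`: its values;
* `support_pullSec`: the support of its zero scheme is the preimage of the support of `Z(s)`;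
* `two_le_depth_stalk`: closed points of a normal integral scheme of finite type over a field of
  dimension at least two have depth at least two;
* `connectedSpace_pullback_zeroScheme`: the main theorem.
-/

set_option autoImplicit false
set_option backward.isDefEq.respectTransparency.types false
set_option synthInstance.maxHeartbeats 400000
set_option maxHeartbeats 4000000
set_option linter.style.haveILetI false
set_option linter.unusedSectionVars false

universe u

namespace Groth.Agent.Helper2.ZeroPull

open CategoryTheory CategoryTheory.Limits AlgebraicGeometry LocCoh TopologicalSpace Opposite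
open Groth.Agent.Helper1 Groth.Agent.Helper1.LGen Groth.Agent.Helper1.QcCech
open Groth.Agent.Helper1.PullSec Groth.Agent.Lead.MeroL

variable {X Y : Scheme.{u}} (g : Y ⟶ X) {L : X.Modules}

/-- the pulled back section -/
noncomputable def pullSec (s : Coh.structureModule X ⟶ L) :
    Coh.structureModule Y ⟶ (Scheme.Modules.pullback g).obj L :=
  (unitIso g).inv ≫ (Scheme.Modules.pullback g).map s

theorem secVal_pullSec (s : Coh.structureModule X ⟶ L) (W : X.Opens) :
    secVal (pullSec g s) (g ⁻¹ᵁ W) = σ g L W (secVal s W) := by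
  have h1 : (unitIso g).inv.app (g ⁻¹ᵁ W)
      (show Γ(Coh.structureModule Y, g ⁻¹ᵁ W) from (1 : Γ(Y, g ⁻¹ᵁ W))) =
      σ g (Coh.structureModule X) W (show Γ(Coh.structureModule X, W) from (1 : Γ(X, W))) := by
    have h := unitIso_σ g W 1
    rw [map_one] at h
    rw [← h, PullGen.iso_inv_hom_app]
  change ((Scheme.Modules.pullback g).map s).app (g ⁻¹ᵁ W) ((unitIso g).inv.app (g ⁻¹ᵁ W)
      (show Γ(Coh.structureModule Y, g ⁻¹ᵁ W) from (1 : Γ(Y, g ⁻¹ᵁ W)))) = _
  rw [h1, σ_natural]
  rfl

instance mono_pullSec [Flat g] (s : Coh.structureModule X ⟶ L) [Mono s] : Mono (pullSec g s) := by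
  haveI := Groth.Agent.Lib.Helper5.StalkAdj.mono_pullback_map_of_flat g s
  unfold pullSec
  infer_instance

/-- membership in the support of the zero scheme, on a trivialising affine open -/
theorem mem_support_zeroScheme_iff (hL : PicF.IsInvertible L) (s : Coh.structureModule X ⟶ L)
    [Mono s] (U : X.affineOpens) {e : Γ(L, U.1)} (he : IsGen L U.1 e) (c : Γ(X, U.1))
    (hc : secVal s U.1 = c • e) (x : X) (hx : x ∈ U.1) :
    x ∈ (PicF2.zeroScheme L s).support ↔ x ∉ X.basicOpen c := by
  rw [Scheme.IdealSheafData.mem_support_iff_of_mem (U := U) hx,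
    Groth.Agent.Helper2.ZeroConn.ideal_zeroScheme hL s U, zI_eq_span s he c hc,
    Scheme.zeroLocus_span, Scheme.mem_zeroLocus_iff]
  simp

/-- the support of the zero scheme of the pulled back section -/
theorem support_pullSec [Flat g] [IsAffineHom g] (hL : PicF.IsInvertible L)
    (s : Coh.structureModule X ⟶ L) [Mono s] :
    ((PicF2.zeroScheme ((Scheme.Modules.pullback g).obj L) (pullSec g s)).support : Set Y) =
      g ⁻¹' ((PicF2.zeroScheme L s).support : Set X) := by
  ext y
  obtain ⟨W, a, hyW, ha⟩ := exists_isGen hL (g y)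
  obtain ⟨U, hU, hyU, hUW⟩ := exists_isAffineOpen_mem_and_subset (U := W) (x := g y) hyW
  have he : IsGen L U (res L hUW a) := ha.res hUW
  obtain ⟨c, hc⟩ := he.exists_coeff (secVal s U)
  have hV : IsAffineOpen (g ⁻¹ᵁ U) := hU.preimage g
  have he' : IsGen ((Scheme.Modules.pullback g).obj L) (g ⁻¹ᵁ U) (σ g L U (res L hUW a)) :=
    PullGen.isGen_σ g he
  have hc' : secVal (pullSec g s) (g ⁻¹ᵁ U) = (g.app U).hom c • σ g L U (res L hUW a) := by
    rw [secVal_pullSec, ← hc, σ_smul]
  have h1 := mem_support_zeroScheme_iff hL s ⟨U, hU⟩ he c hc.symm (g y) hyU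
  have h2 := mem_support_zeroScheme_iff (PullGen.isInvertible_pullback g hL) (pullSec g s)
    ⟨g ⁻¹ᵁ U, hV⟩ he' _ hc' y hyU
  change y ∈ (PicF2.zeroScheme ((Scheme.Modules.pullback g).obj L) (pullSec g s)).support ↔
    g y ∈ (PicF2.zeroScheme L s).support
  rw [h1, h2, ← Scheme.preimage_basicOpen]
  rfl

section Depth

/-- closed points of a normal integral scheme of dimension at least two, locally of finite type over
a field, have depth at least two -/
theorem two_le_depth_stalk (k : Type u) [Field k] (f : X ⟶ Spec (CommRingCat.of k))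
    [LocallyOfFiniteType f] [IsIntegral X] (hN : Pi1.IsNormalScheme X)
    (hdim : (2 : WithBot ℕ∞) ≤ topologicalKrullDim X) (x : X) (hx : IsClosed ({x} : Set X)) :
    2 ≤ depth (X.presheaf.stalk x) (X.presheaf.stalk x) := by
  letI : X.Over (Spec (CommRingCat.of k)) := ⟨f⟩
  haveI : LocallyOfFiniteType (X ↘ (Spec (CommRingCat.of k))) := ‹LocallyOfFiniteType f›
  have h1 := Groth.Agent.Lib.Helper4.DimFT4.S1617_main k X x hx
  have h2 : FlatMor.localDim X x = topologicalKrullDim X := by
    unfold FlatMor.localDim
    have h3 : ∀ U : {U : TopologicalSpace.Opens X // x ∈ U},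
        topologicalKrullDim (U.1 : Set X) = topologicalKrullDim X := fun U =>
      Groth.Agent.Lib.Helper4.DimFT4.S1618_main k X U.1 ⟨x, U.2⟩
    haveI : Nonempty {U : TopologicalSpace.Opens X // x ∈ U} := ⟨⟨⊤, trivial⟩⟩
    rw [iInf_congr h3, iInf_const]
  haveI : IsLocallyNoetherian X := LocallyOfFiniteType.isLocallyNoetherian f
  obtain ⟨hd, hic⟩ := hN x
  haveI := hd
  haveI := hic
  exact Groth.Agent.Lead.FlatHart.depth_two_of_normal (X.presheaf.stalk x)
    (by rw [← h1, h2]; exact hdim)

end Depth

/-- **connectedness of the pullback of an ample divisor** to a connected flat finite cover of a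
normal integral proper scheme of dimension at least two -/
theorem connectedSpace_pullback_zeroScheme (k : Type u) [Field k]
    (f : X ⟶ Spec (CommRingCat.of k)) [IsProper f] [IsIntegral X] (hN : Pi1.IsNormalScheme X)
    (hdim : (2 : WithBot ℕ∞) ≤ topologicalKrullDim X) (hL : CohB1.IsAmple L)
    (s : Coh.structureModule X ⟶ L) [Mono s] [IsFinite g] [Flat g] [ConnectedSpace Y] :
    ConnectedSpace ↥(pullback g (PicF2.zeroScheme L s).subschemeι) := by
  letI : Y.Over (Spec (CommRingCat.of k)) := ⟨g ≫ f⟩
  haveI : IsProper (Y ↘ (Spec (CommRingCat.of k))) := inferInstanceAs (IsProper (g ≫ f))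
  have hampY : CohB1.IsAmple ((Scheme.Modules.pullback g).obj L) :=
    Groth.Agent.Helper1.AmpleDev.isAmple_pullback_of_isFinite k f (g ≫ f) g hL.1 hL
  haveI : IsLocallyNoetherian X := LocallyOfFiniteType.isLocallyNoetherian f
  haveI : IsLocallyNoetherian Y := LocallyOfFiniteType.isLocallyNoetherian (g ≫ f)
  have hdepth : ∀ y : Y, IsClosed ({y} : Set Y) →
      2 ≤ depth (Y.presheaf.stalk y) (Y.presheaf.stalk y) := by
    intro y hy
    have hgy : IsClosed ({g y} : Set X) := by
      have := g.isClosedMap _ hy
      rwa [Set.image_singleton] at this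
    have h1 := two_le_depth_stalk k f hN hdim (g y) hgy
    rw [Groth.Agent.Helper3.FibDepth.depth_stalk_eq g y (Flat.stalkMap g y)]
    exact h1.trans le_self_add
  haveI : ConnectedSpace ↥(PicF2.zeroScheme ((Scheme.Modules.pullback g).obj L)
      (pullSec g s)).subscheme :=
    Groth.Agent.Helper2.ZeroConn.connectedSpace_zeroScheme k hampY (pullSec g s) hdepth
  refine Groth.Agent.Helper2.ZeroConn.connectedSpace_of_range_eq
    (f := ⇑(pullback.fst g (PicF2.zeroScheme L s).subschemeι))
    (g := ⇑(PicF2.zeroScheme ((Scheme.Modules.pullback g).obj L) (pullSec g s)).subschemeι)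
    (pullback.fst g (PicF2.zeroScheme L s).subschemeι).isEmbedding.isInducing
    (PicF2.zeroScheme ((Scheme.Modules.pullback g).obj L) (pullSec g s)).subschemeι.continuous ?_
  rw [Scheme.Pullback.range_fst, Scheme.IdealSheafData.range_subschemeι,
    Scheme.IdealSheafData.range_subschemeι, support_pullSec g hL.1 s]

end Groth.Agent.Helper2.ZeroPull
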