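import Mathlib
import Groth.Prelude
import Groth.Agent.Lib.Helper2.Dual.DepthSupp
import Groth.Agent.Lib.Helper2.Dual.CMConvAlg
import Groth.Agent.Lib.Helper8.ABS19
import Groth.Agent.Lib.Helper8.Depth19

/-!
# Torsion-freeness of `Ext^c_R(B, R)` over a quotient `B` of a regular ring `R` all of whose
components have codimension `≥ c` (helper2)
-/

set_option autoImplicit false
set_option backward.isDefEq.respectTransparency.types false
set_option synthInstance.maxHeartbeats 400000
set_option maxHeartbeats 4000000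
set_option linter.style.haveILetI false
set_option linter.unusedSectionVars false

universe u

namespace Groth.Agent.Helper2.ExtTF

open CategoryTheory CategoryTheory.Limits CategoryTheory.Abelian LocCoh

section PartI

variable (R : Type u) [CommRing R] [IsNoetherianRing R]
  (hreg : ∀ p : PrimeSpectrum R, IsRegularLocalRing (Localization.AtPrime p.asIdeal))

include hreg in
/-- `Ext^i(K', R) = 0` for `i < m` when the support of `K'` has codimension `≥ m` -/
theorem subsingleton_ext_of_height (K' : Type u) [AddCommGroup K'] [Module R K']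
    [Module.Finite R K'] (m : ℕ)
    (h : ∀ p : PrimeSpectrum R, p ∈ Module.support R K' → (m : ℕ∞) ≤ p.asIdeal.height)
    (i : ℕ) (hi : i < m) :
    Subsingleton (Ext (ModuleCat.of R K') (ModuleCat.of R R) i) := by
  refine (DepthSupp.ext_vanishing_iff_depth_support R R K' m).mpr ?_ i hi
  intro p hp
  haveI := hreg p
  rw [Groth.Agent.Helper8.Depth.depth_localizedModule_self]
  have h1 := Groth.Agent.Helper8.ABS.depth_eq_dim_of_regular (Localization.AtPrime p.asIdeal)
  rw [IsLocalization.AtPrime.ringKrullDim_eq_height p.asIdeal] at h1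
  have h5 : ((depth (Localization.AtPrime p.asIdeal) (Localization.AtPrime p.asIdeal) : ℕ∞) :
      WithBot ℕ∞) = (p.asIdeal.height : WithBot ℕ∞) := h1
  have h6 : depth (Localization.AtPrime p.asIdeal) (Localization.AtPrime p.asIdeal) =
      p.asIdeal.height := WithBot.coe_injective h5
  rw [h6]
  exact h p hp

include hreg in
/-- a `K`-regular element acts injectively on `Ext^c(K, R)` when the support of `K` has
codimension `≥ c` -/
theorem eq_zero_of_smul_eq_zero (K : Type u) [AddCommGroup K] [Module R K] [Module.Finite R K]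
    (c : ℕ)
    (hK : ∀ p : PrimeSpectrum R, p ∈ Module.support R K → (c : ℕ∞) ≤ p.asIdeal.height)
    (a : R) (ha : IsSMulRegular K a)
    (e : Ext (ModuleCat.of R K) (ModuleCat.of R R) c) (he : a • e = 0) : e = 0 := by
  have hS : (ModuleCat.smulShortComplex (ModuleCat.of R K) a).ShortExact :=
    IsSMulRegular.smulShortComplex_shortExact (M := ModuleCat.of R K) ha
  have h0' : (Ext.mk₀ (a • 𝟙 (ModuleCat.of R K))).comp e (zero_add c) = 0 := by
    rw [Ext.mk₀_smul, Ext.smul_comp, Ext.mk₀_id_comp, he]
  have h0 : (Ext.mk₀ (ModuleCat.smulShortComplex (ModuleCat.of R K) a).f).comp e (zero_add c)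
      = 0 := h0'
  obtain ⟨x, hx⟩ := Ext.contravariant_sequence_exact₂ hS (ModuleCat.of R R) e h0
  have hsub : Subsingleton (Ext (ModuleCat.of R (QuotSMulTop a K)) (ModuleCat.of R R) c) := by
    refine subsingleton_ext_of_height R hreg (QuotSMulTop a K) (c + 1) ?_ c (by omega)
    intro p hp
    rw [Module.support_quotSMulTop] at hp
    obtain ⟨hp1, hp2⟩ := hp
    have hap : a ∈ p.asIdeal := by
      have := (PrimeSpectrum.mem_zeroLocus _ _).mp hp2
      exact this (Set.mem_singleton a)
    obtain ⟨r, hrm, hr⟩ := Ideal.exists_minimalPrimes_le (Module.mem_support_iff_of_finite.mp hp1)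
    haveI := hrm.isPrime
    have har : a ∉ r := ha.notMem_of_mem_minimalPrimes hrm
    have hlt : r < p.asIdeal := lt_of_le_of_ne hr (fun h => har (h ▸ hap))
    have h1 := Ideal.height_add_one_le_of_lt_of_isPrime hlt
    have h2 : (c : ℕ∞) ≤ r.height :=
      hK ⟨r, hrm.isPrime⟩ (Module.mem_support_iff_of_finite.mpr hrm.1.2)
    calc ((c + 1 : ℕ) : ℕ∞) = (c : ℕ∞) + 1 := by push_cast; rfl
      _ ≤ r.height + 1 := by gcongr
      _ ≤ _ := h1
  have hx0 : x = 0 := @Subsingleton.elim _ hsub x 0
  have hx1 : e = (Ext.mk₀ (ModuleCat.smulShortComplex (ModuleCat.of R K) a).g).comp 0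
      (zero_add c) := by
    rw [← hx0]; exact hx.symm
  rw [hx1, Ext.comp_zero]
  rfl

end PartI

section PartII

variable {R B : Type u} [CommRing R] [CommRing B] [IsNoetherianRing R]
  (hreg : ∀ p : PrimeSpectrum R, IsRegularLocalRing (Localization.AtPrime p.asIdeal))
  (ρ : R →+* B) (hρ : Function.Surjective ρ) [IsReduced B]
  (K : Type u) [AddCommGroup K] [Module R K] [Module.Finite R K]
  (β : K ≃+ B) (hβ : ∀ (r : R) (x : K), β (r • x) = ρ r * β x)
  (c : ℕ)
  (hK : ∀ p : PrimeSpectrum R, RingHom.ker ρ ≤ p.asIdeal → (c : ℕ∞) ≤ p.asIdeal.height)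
  (N : Type u) [AddCommGroup N] [Module B N]
  (θ : N ≃+ Ext (ModuleCat.of R K) (ModuleCat.of R R) c)
  (hθ : ∀ (r : R) (x : N), θ (ρ r • x) = r • θ x)

include hβ in
theorem ker_le_of_mem_support (p : PrimeSpectrum R) (hp : p ∈ Module.support R K) :
    RingHom.ker ρ ≤ p.asIdeal := by
  refine le_trans ?_ (Module.mem_support_iff_of_finite.mp hp)
  intro r hr
  rw [Module.mem_annihilator]
  intro x
  apply β.injective
  rw [hβ, (RingHom.mem_ker).mp hr, zero_mul, map_zero]

/-- an element outside all minimal primes of a reduced ring is a nonzerodivisor -/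
theorem eq_zero_of_mul_eq_zero_of_avoid (b : B) (hb : ∀ P ∈ minimalPrimes B, b ∉ P) (y : B)
    (h : b * y = 0) : y = 0 := by
  have h1 : y ∈ sInf (minimalPrimes B) := by
    rw [Ideal.mem_sInf]
    intro P hP
    have hP' : P.IsPrime := hP.1.1
    have : b * y ∈ P := by rw [h]; exact P.zero_mem
    exact (hP'.mem_or_mem this).resolve_left (hb P hP)
  have h2 : sInf (minimalPrimes B) = (⊥ : Ideal B).radical := Ideal.sInf_minimalPrimes
  rw [h2] at h1
  have h3 : (⊥ : Ideal B).radical = ⊥ := by
    have := nilradical_eq_zero B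
    exact this
  rw [h3] at h1
  exact h1

include hreg hρ hβ hK hθ in
/-- elements outside all minimal primes act injectively -/
theorem eq_zero_of_smul_eq_zero_of_avoid (b : B) (hb : ∀ P ∈ minimalPrimes B, b ∉ P) (x : N)
    (h : b • x = 0) : x = 0 := by
  obtain ⟨a, rfl⟩ := hρ b
  have ha : IsSMulRegular K a := by
    intro k₁ k₂ hk
    have hk' : a • k₁ = a • k₂ := hk
    have h1 : ρ a * (β k₁ - β k₂) = 0 := by
      rw [mul_sub, ← hβ, ← hβ, hk', sub_self]
    have h2 := eq_zero_of_mul_eq_zero_of_avoid (ρ a) hb _ h1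
    exact β.injective (sub_eq_zero.mp h2)
  have h1 : a • θ x = 0 := by rw [← hθ, h, map_zero]
  have h2 := eq_zero_of_smul_eq_zero R hreg K c
    (fun p hp => hK p (ker_le_of_mem_support ρ K β hβ p hp)) a ha (θ x) h1
  exact θ.injective (by rw [h2, map_zero])

include hreg hρ hβ hK hθ in
/-- the associated primes of `Ext^c_R(B, R)` over `B` are minimal primes of `B` -/
theorem associatedPrimes_subset [IsNoetherianRing B] :
    associatedPrimes B N ⊆ minimalPrimes B := by
  intro P hP
  have hP' := (isAssociatedPrime_iff.mp hP)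
  obtain ⟨hPp, x, hx⟩ := hP'
  by_contra hmin
  classical
  have hfin : (minimalPrimes B).Finite := minimalPrimes.finite_of_isNoetherianRing B
  have hnot : ¬ ((P : Set B) ⊆ ⋃ i ∈ (↑hfin.toFinset : Set (Ideal B)), (i : Set B)) := by
    intro hsub
    have h1 := (Ideal.subset_union_prime (s := hfin.toFinset) (f := fun i : Ideal B => i) P P
      (fun i hi _ _ => ((hfin.mem_toFinset).mp hi).1.1)).mp hsub
    obtain ⟨i, hi, hPi⟩ := h1
    have hi' : i ∈ minimalPrimes B := (hfin.mem_toFinset).mp hi
    have : i ≤ P := hi'.2 ⟨hPp, bot_le⟩ hPi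
    exact hmin (le_antisymm hPi this ▸ hi')
  obtain ⟨d, hdP, hd⟩ := Set.not_subset.mp hnot
  have hd' : ∀ P₀ ∈ minimalPrimes B, d ∉ P₀ := by
    intro P₀ hP₀ hdP₀
    apply hd
    simp only [Set.mem_iUnion, Set.Finite.mem_toFinset, SetLike.mem_coe]
    exact ⟨P₀, hP₀, hdP₀⟩
  have hdx : d • x = 0 := by
    have : d ∈ (⊥ : Submodule B N).colon {x} := hx ▸ hdP
    simpa [Submodule.mem_colon_singleton] using this
  have hx0 := eq_zero_of_smul_eq_zero_of_avoid hreg ρ hρ K β hβ c hK N θ hθ d hd' x hdx
  apply hPp.ne_top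
  rw [hx, hx0]
  rw [Ideal.eq_top_iff_one, Submodule.mem_colon_singleton]
  simp

/-- torsion-freeness of the localizations from the associated primes being minimal -/
theorem torsion_eq_bot_of_associatedPrimes_subset {B : Type u} [CommRing B] [IsNoetherianRing B]
    (N : Type u) [AddCommGroup N] [Module B N]
    (hAss : associatedPrimes B N ⊆ minimalPrimes B)
    (S : Submonoid B) (B' : Type u) [CommRing B'] [Algebra B B'] [IsLocalization S B']
    (N' : Type u) [AddCommGroup N'] [Module B N'] [Module B' N'] [IsScalarTower B B' N']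
    (f : N →ₗ[B] N') [IsLocalizedModule S f] :
    Submodule.torsion B' N' = ⊥ := by
  haveI : IsNoetherianRing B' := IsLocalization.isNoetherianRing S B' inferInstance
  rw [Submodule.eq_bot_iff]
  intro x hx
  rw [Submodule.mem_torsion_iff] at hx
  obtain ⟨⟨b, hb⟩, hbx⟩ := hx
  by_contra hne
  have hmem : b ∈ {r : B' | ∃ x : N', x ≠ 0 ∧ r • x = 0} := ⟨x, hne, hbx⟩
  rw [← biUnion_associatedPrimes_eq_zero_divisors] at hmem
  obtain ⟨P', hP', hbP'⟩ := Set.mem_iUnion₂.mp hmem
  rw [← Module.associatedPrimes.preimage_comap_associatedPrimes_eq_associatedPrimes_of_isLocalizedModule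
    S B' f] at hP'
  have h1 : P'.comap (algebraMap B B') ∈ minimalPrimes B := hAss hP'
  have h2 : P' ∈ minimalPrimes B' := by
    have := IsLocalization.minimalPrimes_map S B' (⊥ : Ideal B)
    rw [Ideal.map_bot] at this
    show P' ∈ (⊥ : Ideal B').minimalPrimes
    rw [this]
    exact h1
  exact notMem_nonZeroDivisors_of_mem_mem_minimalPrimes hbP' h2 hb

end PartII

end Groth.Agent.Helper2.ExtTF
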