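import Mathlib
import Groth.Prelude
import Groth.Agent.Lib.Helper2.Dual.ExtTF

/-!
# The associated primes of `Ext^c_R(B, R)` over a quotient `B` of a regular ring `R` all of whose
components have codimension `≥ c` are minimal primes of `B` (no reducedness) (helper2)
-/

set_option autoImplicit false
set_option backward.isDefEq.respectTransparency.types false
set_option synthInstance.maxHeartbeats 400000
set_option maxHeartbeats 4000000
set_option linter.style.haveILetI false
set_option linter.unusedSectionVars false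

universe u

namespace Groth.Agent.Helper2.ExtTF2

open CategoryTheory CategoryTheory.Limits CategoryTheory.Abelian LocCoh

section PartI

variable (R : Type u) [CommRing R] [IsNoetherianRing R]
  (hreg : ∀ p : PrimeSpectrum R, IsRegularLocalRing (Localization.AtPrime p.asIdeal))
  (K : Type u) [AddCommGroup K] [Module R K] [Module.Finite R K] (c : ℕ)
  (hK : ∀ p : PrimeSpectrum R, p ∈ Module.support R K → (c : ℕ∞) ≤ p.asIdeal.height)
  (a : R) (ha : ∀ r ∈ (Module.annihilator R K).minimalPrimes, a ∉ r)

include hK ha in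
/-- modules killed by `a` with support in the support of `K` have codimension `≥ c + 1` -/
theorem height_of_killed (K' : Type u) [AddCommGroup K'] [Module R K'] [Module.Finite R K']
    (hsub : Module.support R K' ⊆ Module.support R K) (hkill : ∀ x : K', a • x = 0)
    (p : PrimeSpectrum R) (hp : p ∈ Module.support R K') :
    ((c + 1 : ℕ) : ℕ∞) ≤ p.asIdeal.height := by
  have hp1 : p ∈ Module.support R K := hsub hp
  have hap : a ∈ p.asIdeal := by
    apply Module.mem_support_iff_of_finite.mp hp
    rw [Module.mem_annihilator]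
    exact hkill
  obtain ⟨r, hrm, hr⟩ := Ideal.exists_minimalPrimes_le (Module.mem_support_iff_of_finite.mp hp1)
  haveI := hrm.isPrime
  have har : a ∉ r := ha r hrm
  have hlt : r < p.asIdeal := lt_of_le_of_ne hr (fun h => har (h ▸ hap))
  have h1 := Ideal.height_add_one_le_of_lt_of_isPrime hlt
  have h2 : (c : ℕ∞) ≤ r.height :=
    hK ⟨r, hrm.isPrime⟩ (Module.mem_support_iff_of_finite.mpr hrm.1.2)
  calc ((c + 1 : ℕ) : ℕ∞) = (c : ℕ∞) + 1 := by push_cast; rfl
    _ ≤ r.height + 1 := by gcongr
    _ ≤ _ := h1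

include hreg hK ha in
/-- an element outside the minimal primes of the support of `K` acts injectively on
`Ext^c(K, R)` -/
theorem eq_zero_of_smul_eq_zero
    (e : Ext (ModuleCat.of R K) (ModuleCat.of R R) c) (he : a • e = 0) : e = 0 := by
  let fa : K →ₗ[R] K := LinearMap.lsmul R K a
  -- the two short exact sequences
  let S₁ : ShortComplex (ModuleCat.{u} R) :=
    ModuleCat.shortComplexOfCompEqZero (LinearMap.ker fa).subtype fa.rangeRestrict (by
      ext x
      exact LinearMap.mem_ker.mp x.2)
  let S₂ : ShortComplex (ModuleCat.{u} R) :=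
    ModuleCat.shortComplexOfCompEqZero (LinearMap.range fa).subtype (LinearMap.range fa).mkQ
      (LinearMap.exact_subtype_mkQ (LinearMap.range fa)).linearMap_comp_eq_zero
  have hS₁ : S₁.ShortExact :=
    { exact := ModuleCat.shortComplex_exact _ (by
        intro y
        constructor
        · intro hy
          have hy' : fa y = 0 := congrArg Subtype.val hy
          exact ⟨⟨y, hy'⟩, rfl⟩
        · rintro ⟨z, rfl⟩
          apply Subtype.ext
          exact z.2)
      mono_f := (ModuleCat.mono_iff_injective _).mpr (Submodule.injective_subtype _)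
      epi_g := (ModuleCat.epi_iff_surjective _).mpr fa.surjective_rangeRestrict }
  have hS₂ : S₂.ShortExact :=
    { exact := ModuleCat.shortComplex_exact _ (LinearMap.exact_subtype_mkQ (LinearMap.range fa))
      mono_f := (ModuleCat.mono_iff_injective _).mpr (Submodule.injective_subtype _)
      epi_g := (ModuleCat.epi_iff_surjective _).mpr (Submodule.mkQ_surjective _) }
  -- vanishing of the Ext modules of the kernel and the cokernel
  have hker : ∀ i : ℕ, i < c + 1 →
      Subsingleton (Ext (ModuleCat.of R (LinearMap.ker fa)) (ModuleCat.of R R) i) := by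
    intro i hi
    refine ExtTF.subsingleton_ext_of_height R hreg (LinearMap.ker fa) (c + 1) ?_ i hi
    intro p hp
    refine height_of_killed R K c hK a ha (LinearMap.ker fa) ?_ ?_ p hp
    · exact Module.support_subset_of_injective (LinearMap.ker fa).subtype
        (Submodule.injective_subtype _)
    · intro x
      apply Subtype.ext
      exact x.2
  have hcoker : ∀ i : ℕ, i < c + 1 →
      Subsingleton (Ext (ModuleCat.of R (K ⧸ LinearMap.range fa)) (ModuleCat.of R R) i) := by
    intro i hi
    refine ExtTF.subsingleton_ext_of_height R hreg (K ⧸ LinearMap.range fa) (c + 1) ?_ i hi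
    intro p hp
    refine height_of_killed R K c hK a ha (K ⧸ LinearMap.range fa) ?_ ?_ p hp
    · exact Module.support_subset_of_surjective (LinearMap.range fa).mkQ
        (Submodule.mkQ_surjective _)
    · intro x
      obtain ⟨y, rfl⟩ := Submodule.mkQ_surjective _ x
      rw [← map_smul, Submodule.mkQ_apply, Submodule.Quotient.mk_eq_zero]
      exact ⟨y, rfl⟩
  -- the factorization of the multiplication by `a`
  have hfac : (a • 𝟙 (ModuleCat.of R K) : ModuleCat.of R K ⟶ ModuleCat.of R K) = S₁.g ≫ S₂.f := by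
    ext x
    rfl
  have h0 : (Ext.mk₀ S₁.g).comp ((Ext.mk₀ S₂.f).comp e (zero_add c)) (zero_add c) = 0 := by
    rw [Ext.mk₀_comp_mk₀_assoc, ← hfac, Ext.mk₀_smul, Ext.smul_comp, Ext.mk₀_id_comp, he]
  -- injectivity of the pullback along the surjection `K → aK`
  have h1 : (Ext.mk₀ S₂.f).comp e (zero_add c) = 0 := by
    rcases Nat.eq_zero_or_pos c with hc | hc
    · subst hc
      haveI : Epi S₁.g := hS₁.epi_g
      exact Ext.precomp_mk₀_injective_of_epi (ModuleCat.of R R) S₁.g (by
        show (Ext.mk₀ S₁.g).comp ((Ext.mk₀ S₂.f).comp e (zero_add 0)) (zero_add 0) =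
          (Ext.mk₀ S₁.g).comp 0 (zero_add 0)
        rw [h0, Ext.comp_zero])
    · obtain ⟨x₁, hx₁⟩ := Ext.contravariant_sequence_exact₃ hS₁ (ModuleCat.of R R)
        ((Ext.mk₀ S₂.f).comp e (zero_add c)) h0 (n₀ := c - 1) (by omega)
      have hsub : Subsingleton (Ext (ModuleCat.of R (LinearMap.ker fa)) (ModuleCat.of R R)
        (c - 1)) := hker (c - 1) (by omega)
      have hx0 : x₁ = 0 := @Subsingleton.elim _ hsub x₁ 0
      rw [← hx₁, hx0, Ext.comp_zero]
  obtain ⟨x, hx⟩ := Ext.contravariant_sequence_exact₂ hS₂ (ModuleCat.of R R) e h1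
  have hsub : Subsingleton (Ext (ModuleCat.of R (K ⧸ LinearMap.range fa)) (ModuleCat.of R R) c) :=
    hcoker c (by omega)
  have hx0 : x = 0 := @Subsingleton.elim _ hsub x 0
  have hx1 : e = (Ext.mk₀ S₂.g).comp 0 (zero_add c) := by
    rw [← hx0]; exact hx.symm
  rw [hx1, Ext.comp_zero]

end PartI

section PartII

variable {R B : Type u} [CommRing R] [CommRing B] [IsNoetherianRing R]
  (hreg : ∀ p : PrimeSpectrum R, IsRegularLocalRing (Localization.AtPrime p.asIdeal))
  (ρ : R →+* B) (hρ : Function.Surjective ρ)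
  (K : Type u) [AddCommGroup K] [Module R K] [Module.Finite R K]
  (β : K ≃+ B) (hβ : ∀ (r : R) (x : K), β (r • x) = ρ r * β x)
  (c : ℕ)
  (hK : ∀ p : PrimeSpectrum R, RingHom.ker ρ ≤ p.asIdeal → (c : ℕ∞) ≤ p.asIdeal.height)
  (N : Type u) [AddCommGroup N] [Module B N]
  (θ : N ≃+ Ext (ModuleCat.of R K) (ModuleCat.of R R) c)
  (hθ : ∀ (r : R) (x : N), θ (ρ r • x) = r • θ x)

include hβ in
theorem annihilator_eq_ker : Module.annihilator R K = RingHom.ker ρ := by
  ext r
  rw [Module.mem_annihilator, RingHom.mem_ker]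
  constructor
  · intro h
    have h1 := hβ r (β.symm 1)
    rw [h (β.symm 1), map_zero, AddEquiv.apply_symm_apply, mul_one] at h1
    exact h1.symm
  · intro h x
    apply β.injective
    rw [hβ, h, zero_mul, map_zero]

include hβ in
theorem ker_le_of_mem_support (p : PrimeSpectrum R) (hp : p ∈ Module.support R K) :
    RingHom.ker ρ ≤ p.asIdeal := by
  rw [← annihilator_eq_ker ρ K β hβ]
  exact Module.mem_support_iff_of_finite.mp hp

include hreg hρ hβ hK hθ in
/-- elements outside all minimal primes act injectively -/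
theorem eq_zero_of_smul_eq_zero_of_avoid (b : B) (hb : ∀ P ∈ minimalPrimes B, b ∉ P) (x : N)
    (h : b • x = 0) : x = 0 := by
  obtain ⟨a, rfl⟩ := hρ b
  have ha : ∀ r ∈ (Module.annihilator R K).minimalPrimes, a ∉ r := by
    intro r hr har
    rw [annihilator_eq_ker ρ K β hβ, RingHom.ker_eq_comap_bot,
      Ideal.comap_minimalPrimes_eq_of_surjective hρ] at hr
    obtain ⟨P₀, hP₀, rfl⟩ := hr
    exact hb P₀ hP₀ har
  have h1 : a • θ x = 0 := by rw [← hθ, h, map_zero]
  have h2 := eq_zero_of_smul_eq_zero R hreg K c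
    (fun p hp => hK p (ker_le_of_mem_support ρ K β hβ p hp)) a ha (θ x) h1
  exact θ.injective (by rw [h2, map_zero])

include hreg hρ hβ hK hθ in
/-- the associated primes of `Ext^c_R(B, R)` over `B` are minimal primes of `B` -/
theorem associatedPrimes_subset [IsNoetherianRing B] :
    associatedPrimes B N ⊆ minimalPrimes B := by
  intro P hP
  have hP' := (isAssociatedPrime_iff.mp hP)
  obtain ⟨hPp, x, hx⟩ := hP'
  by_contra hmin
  classical
  have hfin : (minimalPrimes B).Finite := minimalPrimes.finite_of_isNoetherianRing B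
  have hnot : ¬ ((P : Set B) ⊆ ⋃ i ∈ (↑hfin.toFinset : Set (Ideal B)), (i : Set B)) := by
    intro hsub
    have h1 := (Ideal.subset_union_prime (s := hfin.toFinset) (f := fun i : Ideal B => i) P P
      (fun i hi _ _ => ((hfin.mem_toFinset).mp hi).1.1)).mp hsub
    obtain ⟨i, hi, hPi⟩ := h1
    have hi' : i ∈ minimalPrimes B := (hfin.mem_toFinset).mp hi
    have : i ≤ P := hi'.2 ⟨hPp, bot_le⟩ hPi
    exact hmin (le_antisymm hPi this ▸ hi')
  obtain ⟨d, hdP, hd⟩ := Set.not_subset.mp hnot
  have hd' : ∀ P₀ ∈ minimalPrimes B, d ∉ P₀ := by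
    intro P₀ hP₀ hdP₀
    apply hd
    simp only [Set.mem_iUnion, Set.Finite.mem_toFinset, SetLike.mem_coe]
    exact ⟨P₀, hP₀, hdP₀⟩
  have hdx : d • x = 0 := by
    have : d ∈ (⊥ : Submodule B N).colon {x} := hx ▸ hdP
    simpa [Submodule.mem_colon_singleton] using this
  have hx0 := eq_zero_of_smul_eq_zero_of_avoid hreg ρ hρ K β hβ c hK N θ hθ d hd' x hdx
  apply hPp.ne_top
  rw [hx, hx0]
  rw [Ideal.eq_top_iff_one, Submodule.mem_colon_singleton]
  simp

end PartII

end Groth.Agent.Helper2.ExtTF2
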