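import Mathlib
import Groth.Prelude
import Groth.Agent.Lib.Helper2.Dual.CMConverse
import Groth.Agent.Lib.Lead.FLF4
import Groth.Agent.Lib.Lead.FLF6
import Groth.Agent.Lib.Helper5.Perf.LocalCoh
import Groth.Agent.Lib.Helper4.DuF8

/-!
# Cohen–Macaulay closed subschemes of projective space: vanishing of the cohomology of the negative
twists of vector bundles (helper2)
-/

set_option autoImplicit false
set_option backward.isDefEq.respectTransparency.types false
set_option synthInstance.maxHeartbeats 400000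
set_option maxHeartbeats 4000000
set_option linter.style.haveILetI false
set_option linter.unusedSectionVars false

universe u

namespace Groth.Agent.Helper2.CMFlf

open CategoryTheory CategoryTheory.Limits CategoryTheory.Abelian AlgebraicGeometry LocCoh
open Groth.Agent.Helper2.HomExt Groth.Agent.Helper2.CMExtVanish

section Alg

/-- vanishing of `Ext_R(B, L)` gives vanishing of `Ext_R(M, L)` for finite projective
`B`-modules `M` -/
theorem subsingleton_ext_of_projective (R B : Type u) [CommRing R] [CommRing B] [Algebra R B]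
    (M : Type u) [AddCommGroup M] [Module B M] [Module R M] [IsScalarTower R B M]
    [Module.Finite B M] [Module.Projective B M] (L : ModuleCat.{u} R) (q : ℕ)
    (h : Subsingleton (Ext (ModuleCat.of R B) L q)) :
    Subsingleton (Ext (ModuleCat.of R M) L q) := by
  obtain ⟨r, f, g, -, -, hfg⟩ := Module.Finite.exists_comp_eq_id_of_projective B M
  refine subsingleton_of_forall_eq 0 fun x => ?_
  let si : Fin r → (ModuleCat.of R M ⟶ ModuleCat.of R B) := fun i =>
    ModuleCat.ofHom (((LinearMap.proj i).comp g).restrictScalars R)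
  let pi : Fin r → (ModuleCat.of R B ⟶ ModuleCat.of R M) := fun i =>
    ModuleCat.ofHom ((f.comp (LinearMap.single B (fun _ => B) i)).restrictScalars R)
  have hid : 𝟙 (ModuleCat.of R M) = ∑ i, si i ≫ pi i := by
    ext m
    rw [ModuleCat.hom_sum, LinearMap.sum_apply]
    change m = ∑ i, f (Pi.single i (g m i))
    rw [← map_sum, Finset.univ_sum_single]
    exact (LinearMap.congr_fun hfg m).symm
  have h1 := Groth.Agent.Lib.Helper4.DuF8.sum_comp Finset.univ (fun i => si i ≫ pi i) x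
  rw [← hid, Ext.mk₀_id_comp] at h1
  rw [h1]
  apply Finset.sum_eq_zero
  intro i _
  rw [← Ext.mk₀_comp_mk₀, Ext.comp_assoc_of_second_deg_zero]
  have : (Ext.mk₀ (pi i)).comp x (zero_add q) = 0 := Subsingleton.elim _ _
  rw [this, Ext.comp_zero]

end Alg

section Chart

variable {P X : Scheme.{u}} (ι : X ⟶ P) [IsClosedImmersion ι]
variable {R : CommRingCat.{u}} (j : Spec R ⟶ P) [IsOpenImmersion j] (F : X.Modules)

/-- the sections of a direct image over a chart -/
noncomputable def ψF :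
    letI : Module R Γ(F, ι ⁻¹ᵁ (j ''ᵁ ⊤)) := Module.compHom _ (ρ ι j)
    Γ(((Scheme.Modules.pushforward ι).obj F).restrict j, (⊤ : (Spec R).Opens)) ≃ₗ[R]
      Γ(F, ι ⁻¹ᵁ (j ''ᵁ ⊤)) :=
  letI : Module R Γ(F, ι ⁻¹ᵁ (j ''ᵁ ⊤)) := Module.compHom _ (ρ ι j)
  { toFun := fun m => m
    invFun := fun m => m
    left_inv := fun _ => rfl
    right_inv := fun _ => rfl
    map_add' := fun _ _ => rfl
    map_smul' := fun r m => by
      rw [smul_top_def]
      rfl }

theorem subsingleton_ext_chart_flf [JacobsonSpace X] [IsLocallyNoetherian P] (n c : ℕ)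
    (hCM : ∀ x : X, IsClosed ({x} : Set X) →
      IsCohenMacaulayLocalRing (X.presheaf.stalk x) ∧ ringKrullDim (X.presheaf.stalk x) = n)
    [IsRegularRing R] (hR : ringKrullDim R ≤ ((n + c : ℕ) : WithBot ℕ∞))
    (hF : FlatMod.IsFinLocFree F)
    (L : ModuleCat.{u} R) (q : ℕ) (hq : c < q) :
    Subsingleton (Abelian.Ext
      (ModuleCat.of R Γ(((Scheme.Modules.pushforward ι).obj F).restrict j,
        (⊤ : (Spec R).Opens))) L q) := by
  letI : Algebra R Γ(X, ι ⁻¹ᵁ (j ''ᵁ ⊤)) := (ρ ι j).toAlgebra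
  letI : Module R Γ(F, ι ⁻¹ᵁ (j ''ᵁ ⊤)) := Module.compHom _ (ρ ι j)
  haveI : IsScalarTower R Γ(X, ι ⁻¹ᵁ (j ''ᵁ ⊤)) Γ(F, ι ⁻¹ᵁ (j ''ᵁ ⊤)) :=
    IsScalarTower.of_algebraMap_smul (fun _ _ => rfl)
  have hV : IsAffineOpen (j ''ᵁ ⊤) := (isAffineOpen_top (Spec R)).image_of_isOpenImmersion j
  have hW : IsAffineOpen (ι ⁻¹ᵁ (j ''ᵁ ⊤)) := hV.preimage ι
  haveI : F.IsQuasicoherent := Groth.Agent.Lead.FLF.isQuasicoherent_of_isFinLocFree F hF
  obtain ⟨hfin, hproj⟩ := (Groth.Agent.Lead.FLF.isFinLocFree_iff_affineOpens F).1 hF _ hW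
  have h0 := subsingleton_ext_chart ι j n c hCM hR L q hq
  have h1 := CMConvAlg.subsingleton_ext_of_iso_left (ψ ι j).toModuleIso L q h0
  have h2 := subsingleton_ext_of_projective R Γ(X, ι ⁻¹ᵁ (j ''ᵁ ⊤)) Γ(F, ι ⁻¹ᵁ (j ''ᵁ ⊤)) L q h1
  exact CMConvAlg.subsingleton_ext_of_iso_left (ψF ι j F).toModuleIso.symm L q h2

theorem isZero_restrict_extSh_flf [JacobsonSpace X] [IsLocallyNoetherian P] (n c : ℕ)
    (hCM : ∀ x : X, IsClosed ({x} : Set X) →
      IsCohenMacaulayLocalRing (X.presheaf.stalk x) ∧ ringKrullDim (X.presheaf.stalk x) = n)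
    [IsRegularRing R] (hR : ringKrullDim R ≤ ((n + c : ℕ) : WithBot ℕ∞))
    (hF : FlatMod.IsFinLocFree F) (hcoh : Coh.IsCoh ((Scheme.Modules.pushforward ι).obj F))
    (G : P.Modules) [G.IsQuasicoherent]
    [ModSite.HasSheafHom (O := P.sheaf) ((Scheme.Modules.pushforward ι).obj F)]
    [HasInjectiveResolutions (ModSite.Mod P.sheaf)]
    (q : ℕ) (hq : c < q) :
    IsZero ((Scheme.Modules.restrictFunctor j).obj
      ((ModSite.extSh (O := P.sheaf) ((Scheme.Modules.pushforward ι).obj F) q).obj G)) := by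
  haveI : IsNoetherianRing R := inferInstance
  obtain ⟨e⟩ := nonempty_restrict_extSh_iso_tilde ((Scheme.Modules.pushforward ι).obj F) G hcoh j q
  haveI := subsingleton_ext_chart_flf ι j F n c hCM hR hF
    (ModuleCat.of R Γ(G.restrict j, (⊤ : (Spec R).Opens))) q hq
  refine IsZero.of_iso ?_ e
  exact Functor.map_isZero (tilde.functor R) (ModuleCat.isZero_of_subsingleton _)

end Chart

section Proj

variable (k : Type u) [Field k] (N : ℕ) {X : Scheme.{u}} (ι : X ⟶ CohB1.ProjSpace N k)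
  [IsClosedImmersion ι]

local notation "PP" => CohB1.ProjSpace N k
local notation "ωP" => Twist.twistProjSpace N k (-((N : ℤ) + 1))

/-- **Cohen–Macaulay subschemes of dimension `n` of `P^N`: the local Ext sheaves of the direct
image of a vector bundle vanish above `N - n`.** -/
theorem isZero_extSh_of_CM_flf (n c : ℕ) (hNc : N ≤ n + c)
    (hCM : ∀ x : X, IsClosed ({x} : Set X) →
      IsCohenMacaulayLocalRing (X.presheaf.stalk x) ∧ ringKrullDim (X.presheaf.stalk x) = n)
    (F : X.Modules) (hF : FlatMod.IsFinLocFree F)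
    (hcoh : Coh.IsCoh ((Scheme.Modules.pushforward ι).obj F))
    (G : (PP).Modules) [G.IsQuasicoherent]
    [ModSite.HasSheafHom (O := (PP).sheaf) ((Scheme.Modules.pushforward ι).obj F)]
    [HasInjectiveResolutions (ModSite.Mod (PP).sheaf)] (q : ℕ) (hq : c < q) :
    IsZero ((ModSite.extSh (O := (PP).sheaf) ((Scheme.Modules.pushforward ι).obj F) q).obj G) := by
  haveI : IsLocallyNoetherian PP := Groth.Agent.Lib.Helper4.SerreFin.instLN N k
  haveI : JacobsonSpace X := jacobsonSpace_of_closedImmersion k N ι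
  apply isZero_of_restrict_fromSpec_cover _ (ProjCodim.V k N) (ProjCodim.isAffineOpen_V k N)
    (ProjCodim.iSup_V k N)
  intro i
  haveI := isRegularRing_chart k N i
  have hR : ringKrullDim Γ(PP, ProjCodim.V k N i) ≤ ((n + c : ℕ) : WithBot ℕ∞) := by
    rw [ringKrullDim_chart]
    exact_mod_cast hNc
  exact isZero_restrict_extSh_flf ι (ProjCodim.isAffineOpen_V k N i).fromSpec F n c hCM hR hF hcoh
    G q hq

/-- **vanishing of the cohomology of the negative twists of a vector bundle on a Cohen–Macaulay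
closed subscheme of projective space** -/
theorem vanishing_of_CM (n : ℕ) (hn : topologicalKrullDim ↥X = n)
    (hCM : ∀ x : X, IsClosed ({x} : Set X) →
      IsCohenMacaulayLocalRing (X.presheaf.stalk x) ∧ ringKrullDim (X.presheaf.stalk x) = n)
    (F : X.Modules) (hF : FlatMod.IsFinLocFree F) :
    ∃ q₀ : ℕ, ∀ q : ℕ, q₀ ≤ q → ∀ j : ℕ, j < n →
      Subsingleton (Coh.HH X (CohB1.tensorMod F
        ((Scheme.Modules.pullback ι).obj (Twist.twistProjSpace N k (-(q : ℤ))))) j) := by
  haveI : IsLocallyNoetherian PP := Groth.Agent.Lib.Helper4.SerreFin.instLN N k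
  haveI : IsLocallyNoetherian X := LocallyOfFiniteType.isLocallyNoetherian ι
  haveI : ModSite.HasSheafHom (O := (PP).sheaf) ((Scheme.Modules.pushforward ι).obj F) :=
    Groth.Agent.Helper3.SHomEx.hasSheafHom _
  haveI : HasInjectiveResolutions (ModSite.Mod (PP).sheaf) :=
    Groth.Agent.Helper3.LerayCol.hasInjectiveResolutions PP
  letI : X.Over (Spec (CommRingCat.of k)) := ⟨ι ≫ CohB1.ProjSpace.toSpec N k⟩
  have hnN : n ≤ N := CMDuality.n_le k N n X ι hn
  have hcohF : Coh.IsCoh F := Groth.Agent.Lib.Helper5.LocalCoh.isCoh_of_isFinLocFree F hF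
  have hcoh : Coh.IsCoh ((Scheme.Modules.pushforward ι).obj F) :=
    Groth.Agent.Helper1.FinPush.isCoh_pushforward ι _ hcohF
  haveI : Coh.IsQCoh F := hcohF.1
  have hωP : Coh.IsCoh ωP := Groth.Agent.Lib.Helper4.SerreFin.isCoh_twist N k _
  haveI : (ωP).IsQuasicoherent := hωP.1
  have hex : ∀ j : ℕ, ∃ m₀ : ℤ, j < n → ∀ m : ℤ, m₀ ≤ m →
      Subsingleton (Coh.HH PP (CohB1.tensorMod ((Scheme.Modules.pushforward ι).obj F)
        (Twist.twistProjSpace N k (-m))) j) := by
    intro j
    by_cases hj : j < n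
    · have h1 := Groth.Agent.Helper2.HomExt.TwistExt.main k N
        ((Scheme.Modules.pushforward ι).obj F) hcoh (N - j) (Nat.sub_le N j)
      rw [Nat.sub_sub_self (by omega : j ≤ N)] at h1
      obtain ⟨m₀, h0⟩ := h1.mpr (isZero_extSh_of_CM_flf k N ι n (N - n) (by omega) hCM F hF hcoh
        ωP (N - j) (by omega))
      exact ⟨m₀, fun _ => h0⟩
    · exact ⟨0, fun h => absurd h hj⟩
  choose M hM using hex
  obtain ⟨m₁, hm₁⟩ := ((Finset.range n).image M).exists_le
  refine ⟨m₁.toNat, fun q hq j hj => ?_⟩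
  have h2 : M j ≤ m₁ := hm₁ _ (Finset.mem_image.2 ⟨j, Finset.mem_range.2 hj, rfl⟩)
  exact (Groth.Agent.Lib.Helper4.ClBridge2.subsingleton_twOn_iff N k ι F (-(q : ℤ)) j).mpr
    (hM j hj q (by omega))

end Proj

end Groth.Agent.Helper2.CMFlf
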