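import Mathlib
import Groth.Prelude
import Groth.Agent.Lib.Helper2.Dual.ExtTF
import Groth.Agent.Lib.Helper8.ExtFL
import Groth.Agent.Lib.Helper3.ExtLocS

/-!
# `Ext^c_R(B, R)` has rank one at the minimal primes of height `c` of a reduced quotient `B` of a
regular ring `R` (helper2)
-/

set_option autoImplicit false
set_option backward.isDefEq.respectTransparency.types false
set_option synthInstance.maxHeartbeats 400000
set_option maxHeartbeats 4000000
set_option linter.style.haveILetI false
set_option linter.unusedSectionVars false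

universe u

namespace Groth.Agent.Helper2.ExtRank

open CategoryTheory CategoryTheory.Limits CategoryTheory.Abelian LocCoh

section Cat

variable {C : Type*} [Category C] [Abelian C] [HasExt.{u} C] {A : Type*} [CommRing A] [Linear A C]

/-- precomposition with an isomorphism -/
noncomputable def precompEquiv {X X' : C} (e : X ≅ X') (Y : C) (q : ℕ) :
    Ext X Y q ≃ₗ[A] Ext X' Y q where
  toFun y := (Ext.mk₀ e.inv).comp y (zero_add q)
  invFun y := (Ext.mk₀ e.hom).comp y (zero_add q)
  map_add' y y' := Ext.comp_add _ _ _ _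
  map_smul' a y := Ext.comp_smul _ _ _ _
  left_inv y := by
    show (Ext.mk₀ e.hom).comp ((Ext.mk₀ e.inv).comp y (zero_add q)) (zero_add q) = y
    rw [← Ext.comp_assoc (Ext.mk₀ e.hom) (Ext.mk₀ e.inv) y (zero_add 0) (zero_add q) (by omega),
      Ext.mk₀_comp_mk₀, Iso.hom_inv_id, Ext.mk₀_id_comp]
  right_inv y := by
    show (Ext.mk₀ e.inv).comp ((Ext.mk₀ e.hom).comp y (zero_add q)) (zero_add q) = y
    rw [← Ext.comp_assoc (Ext.mk₀ e.inv) (Ext.mk₀ e.hom) y (zero_add 0) (zero_add q) (by omega),
      Ext.mk₀_comp_mk₀, Iso.inv_hom_id, Ext.mk₀_id_comp]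

/-- postcomposition with an isomorphism -/
noncomputable def postcompEquiv (X : C) {Y Y' : C} (e : Y ≅ Y') (q : ℕ) :
    Ext X Y q ≃ₗ[A] Ext X Y' q where
  toFun y := y.comp (Ext.mk₀ e.hom) (add_zero q)
  invFun y := y.comp (Ext.mk₀ e.inv) (add_zero q)
  map_add' y y' := Ext.add_comp _ _ _ _
  map_smul' a y := Ext.smul_comp _ _ _ _
  left_inv y := by
    show (y.comp (Ext.mk₀ e.hom) (add_zero q)).comp (Ext.mk₀ e.inv) (add_zero q) = y
    rw [Ext.comp_assoc y (Ext.mk₀ e.hom) (Ext.mk₀ e.inv) (add_zero q) (add_zero 0) (by omega),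
      Ext.mk₀_comp_mk₀, Iso.hom_inv_id, Ext.comp_mk₀_id]
  right_inv y := by
    show (y.comp (Ext.mk₀ e.inv) (add_zero q)).comp (Ext.mk₀ e.hom) (add_zero q) = y
    rw [Ext.comp_assoc y (Ext.mk₀ e.inv) (Ext.mk₀ e.hom) (add_zero q) (add_zero 0) (by omega),
      Ext.mk₀_comp_mk₀, Iso.inv_hom_id, Ext.comp_mk₀_id]

/-- `Ext` of isomorphic objects -/
noncomputable def extLinearEquiv {X X' Y Y' : C} (e₁ : X ≅ X') (e₂ : Y ≅ Y') (q : ℕ) :
    Ext X Y q ≃ₗ[A] Ext X' Y' q :=
  (precompEquiv (A := A) e₁ Y q).trans (postcompEquiv (A := A) X' e₂ q)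

end Cat

/-- the map induced on `Ext` by localization is semilinear -/
theorem mapExt_smul {R : Type u} [CommRing R] (S : Submonoid R) {M N : ModuleCat.{u} R} (i : ℕ)
    (r : R) (e : Ext M N i) :
    (ModuleCat.localizedModuleFunctor.{u} S).mapExtAddHom M N i (r • e) =
      algebraMap R (Localization S) r •
        (ModuleCat.localizedModuleFunctor.{u} S).mapExtAddHom M N i e := by
  show (r • e).mapExactFunctor (ModuleCat.localizedModuleFunctor.{u} S) =
    _ • e.mapExactFunctor (ModuleCat.localizedModuleFunctor.{u} S)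
  rw [Groth.Agent.Helper3.ExtLocS.map_eq, Groth.Agent.Helper3.ExtLocS.map_eq]
  have h := Groth.Agent.Helper8.ExtLoc.Φ_smul S r e
  rw [Groth.Agent.Helper8.ExtLoc.Φ_apply, Groth.Agent.Helper8.ExtLoc.Φ_apply] at h
  rw [h, Ext.smul_comp, Ext.comp_smul]

section Residue

variable {R B : Type u} [CommRing R] [CommRing B] (ρ : R →+* B) (hρ : Function.Surjective ρ)
  (K : Type u) [AddCommGroup K] [Module R K]
  (β : K ≃+ B) (hβ : ∀ (r : R) (x : K), β (r • x) = ρ r * β x)
  (q : Ideal B) [q.IsPrime] (p : Ideal R) [p.IsPrime] (hp : q.comap ρ = p)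
  (B' : Type u) [CommRing B'] [Algebra B B'] [IsLocalization.AtPrime B' q] (hB' : IsField B')

include hρ hβ hp hB' in
/-- the localization of `B` at the contraction of a prime `q` with `B_q` a field is the residue
field of `R_p` -/
theorem nonempty_localizedModule_equiv_residue :
    Nonempty (LocalizedModule p.primeCompl K ≃ₗ[Localization.AtPrime p]
      (Localization.AtPrime p ⧸ IsLocalRing.maximalIdeal (Localization.AtPrime p))) := by
  have hS : ∀ s : p.primeCompl, ρ s ∈ q.primeCompl := fun s hs => s.2 (by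
    have h : (s : R) ∈ q.comap ρ := hs
    rwa [hp] at h)
  have hunit : ∀ s : p.primeCompl, IsUnit (((algebraMap B B').comp ρ) s) :=
    fun s => IsLocalization.map_units B' (⟨ρ s, hS s⟩ : q.primeCompl)
  let π : Localization.AtPrime p →+* B' :=
    IsLocalization.lift (M := p.primeCompl) (g := (algebraMap B B').comp ρ) hunit
  have hπ : ∀ r : R, π (algebraMap R (Localization.AtPrime p) r) = algebraMap B B' (ρ r) :=
    fun r => IsLocalization.lift_eq hunit r
  have hπsurj : Function.Surjective π := by
    intro b'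
    obtain ⟨⟨b, t⟩, hbt⟩ := IsLocalization.surj q.primeCompl b'
    obtain ⟨r, rfl⟩ := hρ b
    obtain ⟨s, hs⟩ := hρ t.1
    have hsS : s ∈ p.primeCompl := by
      intro hsp
      apply t.2
      rw [← hs]
      rw [← hp] at hsp
      exact hsp
    refine ⟨IsLocalization.mk' (Localization.AtPrime p) r ⟨s, hsS⟩, ?_⟩
    have hu : IsUnit (algebraMap B B' t.1) := IsLocalization.map_units B' t
    apply hu.mul_left_injective
    show π (IsLocalization.mk' (Localization.AtPrime p) r ⟨s, hsS⟩) * algebraMap B B' t.1 =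
      b' * algebraMap B B' t.1
    rw [hbt, ← hs, ← hπ s, ← map_mul]
    have := IsLocalization.mk'_spec (Localization.AtPrime p) r (⟨s, hsS⟩ : p.primeCompl)
    rw [this, hπ]
  have hker : RingHom.ker π = IsLocalRing.maximalIdeal (Localization.AtPrime p) := by
    apply IsLocalRing.eq_maximalIdeal
    apply Ideal.Quotient.maximal_of_isField
    exact MulEquiv.isField hB' (RingHom.quotientKerEquivOfSurjective hπsurj).toMulEquiv
  letI : Module (Localization.AtPrime p) B' := Module.compHom B' π
  letI : Module R B' := Module.compHom B' ((algebraMap B B').comp ρ)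
  haveI : IsScalarTower R (Localization.AtPrime p) B' :=
    IsScalarTower.of_algebraMap_smul (fun r x => by
      show π (algebraMap R (Localization.AtPrime p) r) * x = (algebraMap B B') (ρ r) * x
      rw [hπ])
  let g : K →ₗ[R] B' :=
    { toFun := fun x => algebraMap B B' (β x)
      map_add' := fun x y => by rw [map_add, map_add]
      map_smul' := fun r x => by
        rw [RingHom.id_apply, hβ, map_mul]
        rfl }
  haveI : IsLocalizedModule p.primeCompl g :=
    { map_units := fun s => by
        rw [Module.End.isUnit_iff]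
        obtain ⟨u, hu⟩ := hunit s
        refine ⟨fun a b hab => ?_, fun b => ⟨(↑u⁻¹ : B') * b, ?_⟩⟩
        · have h1 : ((algebraMap B B').comp ρ) s * a = ((algebraMap B B').comp ρ) s * b := hab
          rw [← hu] at h1
          exact u.mul_right_inj.mp h1
        · show ((algebraMap B B').comp ρ) s * ((↑u⁻¹ : B') * b) = b
          rw [← hu, ← mul_assoc, Units.mul_inv, one_mul]
      surj := fun y => by
        obtain ⟨⟨b, t⟩, hbt⟩ := IsLocalization.surj q.primeCompl y
        obtain ⟨s, hs⟩ := hρ t.1
        have hsS : s ∈ p.primeCompl := by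
          intro hsp
          apply t.2
          rw [← hs]
          rw [← hp] at hsp
          exact hsp
        refine ⟨⟨β.symm b, ⟨s, hsS⟩⟩, ?_⟩
        show ((algebraMap B B').comp ρ) s * y = algebraMap B B' (β (β.symm b))
        rw [AddEquiv.apply_symm_apply, ← hbt, RingHom.comp_apply, hs, mul_comm]
      exists_of_eq := fun {x₁ x₂} h => by
        have h' : algebraMap B B' (β x₁) = algebraMap B B' (β x₂) := h
        obtain ⟨t, ht⟩ := IsLocalization.exists_of_eq (M := q.primeCompl) h'
        obtain ⟨s, hs⟩ := hρ t.1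
        have hsS : s ∈ p.primeCompl := by
          intro hsp
          apply t.2
          rw [← hs]
          rw [← hp] at hsp
          exact hsp
        refine ⟨⟨s, hsS⟩, ?_⟩
        show s • x₁ = s • x₂
        apply β.injective
        rw [hβ, hβ, hs]
        exact ht }
  let e1 : LocalizedModule p.primeCompl K ≃ₗ[R] B' := IsLocalizedModule.iso p.primeCompl g
  let e2 : LocalizedModule p.primeCompl K ≃ₗ[Localization.AtPrime p] B' :=
    LinearEquiv.extendScalarsOfIsLocalization p.primeCompl (Localization.AtPrime p) e1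
  let πl : Localization.AtPrime p →ₗ[Localization.AtPrime p] B' :=
    { toFun := π
      map_add' := map_add π
      map_smul' := fun a b => by
        rw [smul_eq_mul, map_mul]
        rfl }
  have hπl : Function.Surjective πl := hπsurj
  let e3 : (Localization.AtPrime p ⧸ LinearMap.ker πl) ≃ₗ[Localization.AtPrime p] B' :=
    LinearMap.quotKerEquivOfSurjective πl hπl
  have hk : LinearMap.ker πl = IsLocalRing.maximalIdeal (Localization.AtPrime p) := by
    rw [← hker]
    ext a
    rfl
  exact ⟨e2.trans (e3.symm.trans (Submodule.quotEquivOfEq _ _ hk))⟩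

end Residue

section Main

variable {R B : Type u} [CommRing R] [CommRing B] [IsNoetherianRing R]
  (hreg : ∀ p : PrimeSpectrum R, IsRegularLocalRing (Localization.AtPrime p.asIdeal))
  (ρ : R →+* B) (hρ : Function.Surjective ρ)
  (K : Type u) [AddCommGroup K] [Module R K] [Module.Finite R K]
  (β : K ≃+ B) (hβ : ∀ (r : R) (x : K), β (r • x) = ρ r * β x)
  (c : ℕ)
  (N : Type u) [AddCommGroup N] [Module B N]
  (θ : N ≃+ Ext (ModuleCat.of R K) (ModuleCat.of R R) c)
  (hθ : ∀ (r : R) (x : N), θ (ρ r • x) = r • θ x)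
  (q : Ideal B) [q.IsPrime] (p : Ideal R) [p.IsPrime] (hp : q.comap ρ = p)
  (hht : p.height = c)
  (B' : Type u) [CommRing B'] [Algebra B B'] [IsLocalization.AtPrime B' q] (hB' : IsField B')
  (N' : Type u) [AddCommGroup N'] [Module B N'] [Module B' N'] [IsScalarTower B B' N']
  (f : N →ₗ[B] N') [IsLocalizedModule q.primeCompl f]

include hreg hρ hβ hθ hp hht hB' f in
/-- **rank one at the generic points** -/
theorem finrank_eq_one : Module.finrank B' N' = 1 := by
  haveI hregp : IsRegularLocalRing (Localization.AtPrime p) := hreg ⟨p, inferInstance⟩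
  have hdim : ringKrullDim (Localization.AtPrime p) = c := by
    rw [IsLocalization.AtPrime.ringKrullDim_eq_height p, hht]
    rfl
  obtain ⟨eK⟩ := nonempty_localizedModule_equiv_residue ρ hρ K β hβ q p hp B' hB'
  let e₁ : (ModuleCat.localizedModuleFunctor.{u} p.primeCompl).obj (ModuleCat.of R K) ≅
      ModuleCat.of (Localization.AtPrime p)
        (Localization.AtPrime p ⧸ IsLocalRing.maximalIdeal (Localization.AtPrime p)) :=
    ((Shrink.linearEquiv (Localization p.primeCompl) (LocalizedModule p.primeCompl K)).trans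
      eK).toModuleIso
  let e₂ : (ModuleCat.localizedModuleFunctor.{u} p.primeCompl).obj (ModuleCat.of R R) ≅
      ModuleCat.of (Localization.AtPrime p) (Localization.AtPrime p) :=
    ((Shrink.linearEquiv (Localization p.primeCompl) (LocalizedModule p.primeCompl R)).trans
      (Groth.Agent.Helper8.Depth.localizedModuleSelfEquiv p)).toModuleIso
  let Λ := extLinearEquiv (A := Localization.AtPrime p) e₁ e₂ c
  have hlen := (Groth.Agent.Helper8.ExtFL.ext_residue (Localization.AtPrime p) c hdim).2
  haveI hs0 : IsSimpleModule (Localization.AtPrime p)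
      (Ext (ModuleCat.of (Localization.AtPrime p)
        (Localization.AtPrime p ⧸ IsLocalRing.maximalIdeal (Localization.AtPrime p)))
        (ModuleCat.of (Localization.AtPrime p) (Localization.AtPrime p)) c) :=
    Module.length_eq_one_iff.mp hlen
  haveI hsimple : IsSimpleModule (Localization.AtPrime p)
      (Ext ((ModuleCat.localizedModuleFunctor.{u} p.primeCompl).obj (ModuleCat.of R K))
        ((ModuleCat.localizedModuleFunctor.{u} p.primeCompl).obj (ModuleCat.of R R)) c) :=
    IsSimpleModule.congr Λ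
  obtain ⟨hS1, hS2⟩ := Groth.Agent.S14412.result R p.primeCompl (ModuleCat.of R K)
    (ModuleCat.of R R) c
  have hS3 := fun (r : R) (e : Ext (ModuleCat.of R K) (ModuleCat.of R R) c) =>
    mapExt_smul p.primeCompl c r e
  set φ := (ModuleCat.localizedModuleFunctor.{u} p.primeCompl).mapExtAddHom (ModuleCat.of R K)
    (ModuleCat.of R R) c with hφ
  haveI : Nontrivial (Ext ((ModuleCat.localizedModuleFunctor.{u} p.primeCompl).obj
      (ModuleCat.of R K))
      ((ModuleCat.localizedModuleFunctor.{u} p.primeCompl).obj (ModuleCat.of R R)) c) :=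
    IsSimpleModule.nontrivial (Localization.AtPrime p) _
  obtain ⟨y₀, hy₀⟩ := exists_ne (0 : Ext ((ModuleCat.localizedModuleFunctor.{u} p.primeCompl).obj
      (ModuleCat.of R K))
      ((ModuleCat.localizedModuleFunctor.{u} p.primeCompl).obj (ModuleCat.of R R)) c)
  obtain ⟨e₀, s₀, hes₀⟩ := hS1 y₀
  have hz₀ : φ e₀ ≠ 0 := by
    intro h0
    rw [h0] at hes₀
    have hu := IsLocalization.map_units (Localization p.primeCompl) s₀
    apply hy₀
    obtain ⟨v, hv⟩ := hu.exists_left_inv
    calc y₀ = (v * algebraMap R (Localization p.primeCompl) (s₀ : R)) • y₀ := by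
          rw [hv, one_smul]
      _ = v • (algebraMap R (Localization p.primeCompl) (s₀ : R) • y₀) := mul_smul _ _ _
      _ = 0 := by rw [hes₀, smul_zero]
  have hρS : ∀ s : R, s ∈ p.primeCompl ↔ ρ s ∈ q.primeCompl := by
    intro s
    show s ∉ p ↔ ρ s ∉ q
    rw [← hp]
    rfl
  have hθsymm : ∀ (r : R) (e : Ext (ModuleCat.of R K) (ModuleCat.of R R) c),
      θ.symm (r • e) = ρ r • θ.symm e := by
    intro r e
    apply θ.injective
    rw [hθ, AddEquiv.apply_symm_apply, AddEquiv.apply_symm_apply]
  have hfalg : ∀ (b : B) (x : N'), b • x = algebraMap B B' b • x :=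
    fun b x => (algebraMap_smul B' b x).symm
  have hv : f (θ.symm e₀) ≠ 0 := by
    intro hv0
    obtain ⟨t, ht⟩ := (IsLocalizedModule.eq_zero_iff q.primeCompl f).mp hv0
    obtain ⟨s, hs⟩ := hρ t.1
    have hsS : s ∈ p.primeCompl := (hρS s).mpr (hs ▸ t.2)
    have h1 : (s : R) • e₀ = 0 := by
      have h2 : θ (ρ s • θ.symm e₀) = s • θ (θ.symm e₀) := hθ s (θ.symm e₀)
      rw [hs] at h2
      have ht' : (t : B) • θ.symm e₀ = 0 := ht
      rw [ht', map_zero, AddEquiv.apply_symm_apply] at h2
      exact h2.symm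
    exact hz₀ ((hS2 e₀).mpr ⟨⟨s, hsS⟩, h1⟩)
  have hunitB : ∀ b : B, b ∈ q.primeCompl → IsUnit (algebraMap B B' b) :=
    fun b hb => IsLocalization.map_units B' (⟨b, hb⟩ : q.primeCompl)
  have hsurj : ∀ w : N', ∃ a : B', a • f (θ.symm e₀) = w := by
    intro w
    obtain ⟨⟨n, t⟩, hnt⟩ := IsLocalizedModule.surj q.primeCompl f w
    obtain ⟨a, ha⟩ := IsSimpleModule.toSpanSingleton_surjective (Localization.AtPrime p) hz₀
      (φ (θ n))
    have ha' : a • φ e₀ = φ (θ n) := ha
    obtain ⟨⟨r, s⟩, hrs⟩ := IsLocalization.surj p.primeCompl a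
    have h1 : φ ((s : R) • θ n - r • e₀) = 0 := by
      rw [map_sub, hS3, hS3, ← ha', smul_smul, mul_comm]
      have hrs' : a * algebraMap R (Localization p.primeCompl) (s : R) =
        algebraMap R (Localization p.primeCompl) r := hrs
      rw [hrs', sub_self]
    obtain ⟨s', hs'⟩ := (hS2 _).mp h1
    have h2 : ρ s' • (ρ s • n - ρ r • θ.symm e₀) = 0 := by
      have h3 := congrArg θ.symm hs'
      rw [map_zero, hθsymm, map_sub, hθsymm, hθsymm, AddEquiv.symm_apply_apply] at h3
      exact h3
    have h3 : algebraMap B B' (ρ s') • (algebraMap B B' (ρ s) • f n -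
        algebraMap B B' (ρ r) • f (θ.symm e₀)) = 0 := by
      have h4 := congrArg f h2
      rw [map_zero, map_smul, map_sub, map_smul, map_smul, hfalg, hfalg (ρ s), hfalg (ρ r)] at h4
      exact h4
    have hu' := hunitB (ρ s') ((hρS s').mp s'.2)
    have hu := hunitB (ρ s) ((hρS s).mp s.2)
    have hut := hunitB t.1 t.2
    have h4 : algebraMap B B' (ρ s) • f n = algebraMap B B' (ρ r) • f (θ.symm e₀) := by
      obtain ⟨w', hw'⟩ := hu'.exists_left_inv
      have h5 := congrArg (fun z => w' • z) h3
      simp only [smul_smul, hw', one_smul, smul_zero] at h5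
      exact sub_eq_zero.mp h5
    obtain ⟨us, hus⟩ := hu.exists_left_inv
    obtain ⟨ut, hut'⟩ := hut.exists_left_inv
    refine ⟨ut * us * algebraMap B B' (ρ r), ?_⟩
    have h5 : algebraMap B B' t.1 • w = f n := by
      rw [← hnt, ← hfalg]
      rfl
    calc (ut * us * algebraMap B B' (ρ r)) • f (θ.symm e₀)
        = (ut * us) • (algebraMap B B' (ρ r) • f (θ.symm e₀)) := mul_smul _ _ _
      _ = (ut * us) • (algebraMap B B' (ρ s) • f n) := by rw [h4]
      _ = ut • ((us * algebraMap B B' (ρ s)) • f n) := by rw [mul_smul, mul_smul]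
      _ = ut • f n := by rw [hus, one_smul]
      _ = ut • (algebraMap B B' t.1 • w) := by rw [h5]
      _ = w := by rw [smul_smul, hut', one_smul]
  have hinj : ∀ a : B', a • f (θ.symm e₀) = 0 → a = 0 := by
    intro a ha
    by_contra hne
    obtain ⟨a', ha'⟩ := hB'.mul_inv_cancel hne
    apply hv
    calc f (θ.symm e₀) = (a' * a) • f (θ.symm e₀) := by rw [mul_comm, ha', one_smul]
      _ = a' • (a • f (θ.symm e₀)) := mul_smul _ _ _
      _ = 0 := by rw [ha, smul_zero]
  haveI : Nontrivial B' := hB'.nontrivial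
  let E : B' ≃ₗ[B'] N' := LinearEquiv.ofBijective (LinearMap.toSpanSingleton B' N' (f (θ.symm e₀)))
    ⟨(injective_iff_map_eq_zero _).mpr fun a ha => hinj a ha, fun w => hsurj w⟩
  rw [← E.finrank_eq, Module.finrank_self]

end Main

end Groth.Agent.Helper2.ExtRank
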