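import Mathlib
import Groth.Prelude
import Groth.Agent.Lib.Helper2.Dual.ExtRank
import Groth.Agent.Lib.Helper2.Dual.CMFlf
import Groth.Agent.Lib.Lead.SD1

/-!
# The module `ω` with `ι_* ω ≅ ℰxt^c(ι_* O_X, G)` on an affine chart: torsion-freeness and rank one
of the stalks (helper2)
-/

set_option autoImplicit false
set_option backward.isDefEq.respectTransparency.types false
set_option synthInstance.maxHeartbeats 400000
set_option maxHeartbeats 4000000
set_option linter.style.haveILetI false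
set_option linter.unusedSectionVars false

universe u

namespace Groth.Agent.Helper2.OmegaChart

open CategoryTheory CategoryTheory.Limits CategoryTheory.Abelian AlgebraicGeometry LocCoh
open Groth.Agent.Helper2.HomExt Groth.Agent.Helper2.CMExtVanish Groth.Agent.Helper2.CMFlf

attribute [local instance] Groth.Agent.Lead.SD.stalkModule

section Height

/-- the codimension of the contraction of a prime along a surjection of equicodimensional rings -/
theorem height_comap_eq {R B : Type u} [CommRing R] [CommRing B] (ρ : R →+* B)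
    (hρ : Function.Surjective ρ) (n r : ℕ) (hr : r ≤ n)
    (hR : ∀ (p : Ideal R) [p.IsPrime], (p.height : WithBot ℕ∞) + ringKrullDim (R ⧸ p) = n)
    (hB : ∀ (q : Ideal B) [q.IsPrime], (q.height : WithBot ℕ∞) + ringKrullDim (B ⧸ q) = r)
    (q : Ideal B) [q.IsPrime] :
    (q.comap ρ).height = ((n - r : ℕ) : ℕ∞) + q.height := by
  haveI : (q.comap ρ).IsPrime := Ideal.comap_isPrime ρ q
  let ψ : R →+* B ⧸ q := (Ideal.Quotient.mk q).comp ρ
  have hψ : Function.Surjective ψ := Ideal.Quotient.mk_surjective.comp hρ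
  have hker : RingHom.ker ψ = q.comap ρ := by
    rw [RingHom.ker_eq_comap_bot, ← Ideal.comap_comap, ← RingHom.ker_eq_comap_bot, Ideal.mk_ker]
  have hdim : ringKrullDim (R ⧸ q.comap ρ) = ringKrullDim (B ⧸ q) :=
    ringKrullDim_eq_of_ringEquiv ((Ideal.quotEquivOfEq hker).symm.trans
      (RingHom.quotientKerEquivOfSurjective hψ))
  have h1 := hR (q.comap ρ)
  have h2 := hB q
  rw [hdim] at h1
  have hnn : (0 : WithBot ℕ∞) ≤ ringKrullDim (B ⧸ q) := ringKrullDim_nonneg_of_nontrivial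
  obtain ⟨d, hd⟩ : ∃ d : ℕ∞, ringKrullDim (B ⧸ q) = (d : WithBot ℕ∞) := by
    cases hq : ringKrullDim (B ⧸ q) with
    | bot => rw [hq] at hnn; exact absurd hnn (by simp)
    | coe d => exact ⟨d, rfl⟩
  rw [hd] at h1 h2
  have e1 : (q.comap ρ).height + d = (n : ℕ∞) := by exact_mod_cast h1
  have e2 : q.height + d = (r : ℕ∞) := by exact_mod_cast h2
  have ha : (q.comap ρ).height ≠ ⊤ := by
    intro h
    rw [h] at e1
    simp at e1
  have hb : q.height ≠ ⊤ := by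
    intro h
    rw [h] at e2
    simp at e2
  have hdt : d ≠ ⊤ := by
    intro h
    rw [h] at e1
    simp at e1
  obtain ⟨a, ha'⟩ := ENat.ne_top_iff_exists.mp ha
  obtain ⟨b, hb'⟩ := ENat.ne_top_iff_exists.mp hb
  obtain ⟨d', hd'⟩ := ENat.ne_top_iff_exists.mp hdt
  rw [← ha', ← hd'] at e1
  rw [← hb', ← hd'] at e2
  rw [← ha', ← hb']
  have e1' : a + d' = n := by exact_mod_cast e1
  have e2' : b + d' = r := by exact_mod_cast e2
  have : a = (n - r) + b := by omega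
  exact_mod_cast this

end Height

section Chart

variable {P X : Scheme.{u}} (ι : X ⟶ P) [IsClosedImmersion ι]
variable {R : CommRingCat.{u}} (j : Spec R ⟶ P) [IsOpenImmersion j]

theorem ρ_surjective : Function.Surjective (ρ ι j) := by
  have hV : IsAffineOpen (j ''ᵁ ⊤) := (isAffineOpen_top (Spec R)).image_of_isOpenImmersion j
  have h1 : Function.Surjective (ι.app (j ''ᵁ ⊤)).hom := ι.app_surjective _ hV
  have h2 : Function.Bijective ((Scheme.ΓSpecIso R).inv ≫ (j.appIso ⊤).inv).hom :=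
    ConcreteCategory.bijective_of_isIso _
  have h3 : (ρ ι j) = (ι.app (j ''ᵁ ⊤)).hom.comp ((Scheme.ΓSpecIso R).inv ≫ (j.appIso ⊤).inv).hom := by
    unfold ρ
    rw [← Category.assoc, CommRingCat.hom_comp]
  rw [h3]
  exact h1.comp h2.surjective

/-- the sections of the direct image of the structure sheaf over the chart -/
theorem exists_beta :
    ∃ β : Γ((FF ι).restrict j, (⊤ : (Spec R).Opens)) ≃+ Γ(X, ι ⁻¹ᵁ (j ''ᵁ ⊤)),
      ∀ (r : R) (x : Γ((FF ι).restrict j, (⊤ : (Spec R).Opens))), β (r • x) = ρ ι j r * β x := by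
  letI : Algebra R Γ(X, ι ⁻¹ᵁ (j ''ᵁ ⊤)) := (ρ ι j).toAlgebra
  refine ⟨(ψ ι j).toAddEquiv, fun r x => ?_⟩
  have h := (ψ ι j).map_smul r x
  rw [Algebra.smul_def] at h
  exact h

variable [IsLocallyNoetherian P]

/-- the sections of `ω` over the chart are `Ext^c_R(B, R)` -/
theorem exists_chart_data [IsNoetherianRing R] (G : P.Modules) [G.IsQuasicoherent]
    (eG : Γ(G.restrict j, (⊤ : (Spec R).Opens)) ≃ₗ[R] R)
    [ModSite.HasSheafHom (O := P.sheaf) (FF ι)] [HasInjectiveResolutions (ModSite.Mod P.sheaf)]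
    (c : ℕ) (ω : X.Modules)
    (hω : Nonempty ((Scheme.Modules.pushforward ι).obj ω ≅
      (ModSite.extSh (O := P.sheaf) (FF ι) c).obj G)) :
    ∃ θ : Γ(ω, ι ⁻¹ᵁ (j ''ᵁ ⊤)) ≃+
        Ext (ModuleCat.of R Γ((FF ι).restrict j, (⊤ : (Spec R).Opens))) (ModuleCat.of R R) c,
      ∀ (r : R) (x : Γ(ω, ι ⁻¹ᵁ (j ''ᵁ ⊤))), θ (ρ ι j r • x) = r • θ x := by
  obtain ⟨eω⟩ := hω
  letI : Module R Γ(ω, ι ⁻¹ᵁ (j ''ᵁ ⊤)) := Module.compHom _ (ρ ι j)
  obtain ⟨e⟩ := nonempty_restrict_extSh_iso_tilde (FF ι) G (ChangeRings.isCoh_push_unit ι) j c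
  let θ₁ := (ψF ι j ω).symm
  let θ₂ := Groth.Agent.Lead.TilT.sectionsEquivOfIso
    ((Scheme.Modules.restrictFunctor j).mapIso eω) ⊤
  let θ₃ := Groth.Agent.Lead.TilT.sectionsEquivOfIso e ⊤
  let θ₄ := (topEquiv R (ModuleCat.of R (Ext (ModuleCat.of R Γ((FF ι).restrict j,
    (⊤ : (Spec R).Opens))) (ModuleCat.of R Γ(G.restrict j, (⊤ : (Spec R).Opens))) c))).symm
  let θ₅ := ExtRank.postcompEquiv (A := R)
    (ModuleCat.of R Γ((FF ι).restrict j, (⊤ : (Spec R).Opens))) eG.toModuleIso c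
  refine ⟨(θ₁.trans (θ₂.trans (θ₃.trans (θ₄.trans θ₅)))).toAddEquiv, fun r x => ?_⟩
  exact (θ₁.trans (θ₂.trans (θ₃.trans (θ₄.trans θ₅)))).map_smul r x

variable [IsLocallyNoetherian X] [IsNoetherianRing R]
  (hreg : ∀ p : PrimeSpectrum R, IsRegularLocalRing (Localization.AtPrime p.asIdeal))
  (G : P.Modules) [G.IsQuasicoherent]
  (eG : Γ(G.restrict j, (⊤ : (Spec R).Opens)) ≃ₗ[R] R)
  [ModSite.HasSheafHom (O := P.sheaf) (FF ι)] [HasInjectiveResolutions (ModSite.Mod P.sheaf)]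
  (c : ℕ) (ω : X.Modules) [ω.IsQuasicoherent]
  (hω : Nonempty ((Scheme.Modules.pushforward ι).obj ω ≅
    (ModSite.extSh (O := P.sheaf) (FF ι) c).obj G))

include hreg eG hω in
/-- **torsion-freeness of the stalks** -/
theorem torsion_stalk_eq_bot [IsReduced X]
    (hK : ∀ p : PrimeSpectrum R, RingHom.ker (ρ ι j) ≤ p.asIdeal → (c : ℕ∞) ≤ p.asIdeal.height)
    (x : ↥(ι ⁻¹ᵁ (j ''ᵁ ⊤))) :
    Submodule.torsion (X.presheaf.stalk x.1) (ω.presheaf.stalk x.1) = ⊥ := by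
  have hV : IsAffineOpen (j ''ᵁ ⊤) := (isAffineOpen_top (Spec R)).image_of_isOpenImmersion j
  have hW : IsAffineOpen (ι ⁻¹ᵁ (j ''ᵁ ⊤)) := hV.preimage ι
  haveI : IsNoetherianRing Γ(X, ι ⁻¹ᵁ (j ''ᵁ ⊤)) :=
    IsLocallyNoetherian.component_noetherian ⟨_, hW⟩
  have hF : Coh.IsCoh (FF ι) := ChangeRings.isCoh_push_unit ι
  haveI : Module.Finite R Γ((FF ι).restrict j, (⊤ : (Spec R).Opens)) :=
    Groth.Agent.Helper1.AffFin.finite_restrict (FF ι) hF.1 hF.2 j
  obtain ⟨β, hβ⟩ := exists_beta ι j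
  obtain ⟨θ, hθ⟩ := exists_chart_data ι j G eG c ω hω
  have hAss := ExtTF.associatedPrimes_subset hreg (ρ ι j) (ρ_surjective ι j) _ β hβ c hK _ θ hθ
  haveI := hW.isLocalization_stalk x
  haveI := Groth.Agent.Lead.SD.isLocalizedModule_germ ω hW x
  exact ExtTF.torsion_eq_bot_of_associatedPrimes_subset Γ(ω, ι ⁻¹ᵁ (j ''ᵁ ⊤)) hAss
    (hW.primeIdealOf x).asIdeal.primeCompl (X.presheaf.stalk x.1) (ω.presheaf.stalk x.1)
    (Groth.Agent.Lead.SD.germₗ ω x)

include hreg eG hω in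
/-- **rank one at the points where the local ring is a field** -/
theorem finrank_stalk_eq_one (x : ↥(ι ⁻¹ᵁ (j ''ᵁ ⊤)))
    (hfield : IsField (X.presheaf.stalk x.1))
    (hht : ∀ hW : IsAffineOpen (ι ⁻¹ᵁ (j ''ᵁ ⊤)),
      ((hW.primeIdealOf x).asIdeal.comap (ρ ι j)).height = c) :
    Module.finrank (X.presheaf.stalk x.1) (ω.presheaf.stalk x.1) = 1 := by
  have hV : IsAffineOpen (j ''ᵁ ⊤) := (isAffineOpen_top (Spec R)).image_of_isOpenImmersion j
  have hW : IsAffineOpen (ι ⁻¹ᵁ (j ''ᵁ ⊤)) := hV.preimage ι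
  have hF : Coh.IsCoh (FF ι) := ChangeRings.isCoh_push_unit ι
  haveI : Module.Finite R Γ((FF ι).restrict j, (⊤ : (Spec R).Opens)) :=
    Groth.Agent.Helper1.AffFin.finite_restrict (FF ι) hF.1 hF.2 j
  obtain ⟨β, hβ⟩ := exists_beta ι j
  obtain ⟨θ, hθ⟩ := exists_chart_data ι j G eG c ω hω
  haveI := hW.isLocalization_stalk x
  haveI := Groth.Agent.Lead.SD.isLocalizedModule_germ ω hW x
  haveI : ((hW.primeIdealOf x).asIdeal.comap (ρ ι j)).IsPrime := Ideal.comap_isPrime _ _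
  exact ExtRank.finrank_eq_one hreg (ρ ι j) (ρ_surjective ι j) _ β hβ c _ θ hθ
    (hW.primeIdealOf x).asIdeal ((hW.primeIdealOf x).asIdeal.comap (ρ ι j)) rfl (hht hW)
    (X.presheaf.stalk x.1) hfield (ω.presheaf.stalk x.1) (Groth.Agent.Lead.SD.germₗ ω x)

end Chart

end Groth.Agent.Helper2.OmegaChart
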