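import Mathlib
import Groth.Prelude
import Groth.Agent.Lib.Helper2.Dual.OmegaChart
import Groth.Agent.Lib.Helper2.Dual.CMConverse
import Groth.Agent.Lib.Helper2.HomExt.PureDimCodim
import Groth.Agent.Lib.Helper2.HomExt.ClImmRefl
import Groth.Agent.Lib.Helper2.HomExt.ExtCoh
import Groth.Agent.Lib.Helper4.Equi1
import Groth.Agent.Lib.Helper4.SerreFin
import Groth.Agent.Lib.Helper5.Perf.LocalCoh

/-!
# The dualizing sheaf `ω` of a reduced closed subscheme of pure dimension `r` of `P^N_k` is
torsion free of rank one (helper2)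
-/

set_option autoImplicit false
set_option backward.isDefEq.respectTransparency.types false
set_option synthInstance.maxHeartbeats 400000
set_option maxHeartbeats 4000000
set_option linter.style.haveILetI false
set_option linter.unusedSectionVars false

universe u

namespace Groth.Agent.Helper2.OmegaPn

open CategoryTheory CategoryTheory.Limits CategoryTheory.Abelian AlgebraicGeometry LocCoh
open Groth.Agent.Helper2.HomExt Groth.Agent.Helper2.CMExtVanish Groth.Agent.Helper2.CMConverse

variable (k : Type u) [Field k] (N : ℕ)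

local notation "PP" => CohB1.ProjSpace N k
local notation "ωP" => Twist.twistProjSpace N k (-((N : ℤ) + 1))

/-- the dimension formula on the standard charts of projective space -/
theorem height_add_dim_quotient_chart (i : Fin (N + 1)) (p : Ideal Γ(PP, ProjCodim.V k N i))
    [p.IsPrime] :
    (p.height : WithBot ℕ∞) + ringKrullDim (Γ(PP, ProjCodim.V k N i) ⧸ p) = N := by
  obtain ⟨e⟩ := ProjCodim.nonempty_chartEquiv k N i
  haveI : (p.comap (e : MvPolynomial (Fin N) k →+* Γ(PP, ProjCodim.V k N i))).IsPrime :=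
    Ideal.comap_isPrime _ _
  have hform := Groth.Agent.Lib.Helper4.DimFT1.height_add_dim_quotient k (MvPolynomial (Fin N) k)
    (p.comap (e : MvPolynomial (Fin N) k →+* Γ(PP, ProjCodim.V k N i)))
  rw [MvPolynomial.ringKrullDim_of_isNoetherianRing, ringKrullDim_eq_zero_of_field, zero_add,
    Nat.card_fin] at hform
  have h1 : (p.comap (e : MvPolynomial (Fin N) k →+* Γ(PP, ProjCodim.V k N i))).height =
      p.height := RingEquiv.height_comap e p
  have h2 : ringKrullDim (MvPolynomial (Fin N) k ⧸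
      p.comap (e : MvPolynomial (Fin N) k →+* Γ(PP, ProjCodim.V k N i))) =
      ringKrullDim (Γ(PP, ProjCodim.V k N i) ⧸ p) :=
    ringKrullDim_eq_of_ringEquiv (Ideal.quotientEquiv _ _ e
      (Ideal.map_comap_of_surjective _ e.surjective p).symm)
  rw [h1, h2] at hform
  exact hform

variable {X : Scheme.{u}} (ι : X ⟶ CohB1.ProjSpace N k) [IsClosedImmersion ι] (r : ℕ)
  (hr : r ≤ N)
  (heq : ∀ Z : Set ↥X, Z ∈ irreducibleComponents ↥X → topologicalKrullDim ↥Z = (r : WithBot ℕ∞))

include hr heq in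
/-- the codimension of the points of `X` in the charts of `P^N` -/
theorem height_comap_ρ (i : Fin (N + 1)) (q : Ideal Γ(X, ι ⁻¹ᵁ ((jj k N i) ''ᵁ ⊤))) [q.IsPrime] :
    (q.comap (ρ ι (jj k N i))).height = ((N - r : ℕ) : ℕ∞) + q.height := by
  letI : X.Over (Spec (CommRingCat.of k)) := ⟨ι ≫ CohB1.ProjSpace.toSpec N k⟩
  haveI : LocallyOfFiniteType (X ↘ Spec (CommRingCat.of k)) :=
    (inferInstance : LocallyOfFiniteType (ι ≫ CohB1.ProjSpace.toSpec N k))
  have hV : IsAffineOpen ((jj k N i) ''ᵁ ⊤) :=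
    (isAffineOpen_top (Spec _)).image_of_isOpenImmersion (jj k N i)
  have hW : IsAffineOpen (ι ⁻¹ᵁ ((jj k N i) ''ᵁ ⊤)) := hV.preimage ι
  exact OmegaChart.height_comap_eq (ρ ι (jj k N i)) (OmegaChart.ρ_surjective ι (jj k N i)) N r hr
    (fun p _ => height_add_dim_quotient_chart k N i p)
    (fun q' _ => PureDimCodim.height_add_dim_quotient_of_pure k X r heq hW q') q

include hr heq in
/-- **the dualizing sheaf of a reduced closed subscheme of pure dimension `r` of projective space
is torsion free of rank one** -/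
theorem main [IsReduced X]
    [ModSite.HasSheafHom (O := (PP).sheaf) (FF ι)]
    [HasInjectiveResolutions (ModSite.Mod (PP).sheaf)]
    (ω : X.Modules)
    (hω : Nonempty ((Scheme.Modules.pushforward ι).obj ω ≅
      (ModSite.extSh (O := (PP).sheaf) (FF ι) (N - r)).obj ωP)) :
    (∀ x : X, Submodule.torsion (X.presheaf.stalk x) (ω.presheaf.stalk x) = ⊥) ∧
      ∀ x : X, closure ({x} : Set ↥X) ∈ irreducibleComponents ↥X →
        Module.finrank (X.presheaf.stalk x) (ω.presheaf.stalk x) = 1 := by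
  haveI : IsLocallyNoetherian PP := Groth.Agent.Lib.Helper4.SerreFin.instLN N k
  haveI : IsLocallyNoetherian X := LocallyOfFiniteType.isLocallyNoetherian ι
  have hωP : Coh.IsCoh ωP := Groth.Agent.Lib.Helper4.SerreFin.isCoh_twist N k _
  haveI : (ωP).IsQuasicoherent := hωP.1
  obtain ⟨e0⟩ := hω
  have hωcoh : Coh.IsCoh ω := by
    apply ClImmRefl.isCoh_of_push ι
    exact Groth.Agent.Lib.Helper5.LocalCoh.isCoh_of_iso e0.symm
      (isCoh_extSh _ ωP (ChangeRings.isCoh_push_unit ι) hωP (N - r))
  haveI : ω.IsQuasicoherent := hωcoh.1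
  have hchart : ∀ x : X, ∃ i : Fin (N + 1), x ∈ ι ⁻¹ᵁ ((jj k N i) ''ᵁ ⊤) := by
    intro x
    have hp : ι x ∈ (⨆ i, ProjCodim.V k N i : (PP).Opens) := by
      rw [ProjCodim.iSup_V]; trivial
    obtain ⟨i, hi⟩ := TopologicalSpace.Opens.mem_iSup.1 hp
    have himg : (jj k N i) ''ᵁ ⊤ = ProjCodim.V k N i := by
      rw [Scheme.Hom.image_top_eq_opensRange, IsAffineOpen.opensRange_fromSpec]
    refine ⟨i, ?_⟩
    rw [himg]
    exact hi
  have hregc : ∀ i : Fin (N + 1), ∀ p : PrimeSpectrum Γ(PP, ProjCodim.V k N i),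
      IsRegularLocalRing (Localization.AtPrime p.asIdeal) := by
    intro i p
    haveI := isRegularRing_chart k N i
    infer_instance
  constructor
  · intro x
    obtain ⟨i, hx⟩ := hchart x
    haveI := isRegularRing_chart k N i
    haveI : IsNoetherianRing Γ(PP, ProjCodim.V k N i) := inferInstance
    obtain ⟨eG⟩ := nonempty_sections_omega k N i
    have hK : ∀ p : PrimeSpectrum Γ(PP, ProjCodim.V k N i),
        RingHom.ker (ρ ι (jj k N i)) ≤ p.asIdeal → ((N - r : ℕ) : ℕ∞) ≤ p.asIdeal.height := by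
      intro p hle
      have hsurj := OmegaChart.ρ_surjective ι (jj k N i)
      haveI : (p.asIdeal.map (ρ ι (jj k N i))).IsPrime :=
        Ideal.map_isPrime_of_surjective hsurj hle
      have h1 := height_comap_ρ k N ι r hr heq i (p.asIdeal.map (ρ ι (jj k N i)))
      rw [Ideal.comap_map_of_surjective _ hsurj, ← RingHom.ker_eq_comap_bot,
        sup_eq_left.mpr hle] at h1
      rw [h1]
      exact le_self_add
    exact OmegaChart.torsion_stalk_eq_bot ι (jj k N i) (hregc i) ωP eG (N - r) ω ⟨e0⟩ hK ⟨x, hx⟩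
  · intro x hxgen
    obtain ⟨i, hx⟩ := hchart x
    haveI := isRegularRing_chart k N i
    haveI : IsNoetherianRing Γ(PP, ProjCodim.V k N i) := inferInstance
    obtain ⟨eG⟩ := nonempty_sections_omega k N i
    -- the local ring at a generic point is a field
    have hmin : (IsLocalRing.closedPoint (X.presheaf.stalk x)).asIdeal ∈
        minimalPrimes (X.presheaf.stalk x) := by
      apply Groth.Agent.Lib.Helper4.Equi1.minimal_of_closure_mem_irreducibleComponents x
      rw [Scheme.fromSpecStalk_closedPoint]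
      exact hxgen
    have hsub : Subsingleton (PrimeSpectrum (X.presheaf.stalk x)) := by
      refine ⟨fun P Q => ?_⟩
      have hP : P = IsLocalRing.closedPoint (X.presheaf.stalk x) := by
        apply PrimeSpectrum.ext
        exact le_antisymm (IsLocalRing.le_maximalIdeal P.isPrime.ne_top)
          (hmin.2 ⟨P.isPrime, bot_le⟩ (IsLocalRing.le_maximalIdeal P.isPrime.ne_top))
      have hQ : Q = IsLocalRing.closedPoint (X.presheaf.stalk x) := by
        apply PrimeSpectrum.ext
        exact le_antisymm (IsLocalRing.le_maximalIdeal Q.isPrime.ne_top)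
          (hmin.2 ⟨Q.isPrime, bot_le⟩ (IsLocalRing.le_maximalIdeal Q.isPrime.ne_top))
      rw [hP, hQ]
    have hfield : IsField (X.presheaf.stalk x) :=
      PrimeSpectrum.subsingleton_iff_isField_of_isReduced.mp hsub
    have hht : ∀ hW : IsAffineOpen (ι ⁻¹ᵁ ((jj k N i) ''ᵁ ⊤)),
        ((hW.primeIdealOf ⟨x, hx⟩).asIdeal.comap (ρ ι (jj k N i))).height = ((N - r : ℕ) : ℕ∞) := by
      intro hW
      rw [height_comap_ρ k N ι r hr heq i (hW.primeIdealOf ⟨x, hx⟩).asIdeal]
      letI := X.presheaf.algebra_section_stalk (U := ι ⁻¹ᵁ ((jj k N i) ''ᵁ ⊤)) ⟨x, hx⟩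
      haveI := hW.isLocalization_stalk ⟨x, hx⟩
      have h1 := IsLocalization.AtPrime.ringKrullDim_eq_height
        (hW.primeIdealOf ⟨x, hx⟩).asIdeal (X.presheaf.stalk x)
      rw [ringKrullDim_eq_zero_of_isField hfield] at h1
      have h2 : (hW.primeIdealOf ⟨x, hx⟩).asIdeal.height = 0 := by
        have : ((0 : ℕ∞) : WithBot ℕ∞) = ((hW.primeIdealOf ⟨x, hx⟩).asIdeal.height : WithBot ℕ∞) :=
          h1
        exact (WithBot.coe_injective this).symm
      rw [h2, add_zero]
    exact OmegaChart.finrank_stalk_eq_one ι (jj k N i) (hregc i) ωP eG (N - r) ω ⟨e0⟩ ⟨x, hx⟩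
      hfield hht

end Groth.Agent.Helper2.OmegaPn
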