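import Mathlib
import Groth.Prelude
import Groth.Agent.Lib.Helper2.Dual.OmegaPn
import Groth.Agent.Lib.Helper2.Dual.ExtTF2
import Groth.Agent.Lib.Helper4.CohIso1
import Groth.Agent.Lib.Helper4.JacDim2

/-!
# Morphisms into the dualizing sheaf `ω` of a closed subscheme of pure dimension of `P^N_k` are
determined at the generic points (helper2)
-/

set_option autoImplicit false
set_option backward.isDefEq.respectTransparency.types false
set_option synthInstance.maxHeartbeats 400000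
set_option maxHeartbeats 4000000
set_option linter.style.haveILetI false
set_option linter.unusedSectionVars false

universe u

namespace Groth.Agent.Helper2.OmegaHom

open CategoryTheory CategoryTheory.Limits CategoryTheory.Abelian AlgebraicGeometry LocCoh
open Groth.Agent.Helper2.HomExt Groth.Agent.Helper2.CMExtVanish Groth.Agent.Helper2.CMFlf
open Groth.Agent.Lead

attribute [local instance] Groth.Agent.Lead.SD.stalkModule

section Global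

variable {X : Scheme.{u}}

/-- a morphism of quasi-coherent modules vanishing on the sections over the members of an affine
open cover is zero -/
theorem eq_zero_of_charts (F ω : X.Modules) [F.IsQuasicoherent] [ω.IsQuasicoherent] (φ : F ⟶ ω)
    (h : ∀ x : X, ∃ (W : X.Opens) (_ : IsAffineOpen W), x ∈ W ∧ ∀ m : Γ(F, W), φ.app W m = 0) :
    φ = 0 := by
  apply Scheme.Modules.hom_ext
  intro U
  ext m
  show φ.app U m = 0
  apply TopCat.Presheaf.section_ext (⟨ω.presheaf, ω.isSheaf⟩ : TopCat.Sheaf Ab X) U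
  intro x hx
  rw [map_zero]
  obtain ⟨W, hW, hxW, hWz⟩ := h x
  obtain ⟨x', rfl⟩ : ∃ x' : W, x'.1 = x := ⟨⟨x, hxW⟩, rfl⟩
  haveI := SD.isLocalizedModule_germ F hW x'
  haveI := SD.isLocalizedModule_germ ω hW x'
  obtain ⟨⟨m', s⟩, hs⟩ := IsLocalizedModule.surj (hW.primeIdealOf x').asIdeal.primeCompl
    (SD.germₗ F x') (F.presheaf.germ U x'.1 hx m)
  have hs' : X.presheaf.germ W x'.1 x'.2 s.1 • F.presheaf.germ U x'.1 hx m =
      F.presheaf.germ W x'.1 x'.2 m' := hs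
  have h1 := congrArg (Groth.Agent.Lib.Helper4.CohIso1.stalkMapAb φ x'.1) hs'
  rw [Groth.Agent.Lib.Helper4.CohIso1.stalkMapAb_smul,
    Groth.Agent.Lib.Helper4.CohIso1.stalkMapAb_germ,
    Groth.Agent.Lib.Helper4.CohIso1.stalkMapAb_germ, hWz m', map_zero] at h1
  apply IsLocalizedModule.smul_injective (SD.germₗ ω x') s
  show X.presheaf.germ W x'.1 x'.2 s.1 • ω.presheaf.germ U x'.1 hx (φ.app U m) =
    X.presheaf.germ W x'.1 x'.2 s.1 • 0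
  rw [h1, smul_zero]

end Global

section Chart

variable {P X : Scheme.{u}} (ι : X ⟶ P) [IsClosedImmersion ι]
variable {R : CommRingCat.{u}} (j : Spec R ⟶ P) [IsOpenImmersion j]
variable [IsLocallyNoetherian P] [IsLocallyNoetherian X] [IsNoetherianRing R]
  (hreg : ∀ p : PrimeSpectrum R, IsRegularLocalRing (Localization.AtPrime p.asIdeal))
  (G : P.Modules) [G.IsQuasicoherent]
  (eG : Γ(G.restrict j, (⊤ : (Spec R).Opens)) ≃ₗ[R] R)
  [ModSite.HasSheafHom (O := P.sheaf) (FF ι)] [HasInjectiveResolutions (ModSite.Mod P.sheaf)]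
  (c : ℕ) (ω : X.Modules) [ω.IsQuasicoherent]
  (hω : Nonempty ((Scheme.Modules.pushforward ι).obj ω ≅
    (ModSite.extSh (O := P.sheaf) (FF ι) c).obj G))

include hreg eG hω in
/-- a morphism into `ω` vanishing near the generic points vanishes on the sections over the
chart -/
theorem app_chart_eq_zero
    (hK : ∀ p : PrimeSpectrum R, RingHom.ker (ρ ι j) ≤ p.asIdeal → (c : ℕ∞) ≤ p.asIdeal.height)
    (F : X.Modules) (φ : F ⟶ ω)
    (hφ : ∀ x : X, closure ({x} : Set ↥X) ∈ irreducibleComponents ↥X →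
      ∃ U : X.Opens, x ∈ U ∧ (Scheme.Modules.restrictFunctor U.ι).map φ = 0)
    (m : Γ(F, ι ⁻¹ᵁ (j ''ᵁ ⊤))) : φ.app (ι ⁻¹ᵁ (j ''ᵁ ⊤)) m = 0 := by
  have hV : IsAffineOpen (j ''ᵁ ⊤) := (isAffineOpen_top (Spec R)).image_of_isOpenImmersion j
  have hW : IsAffineOpen (ι ⁻¹ᵁ (j ''ᵁ ⊤)) := hV.preimage ι
  haveI : IsNoetherianRing Γ(X, ι ⁻¹ᵁ (j ''ᵁ ⊤)) :=
    IsLocallyNoetherian.component_noetherian ⟨_, hW⟩
  have hF : Coh.IsCoh (FF ι) := ChangeRings.isCoh_push_unit ι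
  haveI : Module.Finite R Γ((FF ι).restrict j, (⊤ : (Spec R).Opens)) :=
    Groth.Agent.Helper1.AffFin.finite_restrict (FF ι) hF.1 hF.2 j
  obtain ⟨β, hβ⟩ := OmegaChart.exists_beta ι j
  obtain ⟨θ, hθ⟩ := OmegaChart.exists_chart_data ι j G eG c ω hω
  have hAss := ExtTF2.associatedPrimes_subset hreg (ρ ι j) (OmegaChart.ρ_surjective ι j) _ β hβ c
    hK _ θ hθ
  by_contra hn
  obtain ⟨Q, hQass, hle⟩ := exists_le_isAssociatedPrime_of_isNoetherianRing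
    Γ(X, ι ⁻¹ᵁ (j ''ᵁ ⊤)) (φ.app (ι ⁻¹ᵁ (j ''ᵁ ⊤)) m) hn
  have hQmin : Q ∈ minimalPrimes Γ(X, ι ⁻¹ᵁ (j ''ᵁ ⊤)) := hAss hQass
  haveI hQp : Q.IsPrime := hQass.isPrime
  obtain ⟨ξ, hξ⟩ : ∃ ξ : ↥(ι ⁻¹ᵁ (j ''ᵁ ⊤)),
      ξ = ⟨hW.fromSpec ⟨Q, hQp⟩, SD.fromSpec_mem hW _⟩ := ⟨_, rfl⟩
  have hξ1 : ξ.1 = hW.fromSpec ⟨Q, hQp⟩ := by rw [hξ]
  have hξp : hW.primeIdealOf ξ = ⟨Q, hQp⟩ := by
    rw [hξ]
    exact SD.primeIdealOf_fromSpec hW _
  have hgen : closure ({ξ.1} : Set X) ∈ irreducibleComponents X := by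
    apply Groth.Agent.Lib.Helper4.JacDim2.closure_mem_irreducibleComponents_of_max
    intro b hb
    have hbW : b ∈ ι ⁻¹ᵁ (j ''ᵁ ⊤) := hb.mem_open (ι ⁻¹ᵁ (j ''ᵁ ⊤)).2 ξ.2
    have h1 : hW.fromSpec (hW.primeIdealOf ⟨b, hbW⟩) = b := hW.fromSpec_primeIdealOf ⟨b, hbW⟩
    have h2' : hW.fromSpec (hW.primeIdealOf ⟨b, hbW⟩) ⤳ hW.fromSpec ⟨Q, hQp⟩ := by
      rw [h1, ← hξ1]
      exact hb
    have h2 : hW.primeIdealOf ⟨b, hbW⟩ ⤳ (⟨Q, hQp⟩ : PrimeSpectrum Γ(X, ι ⁻¹ᵁ (j ''ᵁ ⊤))) :=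
      hW.fromSpec.isOpenEmbedding.isInducing.specializes_iff.mp h2'
    have h3 : hW.primeIdealOf ⟨b, hbW⟩ ≤ ⟨Q, hQp⟩ := (PrimeSpectrum.le_iff_specializes _ _).mpr h2
    have h4 : Q ≤ (hW.primeIdealOf ⟨b, hbW⟩).asIdeal :=
      hQmin.2 ⟨(hW.primeIdealOf ⟨b, hbW⟩).isPrime, bot_le⟩ h3
    have h5 : hW.primeIdealOf ⟨b, hbW⟩ = ⟨Q, hQp⟩ := PrimeSpectrum.ext (le_antisymm h3 h4)
    rw [← h1, h5, ← hξ1]
  obtain ⟨U', hξU', hzero⟩ := hφ _ hgen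
  have hV''W : U'.ι ''ᵁ (U'.ι ⁻¹ᵁ (ι ⁻¹ᵁ (j ''ᵁ ⊤))) ≤ ι ⁻¹ᵁ (j ''ᵁ ⊤) :=
    U'.ι.image_preimage_le _
  have hξV'' : ξ.1 ∈ U'.ι ''ᵁ (U'.ι ⁻¹ᵁ (ι ⁻¹ᵁ (j ''ᵁ ⊤))) := by
    rw [Scheme.Hom.image_preimage_eq_opensRange_inf, Scheme.Opens.opensRange_ι]
    exact ⟨hξU', ξ.2⟩
  have hzero' : φ.app (U'.ι ''ᵁ (U'.ι ⁻¹ᵁ (ι ⁻¹ᵁ (j ''ᵁ ⊤)))) = 0 :=
    congrArg (fun ψ => ψ.app (U'.ι ⁻¹ᵁ (ι ⁻¹ᵁ (j ''ᵁ ⊤)))) hzero
  have hres : ω.presheaf.map (homOfLE hV''W).op (φ.app (ι ⁻¹ᵁ (j ''ᵁ ⊤)) m) = 0 := by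
    have hnat := congr($(φ.mapPresheaf.naturality (homOfLE hV''W).op) m)
    have hnat' : φ.app (U'.ι ''ᵁ (U'.ι ⁻¹ᵁ (ι ⁻¹ᵁ (j ''ᵁ ⊤))))
        (F.presheaf.map (homOfLE hV''W).op m) =
        ω.presheaf.map (homOfLE hV''W).op (φ.app (ι ⁻¹ᵁ (j ''ᵁ ⊤)) m) := hnat
    rw [← hnat', hzero']
    rfl
  have hgerm : SD.germₗ ω ξ (φ.app (ι ⁻¹ᵁ (j ''ᵁ ⊤)) m) = 0 := by
    show ω.presheaf.germ (ι ⁻¹ᵁ (j ''ᵁ ⊤)) ξ.1 ξ.2 (φ.app (ι ⁻¹ᵁ (j ''ᵁ ⊤)) m) = 0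
    rw [← TopCat.Presheaf.germ_res_apply ω.presheaf (homOfLE hV''W) _ hξV'', hres, map_zero]
  haveI := SD.isLocalizedModule_germ ω hW ξ
  obtain ⟨s, hs⟩ := (IsLocalizedModule.eq_zero_iff
    (hW.primeIdealOf ξ).asIdeal.primeCompl (SD.germₗ ω ξ)).mp hgerm
  have hsQ : (s : Γ(X, ι ⁻¹ᵁ (j ''ᵁ ⊤))) ∈ Q := hle (by
    rw [Submodule.mem_colon_singleton]
    exact hs)
  have hs2 : (s : Γ(X, ι ⁻¹ᵁ (j ''ᵁ ⊤))) ∉ (hW.primeIdealOf ξ).asIdeal := s.2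
  have hQeq : (hW.primeIdealOf ξ).asIdeal = Q := congrArg PrimeSpectrum.asIdeal hξp
  exact hs2 (hQeq.ge hsQ)

end Chart

section Pn

variable (k : Type u) [Field k] (N : ℕ)

local notation "PP" => CohB1.ProjSpace N k
local notation "ωP" => Twist.twistProjSpace N k (-((N : ℤ) + 1))

variable {X : Scheme.{u}} (ι : X ⟶ CohB1.ProjSpace N k) [IsClosedImmersion ι] (r : ℕ)
  (hr : r ≤ N)
  (heq : ∀ Z : Set ↥X, Z ∈ irreducibleComponents ↥X → topologicalKrullDim ↥Z = (r : WithBot ℕ∞))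

open Groth.Agent.Helper2.CMConverse in
include hr heq in
/-- **morphisms into the dualizing sheaf are determined at the generic points** -/
theorem main
    [ModSite.HasSheafHom (O := (PP).sheaf) (FF ι)]
    [HasInjectiveResolutions (ModSite.Mod (PP).sheaf)]
    (ω : X.Modules)
    (hω : Nonempty ((Scheme.Modules.pushforward ι).obj ω ≅
      (ModSite.extSh (O := (PP).sheaf) (FF ι) (N - r)).obj ωP))
    (F : X.Modules) (hF : Coh.IsCoh F) (φ : F ⟶ ω)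
    (hφ : ∀ x : X, closure ({x} : Set ↥X) ∈ irreducibleComponents ↥X →
      ∃ U : X.Opens, x ∈ U ∧ (Scheme.Modules.restrictFunctor U.ι).map φ = 0) :
    φ = 0 := by
  haveI : IsLocallyNoetherian PP := Groth.Agent.Lib.Helper4.SerreFin.instLN N k
  haveI : IsLocallyNoetherian X := LocallyOfFiniteType.isLocallyNoetherian ι
  have hωP : Coh.IsCoh ωP := Groth.Agent.Lib.Helper4.SerreFin.isCoh_twist N k _
  haveI : (ωP).IsQuasicoherent := hωP.1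
  obtain ⟨e0⟩ := hω
  have hωcoh : Coh.IsCoh ω := by
    apply ClImmRefl.isCoh_of_push ι
    exact Groth.Agent.Lib.Helper5.LocalCoh.isCoh_of_iso e0.symm
      (isCoh_extSh _ ωP (ChangeRings.isCoh_push_unit ι) hωP (N - r))
  haveI : ω.IsQuasicoherent := hωcoh.1
  haveI : F.IsQuasicoherent := hF.1
  apply eq_zero_of_charts F ω φ
  intro x
  have hp : ι x ∈ (⨆ i, ProjCodim.V k N i : (PP).Opens) := by
    rw [ProjCodim.iSup_V]; trivial
  obtain ⟨i, hi⟩ := TopologicalSpace.Opens.mem_iSup.1 hp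
  have himg : (jj k N i) ''ᵁ ⊤ = ProjCodim.V k N i := by
    rw [Scheme.Hom.image_top_eq_opensRange, IsAffineOpen.opensRange_fromSpec]
  have hV : IsAffineOpen ((jj k N i) ''ᵁ ⊤) :=
    (isAffineOpen_top (Spec _)).image_of_isOpenImmersion (jj k N i)
  have hW : IsAffineOpen (ι ⁻¹ᵁ ((jj k N i) ''ᵁ ⊤)) := hV.preimage ι
  refine ⟨ι ⁻¹ᵁ ((jj k N i) ''ᵁ ⊤), hW, ?_, ?_⟩
  · rw [himg]
    exact hi
  · haveI := isRegularRing_chart k N i
    haveI : IsNoetherianRing Γ(PP, ProjCodim.V k N i) := inferInstance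
    obtain ⟨eG⟩ := nonempty_sections_omega k N i
    have hK : ∀ p : PrimeSpectrum Γ(PP, ProjCodim.V k N i),
        RingHom.ker (ρ ι (jj k N i)) ≤ p.asIdeal → ((N - r : ℕ) : ℕ∞) ≤ p.asIdeal.height := by
      intro p hle
      have hsurj := OmegaChart.ρ_surjective ι (jj k N i)
      haveI : (p.asIdeal.map (ρ ι (jj k N i))).IsPrime :=
        Ideal.map_isPrime_of_surjective hsurj hle
      have h1 := OmegaPn.height_comap_ρ k N ι r hr heq i (p.asIdeal.map (ρ ι (jj k N i)))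
      rw [Ideal.comap_map_of_surjective _ hsurj, ← RingHom.ker_eq_comap_bot,
        sup_eq_left.mpr hle] at h1
      rw [h1]
      exact le_self_add
    exact app_chart_eq_zero ι (jj k N i) (fun p => inferInstance) ωP eG (N - r) ω ⟨e0⟩ hK F φ hφ

end Pn

end Groth.Agent.Helper2.OmegaHom
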