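import Mathlib
import Groth.Prelude
import Groth.Agent.Lib.Helper2.Dual.PnStalkExt
import Groth.Agent.Lib.Helper8.LD11
import Groth.Agent.Lib.Helper8.ABS21
import Groth.Agent.Lib.Helper8.LC18
import Groth.Agent.Lib.Helper1.MatlisL
import Groth.Agent.Lib.Helper1.FinPush

/-!
# Coherent sheaves on projective space: cohomology of the negative twists versus the local
cohomology of the stalks at closed points (helper2)
-/

set_option autoImplicit false
set_option backward.isDefEq.respectTransparency.types false
set_option synthInstance.maxHeartbeats 400000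
set_option maxHeartbeats 4000000
set_option linter.style.haveILetI false
set_option linter.unusedSectionVars false

universe u

namespace Groth.Agent.Helper2.PnLocCoh

open CategoryTheory CategoryTheory.Limits CategoryTheory.Abelian AlgebraicGeometry LocCoh
open Groth.Agent.Helper2.HomExt Groth.Agent.Helper2.CMExtVanish Groth.Agent.Helper2.CMConverse
open Groth.Agent.Lib.Helper4.RadBir3

section Alg

/-- local duality over a regular local ring, in the form of a vanishing criterion -/
theorem subsingleton_H_iff_ext (A : Type u) [CommRing A] [IsRegularLocalRing A] (N : ℕ)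
    (hN : ringKrullDim A = N) (M : Type u) [AddCommGroup M] [Module A M] [Module.Finite A M]
    (i j : ℕ) (hij : i + j = N) :
    Subsingleton (LocCoh.H (IsLocalRing.maximalIdeal A) i M) ↔
      Subsingleton (Ext (ModuleCat.of A M) (ModuleCat.of A A) j) := by
  haveI := Groth.Agent.Helper8.ABS.isGorensteinLocalRing_of_isRegularLocalRing A
  obtain ⟨g, hg⟩ := Groth.Agent.Helper8.LD.exists_isInjectiveHull_H_of_gorenstein A N hN
  obtain ⟨e⟩ := Groth.Agent.Helper8.LD.nonempty_H_equiv_dual_ext_of_gorenstein A N hN _ g hg M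
    i j hij
  constructor
  · intro h
    refine ⟨fun x y => ?_⟩
    by_contra hxy
    obtain ⟨φ, hφ⟩ := Groth.Agent.Helper1.MatlisL.exists_dual_ne_zero g hg (sub_ne_zero.mpr hxy)
    apply hφ
    have h0 : φ = 0 := e.symm.injective (Subsingleton.elim _ _)
    rw [h0]
    rfl
  · intro h
    refine ⟨fun a b => e.injective (LinearMap.ext fun t => ?_)⟩
    rw [Subsingleton.elim t 0, map_zero, map_zero]

end Alg

variable (k : Type u) [Field k] (N : ℕ)

local notation "PP" => CohB1.ProjSpace N k
local notation "ωP" => Twist.twistProjSpace N k (-((N : ℤ) + 1))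

variable (F : (CohB1.ProjSpace N k).Modules) (hF : Coh.IsCoh F)

attribute [local instance] Groth.Agent.Lead.SD.stalkModule

include hF in
/-- the `Ext` modules on the charts vanish as soon as those of the stalks at the closed points do -/
theorem subsingleton_ext_charts_of_closed (j : ℕ)
    (h : ∀ x : PP, IsClosed ({x} : Set PP) →
      Subsingleton (Ext (ModuleCat.of ((PP).presheaf.stalk x) (F.presheaf.stalk x))
        (ModuleCat.of ((PP).presheaf.stalk x) ((PP).presheaf.stalk x)) j)) (i' : Fin (N + 1)) :
    Subsingleton (Abelian.Ext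
      (ModuleCat.of Γ(PP, ProjCodim.V k N i')
        Γ(F.restrict (jj k N i'), (⊤ : (Spec Γ(PP, ProjCodim.V k N i')).Opens)))
      (ModuleCat.of Γ(PP, ProjCodim.V k N i') Γ(PP, ProjCodim.V k N i')) j) := by
  haveI : JacobsonSpace PP :=
    LocallyOfFiniteType.jacobsonSpace (CohB1.ProjSpace.toSpec N k)
  haveI := isRegularRing_chart k N i'
  haveI : IsNoetherianRing Γ(PP, ProjCodim.V k N i') := inferInstance
  haveI : Module.Finite Γ(PP, ProjCodim.V k N i')
      Γ(F.restrict (jj k N i'), (⊤ : (Spec Γ(PP, ProjCodim.V k N i')).Opens)) :=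
    Groth.Agent.Helper1.AffFin.finite_restrict F hF.1 hF.2 (jj k N i')
  apply PnStalkExt.subsingleton_ext_of_forall_maximal
  intro 𝔪 h𝔪
  have hV := ProjCodim.isAffineOpen_V k N i'
  let z : PrimeSpectrum Γ(PP, ProjCodim.V k N i') := ⟨𝔪, h𝔪.isPrime⟩
  have hxV : hV.fromSpec z ∈ ProjCodim.V k N i' := fromSpec_mem hV z
  have hcl := isClosed_fromSpec_of_isMaximal hV 𝔪
  have h2 := (PnStalkExt.subsingleton_ext_stalk_iff k N F hF i' ⟨hV.fromSpec z, hxV⟩ j).mp
    (h _ hcl)
  have key : ∀ z' : PrimeSpectrum Γ(PP, ProjCodim.V k N i'), z' = z →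
      Subsingleton (Ext
        ((ModuleCat.localizedModuleFunctor.{u} z'.asIdeal.primeCompl).obj
          (ModuleCat.of Γ(PP, ProjCodim.V k N i')
            Γ(F.restrict (jj k N i'), (⊤ : (Spec Γ(PP, ProjCodim.V k N i')).Opens))))
        ((ModuleCat.localizedModuleFunctor.{u} z'.asIdeal.primeCompl).obj
          (ModuleCat.of Γ(PP, ProjCodim.V k N i') Γ(PP, ProjCodim.V k N i'))) j) →
      Subsingleton (Ext
        ((ModuleCat.localizedModuleFunctor.{u} 𝔪.primeCompl).obj
          (ModuleCat.of Γ(PP, ProjCodim.V k N i')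
            Γ(F.restrict (jj k N i'), (⊤ : (Spec Γ(PP, ProjCodim.V k N i')).Opens))))
        ((ModuleCat.localizedModuleFunctor.{u} 𝔪.primeCompl).obj
          (ModuleCat.of Γ(PP, ProjCodim.V k N i') Γ(PP, ProjCodim.V k N i'))) j) := by
    rintro _ rfl h0
    exact h0
  exact key _ (primeIdealOf_fromSpec hV z) h2

include hF in
/-- the local rings of projective space at closed points are regular of dimension `N`, and the
stalks of coherent modules are finite -/
theorem stalk_facts (x : PP) (hx : IsClosed ({x} : Set PP)) :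
    IsRegularLocalRing ((PP).presheaf.stalk x) ∧ ringKrullDim ((PP).presheaf.stalk x) = N ∧
      Module.Finite ((PP).presheaf.stalk x) (F.presheaf.stalk x) := by
  have hp : x ∈ (⨆ i, ProjCodim.V k N i : (PP).Opens) := by
    rw [ProjCodim.iSup_V]; trivial
  obtain ⟨i, hi⟩ := TopologicalSpace.Opens.mem_iSup.1 hp
  have hV := ProjCodim.isAffineOpen_V k N i
  set z := hV.primeIdealOf ⟨x, hi⟩ with hz'
  have hzx : hV.fromSpec z = x := hV.fromSpec_primeIdealOf ⟨x, hi⟩
  have hcl : IsClosed ({z} : Set (PrimeSpectrum Γ(PP, ProjCodim.V k N i))) := by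
    have h1 : IsClosed (hV.fromSpec ⁻¹' {x}) := hx.preimage hV.fromSpec.continuous
    have h2 : hV.fromSpec ⁻¹' {x} = {z} := by
      ext y
      simp only [Set.mem_preimage, Set.mem_singleton_iff]
      constructor
      · intro hy
        exact hV.fromSpec.isOpenEmbedding.injective (hy.trans hzx.symm)
      · rintro rfl
        exact hzx
    rwa [h2] at h1
  haveI hmax : z.asIdeal.IsMaximal := (PrimeSpectrum.isClosed_singleton_iff_isMaximal z).1 hcl
  haveI := isRegularRing_chart k N i
  letI := (PP).presheaf.algebra_section_stalk (U := ProjCodim.V k N i) ⟨x, hi⟩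
  haveI := hV.isLocalization_stalk ⟨x, hi⟩
  let eR : Localization.AtPrime z.asIdeal ≃+* (PP).presheaf.stalk x :=
    (IsLocalization.algEquiv z.asIdeal.primeCompl (Localization.AtPrime z.asIdeal)
      ((PP).presheaf.stalk x)).toRingEquiv
  haveI : F.IsQuasicoherent := hF.1
  refine ⟨IsRegularLocalRing.of_ringEquiv eR, ?_, ?_⟩
  · rw [← ringKrullDim_eq_of_ringEquiv eR]
    exact PnDepth.ringKrullDim_localization_chart k N i z.asIdeal
  · exact Groth.Agent.Lead.SD.finite_stalk_of_finite_sections F hV ⟨x, hi⟩
      (Groth.Agent.Helper1.FinPush.finite_sections F hF hV)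

include hF in
/-- **cohomology of the negative twists versus local cohomology of the stalks at closed points** -/
theorem vanishing_iff_localCohomology (i : ℕ) :
    (∃ m₀ : ℤ, ∀ m : ℤ, m₀ ≤ m →
        Subsingleton (Coh.HH PP (CohB1.tensorMod F (Twist.twistProjSpace N k (-m))) i)) ↔
    ∀ x : PP, IsClosed ({x} : Set PP) →
      Subsingleton (LocCoh.H (IsLocalRing.maximalIdeal ((PP).presheaf.stalk x)) i
        (F.presheaf.stalk x)) := by
  haveI : IsLocallyNoetherian PP := Groth.Agent.Lib.Helper4.SerreFin.instLN N k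
  by_cases hi : i ≤ N
  · have hij : i + (N - i) = N := by omega
    constructor
    · intro h x hx
      obtain ⟨h1, h2, h3⟩ := stalk_facts k N F hF x hx
      haveI := h1
      haveI := h3
      exact (subsingleton_H_iff_ext _ N h2 _ i (N - i) hij).mpr
        ((PnStalkExt.vanishing_iff_ext_stalks k N F hF i (N - i) hij).mp h x)
    · intro h
      haveI : ModSite.HasSheafHom (O := (PP).sheaf) F := Groth.Agent.Helper3.SHomEx.hasSheafHom _
      haveI : HasInjectiveResolutions (ModSite.Mod (PP).sheaf) :=
        Groth.Agent.Helper3.LerayCol.hasInjectiveResolutions PP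
      have h1 := TwistExt.main k N F hF (N - i) (Nat.sub_le N i)
      rw [Nat.sub_sub_self hi] at h1
      rw [h1, PnDepth.isZero_extSh_iff_charts k N F hF (N - i)]
      apply subsingleton_ext_charts_of_closed k N F hF (N - i)
      intro x hx
      obtain ⟨h1, h2, h3⟩ := stalk_facts k N F hF x hx
      haveI := h1
      haveI := h3
      exact (subsingleton_H_iff_ext _ N h2 _ i (N - i) hij).mp (h x hx)
  · rw [not_le] at hi
    constructor
    · intro _ x hx
      obtain ⟨h1, h2, h3⟩ := stalk_facts k N F hF x hx
      haveI := h1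
      haveI : IsNoetherianRing ((PP).presheaf.stalk x) := inferInstance
      exact Groth.Agent.Helper8.LC.cdLE_of_ringKrullDim_le _ N h2.le _ i hi
    · intro _
      refine ⟨0, fun m _ => ?_⟩
      haveI : F.IsQuasicoherent := hF.1
      haveI : (Twist.twistProjSpace N k (-m)).IsQuasicoherent :=
        (Groth.Agent.Lib.Helper4.SerreFin.isCoh_twist N k _).1
      haveI : Coh.IsQCoh (CohB1.tensorMod F (Twist.twistProjSpace N k (-m))) :=
        Groth.Agent.Lead.TilT.isQuasicoherent_tensorMod F _
      exact Groth.Agent.S0022.result N k _ i hi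

end Groth.Agent.Helper2.PnLocCoh
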