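import Mathlib
import Groth.Prelude
import Groth.Agent.Lib.Helper1.IdealMul1
import Groth.Agent.Lib.Helper1.TwForm4
import Groth.Agent.Lib.Helper1.PullQA
import Groth.Agent.Lib.Helper1.PullBC
import Groth.Agent.Lib.Helper1.AmpleQA
import Groth.Agent.Lib.Helper1.GrTwAmpleOpen
import Groth.Agent.Lib.Helper1.PullSec
import Groth.Agent.Lib.Helper3.FibDepth

/-!
# Closed subsets disjoint from an ample effective Cartier divisor (helper2)

* `exists_isGen_compl_support`: an inverse `L` of the ideal module of `I` is free of rank one on the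
  complement of the support of `I`;
* `isFinite_of_disjoint`: a closed subscheme of a proper `A`-scheme disjoint from an ample effective
  Cartier divisor is finite over `A`;
* `isClosed_asFiber`: its points are closed in their fibres.
-/

set_option autoImplicit false
set_option backward.isDefEq.respectTransparency.types false
set_option synthInstance.maxHeartbeats 400000
set_option maxHeartbeats 4000000
set_option linter.style.haveILetI false
set_option linter.unusedSectionVars false

universe u

namespace Groth.Agent.Helper2.AmpleDisj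

open CategoryTheory CategoryTheory.Limits AlgebraicGeometry TopologicalSpace Opposite
open Groth.Agent.Helper1 Groth.Agent.Helper1.LGen Groth.Agent.Helper1.QcCech
open Groth.Agent.Helper1.TmulLib Groth.Agent.Helper1.TensGen Groth.Agent.Helper1.IdealModL
open Groth.Agent.Lead.IdM

variable {X : Scheme.{u}}

/-- the open complement of the support of an ideal sheaf -/
def compl (I : X.IdealSheafData) : X.Opens :=
  ⟨(I.support : Set X)ᶜ, I.support.isClosed.isOpen_compl⟩

theorem subsingleton_quot_of_le (I : X.IdealSheafData) (V : X.Opens) (hV : V ≤ compl I) :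
    Subsingleton Γ(I.subscheme, I.subschemeι ⁻¹ᵁ V) := by
  have hbot : I.subschemeι ⁻¹ᵁ V = ⊥ := by
    ext z
    simp only [Opens.coe_bot, Set.mem_empty_iff_false, iff_false]
    intro hz
    have h1 : I.subschemeι z ∈ (I.support : Set X) := by
      rw [← Scheme.IdealSheafData.range_subschemeι]
      exact ⟨z, rfl⟩
    exact hV hz h1
  rw [hbot]
  infer_instance

/-- the ideal module is generated by (a lift of) `1` on the complement of the support -/
theorem exists_isGen_idealMod (I : X.IdealSheafData) :
    ∃ μ : Γ(ClSub.idealMod I, compl I), IsGen (ClSub.idealMod I) (compl I) μ ∧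
      ιL I (compl I) μ = 1 := by
  haveI := subsingleton_quot_of_le I (compl I) le_rfl
  obtain ⟨μ, hμ⟩ := exists_of_app_eq_zero I (compl I) (1 : Γ(X, compl I))
    (Subsingleton.elim _ _)
  have hμ' : ιL I (compl I) μ = 1 := hμ
  refine ⟨μ, ?_, hμ'⟩
  intro V hV
  have hres : ιL I V (res (ClSub.idealMod I) hV μ) = 1 := by
    have h1 := ιL_res I hV μ
    rw [hμ', map_one] at h1
    exact h1
  have hval : ∀ r : Γ(X, V), ιL I V (r • res (ClSub.idealMod I) hV μ) = r := by
    intro r
    rw [map_smul, hres, smul_eq_mul, mul_one]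
  constructor
  · intro r r' h
    have h2 := congrArg (ιL I V) h
    simp only at h2
    rwa [hval, hval] at h2
  · intro y
    refine ⟨ιL I V y, ?_⟩
    apply ιL_injective I V
    simp only
    rw [hval]

/-- an inverse of the ideal module is free of rank one on the complement of the support -/
theorem exists_isGen_compl_support (I : X.IdealSheafData) {L : X.Modules}
    (hL : ClSub.IsInverseOf L (ClSub.idealMod I)) :
    ∃ e : Γ(L, compl I), IsGen L (compl I) e := by
  obtain ⟨eM⟩ := hL
  obtain ⟨μ, hμ, -⟩ := exists_isGen_idealMod I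
  -- the comparison bijections
  let Φ : ∀ (V : X.Opens) (hV : V ≤ compl I), Γ(L, V) → Γ(Coh.structureModule X, V) :=
    fun V hV x => eM.hom.app V (tm L (ClSub.idealMod I) V x (res (ClSub.idealMod I) hV μ))
  have hΦbij : ∀ (V : X.Opens) (hV : V ≤ compl I), Function.Bijective (Φ V hV) := by
    intro V hV
    have h1 := bijective_tm_of_isGen L (hμ.res hV)
    have h2 : Function.Bijective (eM.hom.app V) := by
      have : IsIso (eM.hom.app V) := inferInstance
      exact (ConcreteCategory.isIso_iff_bijective _).1 this
    exact h2.comp h1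
  have hΦsmul : ∀ (V : X.Opens) (hV : V ≤ compl I) (r : Γ(X, V)) (x : Γ(L, V)),
      Φ V hV (r • x) = r • Φ V hV x := by
    intro V hV r x
    change eM.hom.app V (tm L _ V (r • x) _) = r • eM.hom.app V (tm L _ V x _)
    rw [tm_smul_left, Scheme.Modules.Hom.app_smul]
  have hΦres : ∀ (V : X.Opens) (hV : V ≤ compl I) (x : Γ(L, compl I)),
      Φ V hV (res L hV x) = res (Coh.structureModule X) hV (Φ (compl I) le_rfl x) := by
    intro V hV x
    change eM.hom.app V (tm L _ V (res L hV x) (res _ hV μ)) =
      res _ hV (eM.hom.app _ (tm L _ _ x (res _ le_rfl μ)))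
    rw [← QcExt.app_res, res_tm, QcCech.res_res]
  obtain ⟨e, he⟩ := (hΦbij (compl I) le_rfl).2
    (show Γ(Coh.structureModule X, compl I) from (1 : Γ(X, compl I)))
  refine ⟨e, ?_⟩
  intro V hV
  have hcomp : (Φ V hV) ∘ (fun r : Γ(X, V) => r • res L hV e) =
      fun r : Γ(X, V) => (show Γ(Coh.structureModule X, V) from r) := by
    funext r
    change Φ V hV (r • res L hV e) = _
    rw [hΦsmul, hΦres, he]
    change r * (X.presheaf.map (homOfLE hV).op).hom 1 = r
    rw [map_one, mul_one]
  have hb : Function.Bijective ((Φ V hV) ∘ (fun r : Γ(X, V) => r • res L hV e)) := by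
    rw [hcomp]
    exact Function.bijective_id
  exact (Function.Bijective.of_comp_iff' (hΦbij V hV) _).1 hb

section Finite

variable (A : Type u) [CommRing A] [X.Over (Spec (CommRingCat.of A))]
  [IsProper (X ↘ Spec (CommRingCat.of A))]

/-- a closed subscheme of a proper `A`-scheme which is disjoint from an ample effective Cartier
divisor is finite over `A` -/
theorem isFinite_of_disjoint (I : X.IdealSheafData) {L : X.Modules}
    (hL : ClSub.IsInverseOf L (ClSub.idealMod I)) (hamp : CohB1.IsAmple L)
    (J : X.IdealSheafData) (hJ : Disjoint (J.support : Set X) (I.support : Set X)) :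
    IsFinite (J.subschemeι ≫ (X ↘ Spec (CommRingCat.of A))) := by
  obtain ⟨e, he⟩ := exists_isGen_compl_support I hL
  obtain ⟨triv⟩ := TwForm.nonempty_trivialization_of_isGen he
  -- the factorization through the open complement
  have hrange : Set.range J.subschemeι ⊆ Set.range (compl I).ι := by
    rw [Scheme.IdealSheafData.range_subschemeι, Scheme.Opens.range_ι]
    intro x hx hxI
    exact (Set.disjoint_left.1 hJ) hx hxI
  let i' : J.subscheme ⟶ (compl I : Scheme.{u}) := IsOpenImmersion.lift (compl I).ι J.subschemeι hrange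
  have hfac : i' ≫ (compl I).ι = J.subschemeι := IsOpenImmersion.lift_fac _ _ _
  -- the pullback of `L` to the closed subscheme is trivial
  let φ : (Scheme.Modules.pullback J.subschemeι).obj L ≅ Coh.structureModule J.subscheme :=
    (Scheme.Modules.pullbackCongr hfac.symm).app L ≪≫
    ((Scheme.Modules.pullbackComp i' (compl I).ι).app L).symm ≪≫
    (Scheme.Modules.pullback i').mapIso
      ((Scheme.Modules.restrictFunctorIsoPullback (compl I).ι).app L).symm ≪≫
    (Scheme.Modules.pullback i').mapIso triv ≪≫ PullSec.unitIso i'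
  have hamp' : CohB1.IsAmple ((Scheme.Modules.pullback J.subschemeι).obj L) :=
    PullAmple.isAmple_pullback_of_isQuasiAffine J.subschemeι
      (PullAmple.isQuasiAffine_of_isAffineHom J.subschemeι) hamp
  have hO : CohB1.IsAmple (Coh.structureModule J.subscheme) :=
    GrTwAmpleOpen.isAmple_of_iso φ hamp'
  haveI : J.subscheme.IsQuasiAffine := GenLoc.isQuasiAffine_of_isAmple_O hO
  -- quasi-affine and proper implies affine
  let g := J.subschemeι ≫ (X ↘ Spec (CommRingCat.of A))
  haveI : IsProper g := inferInstance
  have hnat : g ≫ (Spec (CommRingCat.of A)).toSpecΓ = J.subscheme.toSpecΓ ≫ Spec.map g.appTop :=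
    Scheme.toSpecΓ_naturality g
  haveI : IsProper (J.subscheme.toSpecΓ ≫ Spec.map g.appTop) := by
    rw [← hnat]; infer_instance
  haveI : IsProper J.subscheme.toSpecΓ := IsProper.of_comp _ (Spec.map g.appTop)
  haveI : IsClosedImmersion J.subscheme.toSpecΓ :=
    IsClosedImmersion.of_isPreimmersion _ J.subscheme.toSpecΓ.isClosedMap.isClosed_range
  haveI : IsAffine J.subscheme :=
    (IsClosedImmersion.isAffine_surjective_of_isAffine J.subscheme.toSpecΓ).1
  haveI : IsAffineHom g := inferInstance
  exact IsFinite.iff_isProper_and_isAffineHom.2 ⟨inferInstance, inferInstance⟩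

/-- the points of a closed subset disjoint from an ample effective Cartier divisor are closed in
their fibres -/
theorem isClosed_asFiber (I : X.IdealSheafData) {L : X.Modules}
    (hL : ClSub.IsInverseOf L (ClSub.idealMod I)) (hamp : CohB1.IsAmple L)
    (Z : Set X) (hZ : IsClosed Z) (hZY : Disjoint Z (I.support : Set X)) (z : X) (hz : z ∈ Z) :
    IsClosed ({(X ↘ Spec (CommRingCat.of A)).asFiber z} :
      Set ↥((X ↘ Spec (CommRingCat.of A)).fiber ((X ↘ Spec (CommRingCat.of A)).base z))) := by
  set f := X ↘ Spec (CommRingCat.of A) with hf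
  let J : X.IdealSheafData := Scheme.IdealSheafData.vanishingIdeal ⟨Z, hZ⟩
  have hJsupp : (J.support : Set X) = Z :=
    Scheme.IdealSheafData.coe_support_vanishingIdeal (X := X) ⟨Z, hZ⟩
  haveI hfin : IsFinite (J.subschemeι ≫ f) :=
    isFinite_of_disjoint A I hL hamp J (by rw [hJsupp]; exact hZY)
  set g := J.subschemeι ≫ f with hg
  have hdisc := g.isDiscrete_preimage_singleton (f z)
  -- the point of the closed subscheme over `z`
  obtain ⟨z', hz'⟩ : ∃ z' : J.subscheme, J.subschemeι z' = z := by
    have : z ∈ Set.range J.subschemeι := by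
      rw [Scheme.IdealSheafData.range_subschemeι, hJsupp]; exact hz
    exact this
  have hz'g : z' ∈ g ⁻¹' {f z} := by
    change g z' = f z
    rw [hg, Scheme.Hom.comp_apply, hz']
  obtain ⟨C', hC'cl, hC'⟩ := isDiscrete_iff_forall_mem_exists_isClosed.1 hdisc {z'}
    (Set.singleton_subset_iff.2 hz'g)
  -- its image in `X`
  have hCcl : IsClosed (J.subschemeι '' C') :=
    J.subschemeι.isClosedEmbedding.isClosedMap _ hC'cl
  have hpre : ({f.asFiber z} : Set ↥(f.fiber (f.base z))) =
      (f.fiberι (f.base z)) ⁻¹' (J.subschemeι '' C') := by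
    ext b
    simp only [Set.mem_singleton_iff, Set.mem_preimage, Set.mem_image]
    constructor
    · rintro rfl
      refine ⟨z', ?_, ?_⟩
      · have : z' ∈ C' ∩ g ⁻¹' {f z} := by rw [hC']; rfl
        exact this.1
      · rw [hz', Scheme.Hom.fiberι_asFiber]
    · rintro ⟨c, hc, hcb⟩
      have hb : f.fiberι (f.base z) b ∈ f ⁻¹' {f.base z} := by
        rw [← Scheme.Hom.range_fiberι]; exact ⟨b, rfl⟩
      have hcg : c ∈ C' ∩ g ⁻¹' {f z} := by
        refine ⟨hc, ?_⟩
        change g c = f z
        rw [hg, Scheme.Hom.comp_apply, hcb]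
        exact hb
      rw [hC'] at hcg
      have hcz : c = z' := hcg
      apply (f.fiberι (f.base z)).isEmbedding.injective
      rw [Scheme.Hom.fiberι_asFiber, ← hcb, hcz, hz']
  rw [hpre]
  exact hCcl.preimage (f.fiberι (f.base z)).continuous

end Finite

end Groth.Agent.Helper2.AmpleDisj
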