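import Mathlib
import Groth.Prelude
import Groth.Agent.Lib.Helper2.Dual.YonedaDual
import Groth.Agent.Lib.Helper4.SecEquiv
import Groth.Agent.S0491
import Groth.Agent.S0485

/-!
# `Ext^j_{O_X}(O_X, B) ≅ H^j(X, B)`, canonically and `k`-linearly (helper2)

The map sends an `Ext` class `e` to `u · e`, where `u ∈ H^0(X, O_X)` is the class of the unit section.
-/

set_option autoImplicit false
set_option backward.isDefEq.respectTransparency.types false
set_option synthInstance.maxHeartbeats 400000
set_option maxHeartbeats 4000000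
set_option linter.style.haveILetI false
set_option linter.unusedSectionVars false

universe u

namespace Groth.Agent.Helper2.ExtUnitH

open CategoryTheory CategoryTheory.Limits AlgebraicGeometry CategoryTheory.Abelian Opposite
open Groth.Agent.Helper1 Groth.Agent.Lib.Helper4
open Groth.Agent.Helper2.YonedaDual

variable (k : Type u) [Field k] {X : Scheme.{u}} [X.Over (Spec (CommRingCat.of k))]
variable [HasExt.{u} X.Modules]

/-- `⊤` is terminal among the opens -/
def hT (X : Scheme.{u}) : IsTerminal (⊤ : X.Opens) := isTerminalTop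

/-- the class of the unit section in `H^0(X, O_X)` -/
noncomputable def uu (X : Scheme.{u}) : Coh.HH X (Coh.structureModule X) 0 :=
  (Sheaf.H.equiv₀ (Coh.toAb (Coh.structureModule X)) (hT X)).symm
    (1 : X.ringCatSheaf.obj.obj (op ⊤))

/-- the comparison map `Ext^j(O_X, B) → H^j(X, B)` -/
noncomputable def Psi0 (B : X.Modules) (j : ℕ) :
    Ext (Coh.structureModule X) B j →ₗ[k] Coh.HH X B j where
  toFun e := pair k e 0 j (zero_add j) (uu X)
  map_add' e e' := by
    change (show Ext _ _ 0 from uu X).comp (toAbExt (e + e')) (zero_add j) =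
      (show Ext _ _ 0 from uu X).comp (toAbExt e) (zero_add j) +
        (show Ext _ _ 0 from uu X).comp (toAbExt e') (zero_add j)
    rw [toAbExt_add, Ext.comp_add]
  map_smul' a e := by
    have h : a • e = e.comp (Ext.mk₀ (Formal.smulMod k B a)) (add_zero j) := by
      rw [← KLin.smul_id, Ext.mk₀_smul, Ext.comp_smul, Ext.comp_mk₀_id]
    rw [h]
    change (show Ext _ _ 0 from uu X).comp
        (toAbExt (e.comp (Ext.mk₀ (Formal.smulMod k B a)) (add_zero j))) (zero_add j) =
      Canon.HHlin k (Formal.smulMod k B a) j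
        ((show Ext _ _ 0 from uu X).comp (toAbExt e) (zero_add j))
    change _ = ((show Ext _ _ 0 from uu X).comp (toAbExt e) (zero_add j)).comp
      (Ext.mk₀ ((SheafOfModules.toSheaf.{u} X.ringCatSheaf).map (Formal.smulMod k B a)))
      (add_zero j)
    rw [toAbExt_comp, toAbExt_mk₀, Ext.comp_assoc _ _ _ (zero_add j) (add_zero j) (by omega)]

theorem Psi0_apply (B : X.Modules) (j : ℕ) (e : Ext (Coh.structureModule X) B j) :
    Psi0 k B j e = (show Ext _ _ 0 from uu X).comp (toAbExt e) (zero_add j) := rfl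

theorem Psi0_mk₀ (B : X.Modules) (φ : Coh.structureModule X ⟶ B) :
    Psi0 k B 0 (Ext.mk₀ φ) = (Sheaf.H.equiv₀ (Coh.toAb B) (hT X)).symm
      (((SheafOfModules.toSheaf.{u} X.ringCatSheaf).map φ).hom.app (op ⊤)
        (1 : X.ringCatSheaf.obj.obj (op ⊤))) := by
  rw [Psi0_apply, toAbExt_mk₀]
  exact Sheaf.H.equiv₀_symm_naturality (hT X)
    ((SheafOfModules.toSheaf.{u} X.ringCatSheaf).map φ) _

/-- naturality in `B` -/
theorem Psi0_naturality {B B' : X.Modules} (g : B ⟶ B') (j : ℕ)
    (e : Ext (Coh.structureModule X) B j) :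
    Psi0 k B' j (e.comp (Ext.mk₀ g) (add_zero j)) = Canon.HHlin k g j (Psi0 k B j e) := by
  rw [Psi0_apply, Psi0_apply, toAbExt_comp, toAbExt_mk₀,
    ← Ext.comp_assoc _ _ _ (zero_add j) (add_zero j) (by omega)]
  rfl

/-- compatibility with connecting homomorphisms -/
theorem Psi0_extClass {S : ShortComplex X.Modules} (hS : S.ShortExact) (j : ℕ)
    (e : Ext (Coh.structureModule X) S.X₃ j) :
    Psi0 k S.X₁ (j + 1) (e.comp hS.extClass rfl) =
      (show Ext _ (Coh.toAb S.X₃) j from Psi0 k S.X₃ j e).comp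
        (HHFin2.Sab_shortExact hS).extClass rfl := by
  rw [Psi0_apply, Psi0_apply, toAbExt_comp, toAbExt_extClass,
    ← Ext.comp_assoc _ _ _ (zero_add j) rfl (by omega)]

theorem subsingleton_HH_injective (I : X.Modules) [Injective I] (j : ℕ) :
    Subsingleton (Coh.HH X I (j + 1)) := by
  haveI : HasExt.{u} (SheafOfModules.{u} X.ringCatSheaf) := ‹HasExt.{u} X.Modules›
  obtain ⟨e⟩ := Groth.Agent.S0491.result (Opens.grothendieckTopology X) X.ringCatSheaf I (j + 1)
  haveI hI : Injective (C := SheafOfModules.{u} X.ringCatSheaf) I := ‹Injective I›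
  haveI : Subsingleton (Ext (SheafOfModules.unit X.ringCatSheaf) I (j + 1)) :=
    subsingleton_of_forall_eq 0 fun x => Ext.eq_zero_of_injective x
  exact e.symm.toEquiv.subsingleton

theorem Psi0_bijective_zero (B : X.Modules) : Function.Bijective (Psi0 k B 0) := by
  constructor
  · intro e e' h
    obtain ⟨φ, rfl⟩ := (Ext.mk₀_bijective _ _).2 e
    obtain ⟨φ', rfl⟩ := (Ext.mk₀_bijective _ _).2 e'
    rw [Psi0_mk₀, Psi0_mk₀] at h
    have h' := (Sheaf.H.equiv₀ (Coh.toAb B) (hT X)).symm.injective h
    congr 1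
    exact SecEquiv.unit_hom_ext_global (hT X) φ φ' h'
  · intro y
    refine ⟨Ext.mk₀ (SecEquiv.unitLift (hT X) B (Sheaf.H.equiv₀ (Coh.toAb B) (hT X) y)), ?_⟩
    rw [Psi0_mk₀]
    apply (Sheaf.H.equiv₀ (Coh.toAb B) (hT X)).injective
    rw [AddEquiv.apply_symm_apply]
    exact SecEquiv.unitLift_one (hT X) B _

/-- **`Ext^j(O_X, B) ≅ H^j(X, B)`.** -/
theorem Psi0_bijective : ∀ (j : ℕ) (B : X.Modules), Function.Bijective (Psi0 k B j) := by
  intro j
  induction j with
  | zero => exact fun B => Psi0_bijective_zero k B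
  | succ j ih =>
    intro B
    haveI : EnoughInjectives X.Modules := Groth.Agent.S0485.result _ X.ringCatSheaf
    let I : X.Modules := Injective.under B
    let f : B ⟶ I := Injective.ι B
    haveI : Mono f := Injective.ι_mono B
    let S : ShortComplex X.Modules := ShortComplex.mk f (cokernel.π f) (cokernel.condition f)
    have hS : S.ShortExact :=
      { exact := ShortComplex.exact_of_g_is_cokernel _ (cokernelIsCokernel f)
        mono_f := inferInstanceAs (Mono f)
        epi_g := inferInstanceAs (Epi (cokernel.π f)) }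
    haveI : Injective S.X₂ := inferInstanceAs (Injective (Injective.under B))
    have hS' := HHFin2.Sab_shortExact hS
    haveI hsub : Subsingleton (Coh.HH X S.X₂ (j + 1)) := subsingleton_HH_injective S.X₂ j
    constructor
    · rw [injective_iff_map_eq_zero]
      intro z hz
      obtain ⟨e, he⟩ := Ext.covariant_sequence_exact₁ _ hS z (Ext.eq_zero_of_injective _) rfl
      have h1 : (show Ext _ (Coh.toAb S.X₃) j from Psi0 k S.X₃ j e).comp hS'.extClass rfl = 0 := by
        rw [← Psi0_extClass k hS j e, he]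
        exact hz
      obtain ⟨x', hx'⟩ := Ext.covariant_sequence_exact₃.{u, u, u+1} _ hS' _ rfl h1
      obtain ⟨e', he'⟩ := (ih S.X₂).2 x'
      have h2 : Psi0 k S.X₃ j (e'.comp (Ext.mk₀ S.g) (add_zero j)) = Psi0 k S.X₃ j e := by
        rw [Psi0_naturality, he']
        exact hx'
      have h3 := (ih S.X₃).1 h2
      rw [← he, ← h3, Ext.comp_assoc _ _ _ (add_zero j) (zero_add 1) (by omega),
        hS.comp_extClass, Ext.comp_zero]
    · intro y
      have hy : (show Ext _ (Coh.toAb S.X₁) (j + 1) from y).comp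
          (Ext.mk₀ ((SheafOfModules.toSheaf.{u} X.ringCatSheaf).map S.f)) (add_zero (j + 1)) = 0 :=
        hsub.elim (α := Coh.HH X S.X₂ (j + 1)) _ _
      obtain ⟨x, hx⟩ := Ext.covariant_sequence_exact₁.{u, u, u+1} _ hS' _ hy rfl
      obtain ⟨e, he⟩ := (ih S.X₃).2 x
      refine ⟨e.comp hS.extClass rfl, ?_⟩
      refine (Psi0_extClass k hS j e).trans ?_
      rw [he]
      exact hx

/-- the comparison isomorphism -/
noncomputable def extUnitEquiv (B : X.Modules) (j : ℕ) :
    Ext (Coh.structureModule X) B j ≃ₗ[k] Coh.HH X B j :=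
  LinearEquiv.ofBijective (Psi0 k B j) (Psi0_bijective k j B)

end Groth.Agent.Helper2.ExtUnitH
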