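import Mathlib
import Groth.Prelude

/-!
# The tensor product functors are linear over global functions (helper2)
-/

set_option autoImplicit false
set_option backward.isDefEq.respectTransparency.types false
set_option synthInstance.maxHeartbeats 400000
set_option maxHeartbeats 4000000
set_option linter.style.haveILetI false
set_option linter.unusedSectionVars false

universe u

namespace Groth.Agent.Helper2.TensorLinear

open CategoryTheory CategoryTheory.Limits AlgebraicGeometry MonoidalCategory Opposite

variable {X : Scheme.{u}}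

/-- the sheafification adjunction -/
noncomputable abbrev adjSh (X : Scheme.{u}) :=
  PresheafOfModules.sheafificationAdjunction.{u, u, u, u} (R := X.ringCatSheaf)
    (𝟙 X.ringCatSheaf.obj)

theorem tensor_map_smulModΓ (F N : X.Modules) (r : Coh.Γtop X) :
    ((DCoh.tensorBi (X := X)).obj F).map (Formal.smulModΓ N r) =
      Formal.smulModΓ (((DCoh.tensorBi (X := X)).obj F).obj N) r := by
  change DCoh.shP.map (DCoh.toP.obj F ◁ DCoh.toP.map (Formal.smulModΓ N r)) =
    Formal.smulModΓ (DCoh.shP.obj (DCoh.toP.obj F ⊗ DCoh.toP.obj N)) r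
  apply ((adjSh X).homEquiv _ _).injective
  rw [Adjunction.homEquiv_unit, Adjunction.homEquiv_unit]
  refine ((adjSh X).unit_naturality
    (DCoh.toP.obj F ◁ DCoh.toP.map (Formal.smulModΓ N r))).trans ?_
  apply PresheafOfModules.hom_ext
  intro U
  apply ModuleCat.MonoidalCategory.tensor_ext
  intro m n
  let Q : CohB1.PMod X := DCoh.toP.obj F ⊗ DCoh.toP.obj N
  let η := ((adjSh X).unit.app Q).app U
  let c : ((X.sheaf.obj ⋙ forget₂ CommRingCat RingCat).obj U) := Coh.resTop X U r
  have h1 : m ⊗ₜ[((X.sheaf.obj ⋙ forget₂ CommRingCat RingCat).obj U)] (c • n) =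
      c • (m ⊗ₜ[((X.sheaf.obj ⋙ forget₂ CommRingCat RingCat).obj U)] n) :=
    TensorProduct.tmul_smul c m n
  change η.hom (m ⊗ₜ (c • n)) = _
  rw [h1]
  exact η.hom.map_smul c (m ⊗ₜ n)

end Groth.Agent.Helper2.TensorLinear
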