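import Mathlib
import Groth.Prelude
import Groth.Agent.Lib.Helper2.Dual.ExtUnitH
import Groth.Agent.Lib.Helper2.Dual.TensorLinear
import Groth.Agent.Lib.Helper2.HomExt.ExtLocFree
import Groth.Agent.Lib.Helper5.Misc.ExtAdjAcyc
import Groth.Agent.Lib.Helper5.LTen.Flf

/-!
# `Ext^j(F, B) ≃ₗ[k] H^j(X, 𝓗om(F, B))` for `F` finite locally free, `k`-linearly (helper2)
-/

set_option autoImplicit false
set_option backward.isDefEq.respectTransparency.types false
set_option synthInstance.maxHeartbeats 400000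
set_option maxHeartbeats 4000000
set_option linter.style.haveILetI false
set_option linter.unusedSectionVars false

universe u

namespace Groth.Agent.Helper2.ExtLocFreeLin

open CategoryTheory CategoryTheory.Limits AlgebraicGeometry CategoryTheory.Abelian Opposite
open Groth.Agent.Helper2.YonedaDual Groth.Agent.Helper2.ExtUnitH Groth.Agent.Helper2.HomExt
open Groth.Agent.Lib.Helper5

variable (k : Type u) [Field k] {X : Scheme.{u}} [X.Over (Spec (CommRingCat.of k))]

/-- the internal Hom functors are linear over global functions -/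
theorem sheafHom_map_smulModΓ (F B : X.Modules) [DCoh.HasSheafHom F] (r : Coh.Γtop X) :
    (DCoh.sheafHom F).map (Formal.smulModΓ B r) =
      Formal.smulModΓ ((DCoh.sheafHom F).obj B) r := by
  apply ((DCoh.sheafHomAdj F).homEquiv _ _).symm.injective
  rw [Adjunction.homEquiv_counit, Adjunction.homEquiv_counit, TensorLinear.tensor_map_smulModΓ,
    (DCoh.sheafHomAdj F).counit_naturality, KLin.comp_smulModΓ]

variable [HasExt.{u} X.Modules]

section

variable (F : X.Modules) (hF : FlatMod.IsFinLocFree F) [DCoh.HasSheafHom F]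

include hF in
/-- the adjunction map `Ext^j(O, 𝓗om(F, B)) → Ext^j(F, B)` -/
theorem exists_adjMap (B : X.Modules) (j : ℕ) :
    ∃ Θ : Ext (Coh.structureModule X) ((DCoh.sheafHom F).obj B) j →ₗ[k] Ext F B j,
      Function.Bijective Θ := by
  haveI : EnoughInjectives X.Modules := Groth.Agent.S0485.result _ X.ringCatSheaf
  haveI := preservesFiniteLimits_tensor hF
  haveI : PreservesFiniteColimits ((DCoh.tensorBi (X := X)).obj F) :=
    haveI := (DCoh.sheafHomAdj F).leftAdjoint_preservesColimits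
    inferInstance
  haveI := preservesInjectiveObjects_sheafHom hF
  haveI := preservesEpimorphisms_sheafHom hF
  letI : HasDerivedCategory.{u + 1} X.Modules := HasDerivedCategory.standard _
  have hacyc : ∀ i : ℕ, 0 < i → IsZero (((DCoh.sheafHom F).rightDerived i).obj B) := by
    intro i hi
    obtain ⟨j, rfl⟩ : ∃ j, i = j + 1 := ⟨i - 1, by omega⟩
    exact Groth.Agent.Helper1.Uni.rightDerived_isZero_of_exact (DCoh.sheafHom F) j B
  let adj := DCoh.sheafHomAdj F
  let ρ := Groth.Agent.Lib.Helper5.LTenFlf.tensorUnitIso F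
  have hΦ := ExtAdjAcyc.Φ_bijective adj (Coh.structureModule X) B hacyc j
  let Θ₀ : Ext (Coh.structureModule X) ((DCoh.sheafHom F).obj B) j →+ Ext F B j :=
    ((Ext.mk₀ ρ.inv).precomp B (zero_add j)).comp (ExtAdjAcyc.Φ adj (Coh.structureModule X) B j)
  have hΘ₀ : ∀ e, Θ₀ e = (Ext.mk₀ ρ.inv).comp (ExtAdjAcyc.Φ adj (Coh.structureModule X) B j e)
      (zero_add j) := fun e => rfl
  refine ⟨{ toFun := Θ₀, map_add' := Θ₀.map_add, map_smul' := ?_ }, ?_⟩
  · intro a e
    have h : a • e = e.comp (Ext.mk₀ ((DCoh.sheafHom F).map (Formal.smulMod k B a)))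
        (add_zero j) := by
      rw [Formal.smulMod, sheafHom_map_smulModΓ, ← Formal.smulMod, ← KLin.smul_id, Ext.mk₀_smul,
        Ext.comp_smul, Ext.comp_mk₀_id]
    change Θ₀ (a • e) = a • Θ₀ e
    rw [h, hΘ₀, hΘ₀, ExtAdjAcyc.Φ_comp_mk₀,
      ← Ext.comp_assoc _ _ _ (zero_add j) (add_zero j) (by omega), ← KLin.smul_id, Ext.mk₀_smul,
      Ext.comp_smul, Ext.comp_mk₀_id]
  · have hP : Function.Bijective ((Ext.mk₀ ρ.inv).precomp B (zero_add j)) := by
      have key1 : ∀ x : Ext ((DCoh.tensorBi.obj F).obj (Coh.structureModule X)) B j,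
          (Ext.mk₀ ρ.hom).comp ((Ext.mk₀ ρ.inv).comp x (zero_add j)) (zero_add j) = x := by
        intro x
        rw [← Ext.comp_assoc (Ext.mk₀ ρ.hom) (Ext.mk₀ ρ.inv) x (zero_add 0) (zero_add j)
          (by omega), Ext.mk₀_comp_mk₀, Iso.hom_inv_id, Ext.mk₀_id_comp]
      have key2 : ∀ y : Ext F B j,
          (Ext.mk₀ ρ.inv).comp ((Ext.mk₀ ρ.hom).comp y (zero_add j)) (zero_add j) = y := by
        intro y
        rw [← Ext.comp_assoc (Ext.mk₀ ρ.inv) (Ext.mk₀ ρ.hom) y (zero_add 0) (zero_add j)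
          (by omega), Ext.mk₀_comp_mk₀, Iso.inv_hom_id, Ext.mk₀_id_comp]
      constructor
      · intro x y hxy
        have h2 : (Ext.mk₀ ρ.inv).comp x (zero_add j) = (Ext.mk₀ ρ.inv).comp y (zero_add j) := hxy
        rw [← key1 x, ← key1 y, h2]
      · intro y
        exact ⟨(Ext.mk₀ ρ.hom).comp y (zero_add j), key2 y⟩
    change Function.Bijective (⇑((Ext.mk₀ ρ.inv).precomp B (zero_add j)) ∘
      ⇑(ExtAdjAcyc.Φ adj (Coh.structureModule X) B j))
    exact hP.comp hΦ

include hF in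
/-- **`Ext^j(F, B) ≃ₗ[k] H^j(X, 𝓗om(F, B))`** -/
theorem nonempty_ext_linearEquiv_HH (B : X.Modules) (j : ℕ) :
    Nonempty (Ext F B j ≃ₗ[k] Coh.HH X ((DCoh.sheafHom F).obj B) j) := by
  obtain ⟨Θ, hΘ⟩ := exists_adjMap k F hF B j
  exact ⟨(LinearEquiv.ofBijective Θ hΘ).symm.trans
    (extUnitEquiv k ((DCoh.sheafHom F).obj B) j)⟩

end

end Groth.Agent.Helper2.ExtLocFreeLin
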