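import Mathlib
import Groth.Prelude
import Groth.Agent.Lib.Helper1.PFrame2
import Groth.Agent.Lib.Helper1.NegVan1
import Groth.Agent.Lib.Helper1.InvInv2
import Groth.Agent.Lib.Helper1.AmpleQA
import Groth.Agent.Lib.Helper9.FE.ClopenIdem

/-!
# The Lefschetz condition and connectedness (helper2)

* `homOf J s`: the morphism `O_U ⟶ O_U/J` attached to a global function on `V(J)`;
* `connectedSpace_iff_of_homToFormalBijective`: if `Hom(O_U, O_U) → lim Hom(O_U, O_U/J^{n+1})` is
  bijective then `U` is connected iff `V(J)` is;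
* `connected_nhd_iff_of_lefCond`: the main theorem.
-/

set_option autoImplicit false
set_option backward.isDefEq.respectTransparency.types false
set_option synthInstance.maxHeartbeats 400000
set_option maxHeartbeats 4000000
set_option linter.style.haveILetI false
set_option linter.unusedSectionVars false

universe u

namespace Groth.Agent.Helper2.LefConn

open CategoryTheory CategoryTheory.Limits AlgebraicGeometry TopologicalSpace Opposite
open Groth.Agent.Helper1 Groth.Agent.Helper1.QcCech

section Idem

variable {Z : Scheme.{u}}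

theorem idem_eq_zero_of_basicOpen_eq_bot (e : Γ(Z, ⊤)) (he : IsIdempotentElem e)
    (h : Z.basicOpen e = ⊥) : e = 0 := by
  have h1 := H9FE.basicOpen_sup_one_sub e
  rw [h, bot_sup_eq] at h1
  have h2 := H9FE.eq_one_of_idem_of_basicOpen_eq_top (1 - e) he.one_sub h1
  have : e = 1 - (1 - e) := by ring
  rw [this, h2, sub_self]

theorem idem_eq_of_basicOpen_eq (e e' : Γ(Z, ⊤)) (he : IsIdempotentElem e)
    (he' : IsIdempotentElem e') (h : Z.basicOpen e = Z.basicOpen e') : e = e' := by
  have key : ∀ a b : Γ(Z, ⊤), IsIdempotentElem a → IsIdempotentElem b →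
      Z.basicOpen a = Z.basicOpen b → a * (1 - b) = 0 := by
    intro a b ha hb hab
    apply idem_eq_zero_of_basicOpen_eq_bot _ (ha.mul hb.one_sub)
    rw [Scheme.basicOpen_mul, hab]
    exact H9FE.basicOpen_inf_one_sub b hb
  have h1 := key e e' he he' h
  have h2 := key e' e he' he h.symm
  rw [mul_sub, mul_one, sub_eq_zero] at h1 h2
  calc e = e * e' := h1
    _ = e' * e := mul_comm _ _
    _ = e' := h2.symm

end Idem

variable {U : Scheme.{u}}

section Hom

/-- the morphism `O_U ⟶ O_U/J` attached to a global function on `V(J)` -/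
noncomputable def homOf (J : U.IdealSheafData) (s : Γ(J.subscheme, ⊤)) :
    Coh.structureModule U ⟶ ClSub.quotMod J :=
  TwistAmple.homOfSec (ClSub.quotMod J) (show Γ(ClSub.quotMod J, ⊤) from s)

theorem homOf_injective (J : U.IdealSheafData) : Function.Injective (homOf J) := by
  intro s t h
  have h1 := congrArg (fun φ : Coh.structureModule U ⟶ ClSub.quotMod J =>
    φ.app ⊤ (show Γ(Coh.structureModule U, ⊤) from (1 : Γ(U, ⊤)))) h
  simp only [homOf] at h1
  rw [PFrame.homOfSec_app_one, PFrame.homOfSec_app_one] at h1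
  exact h1

theorem eq_homOf (J : U.IdealSheafData) (φ : Coh.structureModule U ⟶ ClSub.quotMod J) :
    ∃ s : Γ(J.subscheme, ⊤), φ = homOf J s :=
  ⟨φ.app ⊤ (show Γ(Coh.structureModule U, ⊤) from (1 : Γ(U, ⊤))), PFrame.eq_homOfSec φ⟩

/-- multiplication by a global function -/
noncomputable def mulHom (a : Γ(U, ⊤)) : Coh.structureModule U ⟶ Coh.structureModule U :=
  TwistAmple.homOfSec (Coh.structureModule U) (show Γ(Coh.structureModule U, ⊤) from a)

theorem mulHom_injective : Function.Injective (mulHom (U := U)) := by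
  intro s t h
  have h1 := congrArg (fun φ : Coh.structureModule U ⟶ Coh.structureModule U =>
    φ.app ⊤ (show Γ(Coh.structureModule U, ⊤) from (1 : Γ(U, ⊤)))) h
  simp only [mulHom] at h1
  rw [PFrame.homOfSec_app_one, PFrame.homOfSec_app_one] at h1
  exact h1

theorem eq_mulHom (φ : Coh.structureModule U ⟶ Coh.structureModule U) :
    ∃ a : Γ(U, ⊤), φ = mulHom a :=
  ⟨φ.app ⊤ (show Γ(Coh.structureModule U, ⊤) from (1 : Γ(U, ⊤))), PFrame.eq_homOfSec φ⟩

theorem mulHom_comp_toSubscheme (J : U.IdealSheafData) (a : Γ(U, ⊤)) :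
    mulHom a ≫ ClSub.toSubscheme J = homOf J (J.subschemeι.appTop.hom a) := by
  unfold mulHom homOf
  rw [NegVan.homOfSec_comp]
  rfl

theorem quotMap_app_top {I J : U.IdealSheafData} (h : I ≤ J) (s : Γ(I.subscheme, ⊤)) :
    (Lef.quotMap h).app ⊤ (show Γ(ClSub.quotMod I, ⊤) from s) =
      (show Γ(ClSub.quotMod J, ⊤) from (Scheme.IdealSheafData.inclusion h).appTop.hom s) := by
  have e : (J.subschemeι ⁻¹ᵁ ⊤ : J.subscheme.Opens) =
      (Scheme.IdealSheafData.inclusion h) ⁻¹ᵁ (I.subschemeι ⁻¹ᵁ ⊤) := rfl
  have h1 : (Lef.quotMap h).app ⊤ (show Γ(ClSub.quotMod I, ⊤) from s) =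
      (show Γ(ClSub.quotMod J, ⊤) from
        (J.subscheme.presheaf.map (eqToHom e).op).hom
          (((Scheme.IdealSheafData.inclusion h).app (I.subschemeι ⁻¹ᵁ ⊤)).hom s)) := by
    unfold Lef.quotMap
    rfl
  rw [h1]
  have h2 : ∀ x : Γ(J.subscheme, (Scheme.IdealSheafData.inclusion h) ⁻¹ᵁ (I.subschemeι ⁻¹ᵁ ⊤)),
      (J.subscheme.presheaf.map (eqToHom e).op).hom x = x := by
    intro x
    change (J.subscheme.presheaf.map (𝟙 _)).hom x = x
    rw [CategoryTheory.Functor.map_id]
    rfl
  exact h2 _

theorem homOf_comp_quotMap {I J : U.IdealSheafData} (h : I ≤ J) (s : Γ(I.subscheme, ⊤)) :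
    homOf I s ≫ Lef.quotMap h = homOf J ((Scheme.IdealSheafData.inclusion h).appTop.hom s) := by
  unfold homOf
  rw [NegVan.homOfSec_comp, quotMap_app_top]

/-- compatibility of the morphisms attached to the idempotents of a closed subset -/
theorem homOf_comp_quotMap_of_idem {I J : U.IdealSheafData} (h : I ≤ J) (T : Set U)
    (e : Γ(I.subscheme, ⊤)) (e' : Γ(J.subscheme, ⊤)) (he : IsIdempotentElem e)
    (he' : IsIdempotentElem e')
    (hD : ((I.subscheme.basicOpen e : I.subscheme.Opens) : Set I.subscheme) = I.subschemeι ⁻¹' T)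
    (hD' : ((J.subscheme.basicOpen e' : J.subscheme.Opens) : Set J.subscheme) =
      J.subschemeι ⁻¹' T) :
    homOf I e ≫ Lef.quotMap h = homOf J e' := by
  rw [homOf_comp_quotMap]
  congr 1
  apply idem_eq_of_basicOpen_eq _ _ (he.map _) he'
  have h1 : (Scheme.IdealSheafData.inclusion h) ⁻¹ᵁ I.subscheme.basicOpen e =
      J.subscheme.basicOpen ((Scheme.IdealSheafData.inclusion h).appTop.hom e) :=
    Scheme.preimage_basicOpen_top _ _
  rw [← h1]
  apply Opens.ext
  rw [hD']
  change (Scheme.IdealSheafData.inclusion h) ⁻¹'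
    ((I.subscheme.basicOpen e : I.subscheme.Opens) : Set I.subscheme) = _
  rw [hD, ← Set.preimage_comp]
  have h2 : ⇑I.subschemeι ∘ ⇑(Scheme.IdealSheafData.inclusion h) = ⇑J.subschemeι := by
    funext z
    have := Scheme.IdealSheafData.inclusion_subschemeι h
    exact congrArg (fun f : J.subscheme ⟶ U => f z) this
  rw [h2]

end Hom

section Core

variable (J : U.IdealSheafData)

theorem range_pow_subschemeι (n : ℕ) :
    Set.range (J ^ (n + 1)).subschemeι = (J.support : Set U) := by
  rw [Scheme.IdealSheafData.range_subschemeι, Scheme.IdealSheafData.support_pow_succ]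

/-- an idempotent function whose basic open contains `V(J)` is `1`, under the injectivity half of
the Lefschetz condition for `O_U` -/
theorem eq_one_of_support_subset
    (hinj : ∀ φ ψ : Coh.structureModule U ⟶ Coh.structureModule U,
      (∀ n : ℕ, φ ≫ ClSub.toSubscheme (J ^ (n + 1)) = ψ ≫ ClSub.toSubscheme (J ^ (n + 1))) → φ = ψ)
    (e : Γ(U, ⊤)) (he : IsIdempotentElem e)
    (hS : (J.support : Set U) ⊆ ((U.basicOpen e : U.Opens) : Set U)) : e = 1 := by
  apply mulHom_injective
  apply hinj
  intro n
  rw [mulHom_comp_toSubscheme, mulHom_comp_toSubscheme, map_one]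
  congr 1
  apply H9FE.eq_one_of_idem_of_basicOpen_eq_top _ (he.map _)
  have h1 : (J ^ (n + 1)).subschemeι ⁻¹ᵁ U.basicOpen e =
      (J ^ (n + 1)).subscheme.basicOpen ((J ^ (n + 1)).subschemeι.appTop.hom e) :=
    Scheme.preimage_basicOpen_top _ e
  rw [← h1]
  ext z
  simp only [Opens.coe_top, Set.mem_univ, iff_true]
  apply hS
  rw [← range_pow_subschemeι J n]
  exact ⟨z, rfl⟩

theorem connectedSpace_of_isConnected_support
    (hbij : Lef.HomToFormalBijective J (Coh.structureModule U))
    (hS : _root_.IsConnected (J.support : Set U)) : ConnectedSpace U := by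
  rw [connectedSpace_iff_clopen]
  obtain ⟨x, hx⟩ := hS.nonempty
  refine ⟨⟨x⟩, fun T hT => ?_⟩
  obtain ⟨e, he, heT⟩ := H9FE.exists_idem_of_isClopen T hT
  by_cases hne : ((J.support : Set U) ∩ T).Nonempty
  · right
    have hsub : (J.support : Set U) ⊆ T := hS.isPreconnected.subset_isClopen hT hne
    have h1 := eq_one_of_support_subset J hbij.1 e he (by rw [heT]; exact hsub)
    rw [← heT, h1, Scheme.basicOpen_one]
    rfl
  · left
    have hsub : (J.support : Set U) ⊆ Tᶜ := by
      intro y hy hyT
      exact hne ⟨y, hy, hyT⟩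
    have hc : ((U.basicOpen (1 - e) : U.Opens) : Set U) = Tᶜ := by
      have h1 := congrArg (fun V : U.Opens => (V : Set U)) (H9FE.basicOpen_sup_one_sub e)
      have h2 := congrArg (fun V : U.Opens => (V : Set U)) (H9FE.basicOpen_inf_one_sub e he)
      simp only [Opens.coe_sup, Opens.coe_inf, Opens.coe_top, Opens.coe_bot] at h1 h2
      rw [heT] at h1 h2
      ext y
      constructor
      · intro hy hyT
        have : y ∈ T ∩ ((U.basicOpen (1 - e) : U.Opens) : Set U) := ⟨hyT, hy⟩
        rw [h2] at this
        exact this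
      · intro hy
        have : y ∈ T ∪ ((U.basicOpen (1 - e) : U.Opens) : Set U) := by rw [h1]; trivial
        rcases this with h | h
        · exact absurd h hy
        · exact h
    have h1 := eq_one_of_support_subset J hbij.1 (1 - e) he.one_sub (by rw [hc]; exact hsub)
    have h2 : e = 0 := by
      have : e = 1 - (1 - e) := by ring
      rw [this, h1, sub_self]
    rw [← heT, h2, Scheme.basicOpen_zero]
    rfl

theorem isConnected_support_of_connectedSpace
    (hbij : Lef.HomToFormalBijective J (Coh.structureModule U))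
    [ConnectedSpace U] : _root_.IsConnected (J.support : Set U) := by
  -- it suffices to show that `V(J)` is a connected space
  suffices hZ : ConnectedSpace ↥(J ^ (0 + 1)).subscheme by
    rw [← range_pow_subschemeι J 0]
    exact isConnected_range (J ^ (0 + 1)).subschemeι.continuous
  rw [connectedSpace_iff_clopen]
  constructor
  · -- nonemptiness
    by_contra hne
    haveI hemp : IsEmpty ↥(J ^ (0 + 1)).subscheme := not_nonempty_iff.1 hne
    have hSemp : (J.support : Set U) = ∅ := by
      rw [← range_pow_subschemeι J 0]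
      exact Set.range_eq_empty _
    have hall : ∀ n : ℕ, IsEmpty ↥(J ^ (n + 1)).subscheme := by
      intro n
      rw [← Set.range_eq_empty_iff, range_pow_subschemeι, hSemp]
    have h01 : mulHom (1 : Γ(U, ⊤)) = mulHom 0 := by
      apply hbij.1
      intro n
      rw [mulHom_comp_toSubscheme, mulHom_comp_toSubscheme]
      congr 1
      haveI := hall n
      haveI : Subsingleton Γ((J ^ (n + 1)).subscheme, ⊤) := by
        have : (⊤ : (J ^ (n + 1)).subscheme.Opens) = ⊥ := by
          ext z
          exact isEmptyElim z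
        rw [this]
        infer_instance
      exact Subsingleton.elim _ _
    obtain ⟨x⟩ : Nonempty U := inferInstance
    haveI : Nonempty ↥(⊤ : U.Opens) := ⟨⟨x, trivial⟩⟩
    haveI : Nontrivial Γ(U, ⊤) := inferInstance
    exact one_ne_zero (mulHom_injective h01)
  · intro T' hT'
    -- the closed subset of `U`
    set ι₀ := (J ^ (0 + 1)).subschemeι with hι₀
    have hemb : Topology.IsClosedEmbedding ι₀ := ι₀.isClosedEmbedding
    set T : Set U := ι₀ '' T' with hTdef
    have hTcl : IsClosed T := hemb.isClosedMap _ hT'.1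
    have hTc : IsClosed ((J.support : Set U) \ T) := by
      have : (J.support : Set U) \ T = ι₀ '' T'ᶜ := by
        rw [← range_pow_subschemeι J 0, hTdef, Set.image_compl_eq_range_sdiff_image hemb.injective]
      rw [this]
      exact hemb.isClosedMap _ hT'.2.isClosed_compl
    -- clopen subsets of the thickenings
    have hclopen : ∀ n : ℕ, IsClopen ((J ^ (n + 1)).subschemeι ⁻¹' T) := by
      intro n
      refine ⟨hTcl.preimage (J ^ (n + 1)).subschemeι.continuous, ?_⟩
      have : ((J ^ (n + 1)).subschemeι ⁻¹' T)ᶜ =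
          (J ^ (n + 1)).subschemeι ⁻¹' ((J.support : Set U) \ T) := by
        ext z
        simp only [Set.mem_compl_iff, Set.mem_preimage, Set.mem_sdiff]
        constructor
        · intro hz
          refine ⟨?_, hz⟩
          rw [← range_pow_subschemeι J n]
          exact ⟨z, rfl⟩
        · intro hz
          exact hz.2
      rw [← isClosed_compl_iff, this]
      exact hTc.preimage (J ^ (n + 1)).subschemeι.continuous
    choose e he heT using fun n => H9FE.exists_idem_of_isClopen _ (hclopen n)
    -- the compatible family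
    have hform : Lef.IsFormalHom J (Coh.structureModule U) (fun n => homOf (J ^ (n + 1)) (e n)) := by
      intro n
      exact homOf_comp_quotMap_of_idem (Lef.pow_succ_le J n) T (e (n + 1)) (e n) (he (n + 1)) (he n)
        (heT (n + 1)) (heT n)
    obtain ⟨φ, hφ⟩ := hbij.2 _ hform
    obtain ⟨a, haφ⟩ := eq_mulHom φ
    have hae : ∀ n, (J ^ (n + 1)).subschemeι.appTop.hom a = e n := by
      intro n
      apply homOf_injective
      rw [← mulHom_comp_toSubscheme, ← haφ]
      exact hφ n
    have ha : IsIdempotentElem a := by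
      apply mulHom_injective
      apply hbij.1
      intro n
      rw [mulHom_comp_toSubscheme, mulHom_comp_toSubscheme, map_mul, hae n, (he n).eq]
    have hcl : IsClopen ((U.basicOpen a : U.Opens) : Set U) := H9FE.isClopen_basicOpen_of_idem a ha
    have hT'eq : T' = (((J ^ (0 + 1)).subscheme.basicOpen (e 0) : Opens _) : Set _) := by
      rw [heT 0, hTdef, Set.preimage_image_eq _ hemb.injective]
    rcases isClopen_iff.1 hcl with h | h
    · left
      have h0 : a = 0 := idem_eq_zero_of_basicOpen_eq_bot a ha (by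
        apply Opens.ext
        rw [h]
        rfl)
      rw [hT'eq, ← hae 0, h0, map_zero, Scheme.basicOpen_zero]
      rfl
    · right
      have h1 : a = 1 := H9FE.eq_one_of_idem_of_basicOpen_eq_top a ha (by
        apply Opens.ext
        rw [h]
        rfl)
      rw [hT'eq, ← hae 0, h1, map_one, Scheme.basicOpen_one]
      rfl

theorem connectedSpace_iff_of_homToFormalBijective
    (hbij : Lef.HomToFormalBijective J (Coh.structureModule U)) :
    ConnectedSpace U ↔ _root_.IsConnected (J.support : Set U) :=
  ⟨fun _ => isConnected_support_of_connectedSpace J hbij,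
    connectedSpace_of_isConnected_support J hbij⟩

end Core

section Main

variable {X : Scheme.{u}}

/-- **connectedness of neighbourhoods under the Lefschetz condition** -/
theorem connected_nhd_iff_of_lefCond (𝓘 : X.IdealSheafData) (h : Lef.LefCond X 𝓘) (U : X.Opens)
    (hU : (𝓘.support : Set X) ⊆ (U : Set X)) :
    ConnectedSpace (𝓘.support : Set X) ↔ ConnectedSpace U := by
  have hflf : FlatMod.IsFinLocFree (Coh.structureModule (↑U : Scheme.{u})) :=
    InvInv2.isFinLocFree_of_isInvertible GenLoc.isInvertible_O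
  have hbij := h U hU _ hflf
  have hcore := connectedSpace_iff_of_homToFormalBijective (𝓘.comap U.ι) hbij
  have hsupp : ((𝓘.comap U.ι).support : Set (↑U : Scheme.{u})) = U.ι ⁻¹' (𝓘.support : Set X) := by
    rw [Scheme.IdealSheafData.support_comap]
    rfl
  have himg : U.ι '' (U.ι ⁻¹' (𝓘.support : Set X)) = (𝓘.support : Set X) := by
    rw [Set.image_preimage_eq_inter_range, Scheme.Opens.range_ι]
    exact Set.inter_eq_left.mpr hU
  rw [← isConnected_iff_connectedSpace]
  change _ ↔ ConnectedSpace (↑U : Scheme.{u})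
  rw [hcore, hsupp]
  have hind : Topology.IsInducing U.ι := U.ι.isOpenEmbedding.isInducing
  constructor
  · intro hc
    rw [← himg] at hc
    exact ⟨(Set.image_nonempty.1 hc.nonempty), (hind.isPreconnected_image).1 hc.isPreconnected⟩
  · intro hc
    rw [← himg]
    exact ⟨hc.nonempty.image _, (hind.isPreconnected_image).2 hc.isPreconnected⟩

end Main

end Groth.Agent.Helper2.LefConn
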