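import Mathlib
import Groth.Prelude
import Groth.Agent.Lib.Helper7.GeomConn.GlobSec
import Groth.Agent.Lib.Helper7.GeomConn.ArtinIdem
import Groth.Agent.Lib.Helper2.Dual.LefConn

/-!
# Formal functions along a connected closed subscheme of a proper scheme form a local ring (helper2)

* `exists_sub_isNilpotent`: in a finite algebra without nontrivial idempotents over an algebraically
  closed field every element is a constant plus a nilpotent;
* `isUnit_of_forall_isUnit`: an element of a limit of commutative rings all of whose components are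
  units is a unit;
* `main`: the ring `lim Γ(Y_m, O)` is local with residue field `k`.
-/

set_option autoImplicit false
set_option backward.isDefEq.respectTransparency.types false
set_option synthInstance.maxHeartbeats 400000
set_option maxHeartbeats 4000000
set_option linter.style.haveILetI false
set_option linter.unusedSectionVars false

universe u

namespace Groth.Agent.Helper2.FormalLocal

open CategoryTheory CategoryTheory.Limits AlgebraicGeometry TopologicalSpace Opposite

section Alg

variable (k : Type u) [Field k] [IsAlgClosed k]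

theorem exists_sub_isNilpotent {B : Type u} [CommRing B] [Algebra k B] [Module.Finite k B]
    [Nontrivial B] (hidem : ∀ e : B, IsIdempotentElem e → e = 0 ∨ e = 1) (b : B) :
    ∃ c : k, IsNilpotent (b - algebraMap k B c) := by
  haveI : IsArtinianRing B := IsArtinianRing.of_finite k B
  obtain ⟨c, hc⟩ := spectrum.nonempty_of_isAlgClosed_of_finiteDimensional k b
  refine ⟨c, ?_⟩
  rcases Groth.Agent.Helper7.GeomConn.isNilpotent_or_isUnit_of_artinian hidem
    (b - algebraMap k B c) with h | h
  · exact h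
  · exfalso
    rw [spectrum.mem_iff] at hc
    apply hc
    have := h.neg
    rwa [neg_sub] at this

end Alg

section Lim

variable {J : Type} [SmallCategory J] (F : J ⥤ CommRingCat.{u})

theorem isUnit_of_forall_isUnit (a : ↑(limit F))
    (h : ∀ j, IsUnit ((limit.π F j).hom a)) : IsUnit a := by
  let E := (forget CommRingCat.{u}).mapCone (limit.cone F)
  have hE : IsLimit E := isLimitOfPreserves _ (limit.isLimit F)
  choose c hc using fun j => (h j).exists_right_inv
  have hcompat : ∀ {j j' : J} (f : j ⟶ j'), (F.map f).hom (c j) = c j' := by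
    intro j j' f
    have h1 : (F.map f).hom ((limit.π F j).hom a) = (limit.π F j').hom a := by
      have := limit.w F f
      rw [← this]
      rfl
    have h2 : (limit.π F j').hom a * (F.map f).hom (c j) = 1 := by
      rw [← h1, ← map_mul, hc j, map_one]
    calc (F.map f).hom (c j) = (F.map f).hom (c j) * ((limit.π F j').hom a * c j') := by
          rw [hc j', mul_one]
      _ = ((limit.π F j').hom a * (F.map f).hom (c j)) * c j' := by ring
      _ = c j' := by rw [h2, one_mul]
  let s : (F ⋙ forget CommRingCat.{u}).sections := ⟨fun j => c j, fun f => hcompat f⟩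
  let b : ↑(limit F) := (Types.isLimitEquivSections hE).symm s
  have hb : ∀ j, (limit.π F j).hom b = c j := fun j =>
    Types.isLimitEquivSections_symm_apply hE s j
  refine IsUnit.of_mul_eq_one b ?_
  apply Concrete.limit_ext F
  intro j
  change (limit.π F j).hom (a * b) = (limit.π F j).hom 1
  rw [map_mul, map_one, hb j, hc j]

end Lim

section Main

open Groth.Agent.Helper7.GeomConn

variable (k : Type u) [Field k] [IsAlgClosed k] (X : Scheme.{u}) [X.Over (Spec (CommRingCat.of k))]
  [IsProper (X ↘ (Spec (CommRingCat.of k)))] (𝓘 : X.IdealSheafData)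

/-- the structure morphism of the `m`-th infinitesimal neighbourhood -/
noncomputable abbrev fm (m : ℕ) : (𝓘 ^ (m + 1)).subscheme ⟶ Spec (CommRingCat.of k) :=
  (𝓘 ^ (m + 1)).subschemeι ≫ (X ↘ Spec (CommRingCat.of k))

theorem connectedSpace_Ym (hY : _root_.IsConnected (𝓘.support : Set X)) (m : ℕ) :
    ConnectedSpace ↥((𝓘 ^ (m + 1)).subscheme) := by
  have h1 : _root_.IsConnected (Set.range (𝓘 ^ (m + 1)).subschemeι) := by
    rw [Groth.Agent.Helper2.LefConn.range_pow_subschemeι]
    exact hY
  have hf : Topology.IsInducing ((𝓘 ^ (m + 1)).subschemeι : ↥((𝓘 ^ (m + 1)).subscheme) → X) :=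
    ((𝓘 ^ (m + 1)).subschemeι).isEmbedding.isInducing
  rw [connectedSpace_iff_univ]
  refine ⟨?_, ?_⟩
  · obtain ⟨c, a, rfl⟩ := h1.nonempty
    exact ⟨a, trivial⟩
  · rw [← hf.isPreconnected_image, Set.image_univ]
    exact h1.isPreconnected

theorem idem_trivial (hY : _root_.IsConnected (𝓘.support : Set X)) (m : ℕ)
    (e : Γ((𝓘 ^ (m + 1)).subscheme, ⊤)) (he : IsIdempotentElem e) : e = 0 ∨ e = 1 := by
  haveI := connectedSpace_Ym X 𝓘 hY m
  have hcl := H9FE.isClopen_basicOpen_of_idem e he
  rcases isClopen_iff.mp hcl with h | h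
  · left
    apply Groth.Agent.Helper2.LefConn.idem_eq_zero_of_basicOpen_eq_bot e he
    apply Opens.ext
    rw [h]
    rfl
  · right
    apply H9FE.eq_one_of_idem_of_basicOpen_eq_top e he
    apply Opens.ext
    rw [h]
    rfl

theorem exists_const (hY : _root_.IsConnected (𝓘.support : Set X)) (m : ℕ)
    (b : Γ((𝓘 ^ (m + 1)).subscheme, ⊤)) :
    ∃ c : k, IsNilpotent (b - toΓ k _ (fm k X 𝓘 m) c) := by
  letI a1 : Algebra k Γ((𝓘 ^ (m + 1)).subscheme, ⊤) := (toΓ k _ (fm k X 𝓘 m)).toAlgebra
  haveI : IsProper (fm k X 𝓘 m) := inferInstance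
  haveI : Module.Finite k Γ((𝓘 ^ (m + 1)).subscheme, ⊤) :=
    finite_globalSections k _ (fm k X 𝓘 m)
  haveI := connectedSpace_Ym X 𝓘 hY m
  haveI : Nonempty (⊤ : ((𝓘 ^ (m + 1)).subscheme).Opens) :=
    ⟨⟨Classical.arbitrary ↥((𝓘 ^ (m + 1)).subscheme), trivial⟩⟩
  haveI : Nontrivial Γ((𝓘 ^ (m + 1)).subscheme, ⊤) := Scheme.component_nontrivial _ ⊤
  exact exists_sub_isNilpotent k (idem_trivial X 𝓘 hY m) b

/-- the transition maps are compatible with the structure maps from `k` -/
theorem trans_toΓ (m : ℕ) (c : k) :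
    (Scheme.IdealSheafData.inclusion (Lef.pow_succ_le 𝓘 m)).appTop.hom
      (toΓ k _ (fm k X 𝓘 (m + 1)) c) = toΓ k _ (fm k X 𝓘 m) c := by
  have h : fm k X 𝓘 m = Scheme.IdealSheafData.inclusion (Lef.pow_succ_le 𝓘 m) ≫
      fm k X 𝓘 (m + 1) := by
    unfold fm
    rw [← Category.assoc, Scheme.IdealSheafData.inclusion_subschemeι]
  unfold toΓ
  rw [h, Scheme.Hom.comp_appTop]
  rfl

/-- the inverse system of rings of functions on the infinitesimal neighbourhoods -/
noncomputable abbrev sys : ℕᵒᵖ ⥤ CommRingCat.{u} :=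
  Functor.ofOpSequence (X := fun m : ℕ => Γ((𝓘 ^ (m + 1)).subscheme, ⊤))
    (fun m : ℕ => (Scheme.IdealSheafData.inclusion (Lef.pow_succ_le 𝓘 m)).appTop)

/-- the projection of the limit to the `m`-th level -/
noncomputable def proj (m : ℕ) : ↑(limit (sys X 𝓘)) →+* Γ((𝓘 ^ (m + 1)).subscheme, ⊤) :=
  (limit.π (sys X 𝓘) (op m)).hom

theorem π_succ (m : ℕ) (a : ↑(limit (sys X 𝓘))) :
    (Scheme.IdealSheafData.inclusion (Lef.pow_succ_le 𝓘 m)).appTop.hom
      (proj X 𝓘 (m + 1) a) = proj X 𝓘 m a := by
  have h := limit.w (sys X 𝓘) (homOfLE (Nat.le_add_right m 1)).op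
  rw [Functor.ofOpSequence_map_homOfLE_succ] at h
  unfold proj
  rw [← h]
  rfl

theorem main (hY : _root_.IsConnected (𝓘.support : Set X)) :
    IsLocalRing ↑(limit (sys X 𝓘)) ∧
      ∀ a : ↑(limit (sys X 𝓘)), ∃ c : k, ∀ m : ℕ,
        IsNilpotent (proj X 𝓘 m a - toΓ k _ (fm k X 𝓘 m) c) := by
  have hnt : ∀ m : ℕ, Nontrivial Γ((𝓘 ^ (m + 1)).subscheme, ⊤) := by
    intro m
    haveI := connectedSpace_Ym X 𝓘 hY m
    haveI : Nonempty (⊤ : ((𝓘 ^ (m + 1)).subscheme).Opens) :=
      ⟨⟨Classical.arbitrary ↥((𝓘 ^ (m + 1)).subscheme), trivial⟩⟩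
    exact Scheme.component_nontrivial _ ⊤
  -- the constants
  have hconst : ∀ a : ↑(limit (sys X 𝓘)), ∃ c : k, ∀ m : ℕ,
      IsNilpotent (proj X 𝓘 m a - toΓ k _ (fm k X 𝓘 m) c) := by
    intro a
    choose c hc using fun m => exists_const k X 𝓘 hY m (proj X 𝓘 m a)
    have hstep : ∀ m, c (m + 1) = c m := by
      intro m
      haveI := hnt m
      by_contra hne
      have h1 : IsNilpotent (proj X 𝓘 m a -
          toΓ k _ (fm k X 𝓘 m) (c (m + 1))) := by
        have := (hc (m + 1)).map (Scheme.IdealSheafData.inclusion (Lef.pow_succ_le 𝓘 m)).appTop.hom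
        rwa [map_sub, π_succ, trans_toΓ] at this
      have h2 := (Commute.all _ _).isNilpotent_sub (hc m) h1
      have h3 : proj X 𝓘 m a - toΓ k _ (fm k X 𝓘 m) (c m) -
          (proj X 𝓘 m a - toΓ k _ (fm k X 𝓘 m) (c (m + 1))) =
          toΓ k _ (fm k X 𝓘 m) (c (m + 1) - c m) := by
        rw [map_sub]
        ring
      rw [h3] at h2
      have hu : IsUnit (c (m + 1) - c m) := (sub_ne_zero.mpr hne).isUnit
      exact (hu.map (toΓ k _ (fm k X 𝓘 m))).not_isNilpotent h2
    have hall : ∀ m, c m = c 0 := by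
      intro m
      induction m with
      | zero => rfl
      | succ m ih => rw [hstep m, ih]
    refine ⟨c 0, fun m => ?_⟩
    rw [← hall m]
    exact hc m
  refine ⟨?_, hconst⟩
  haveI := hnt 0
  haveI : Nontrivial ↑(limit (sys X 𝓘)) :=
    RingHom.domain_nontrivial (proj X 𝓘 0)
  apply IsLocalRing.of_isUnit_or_isUnit_one_sub_self
  intro a
  obtain ⟨c, hc⟩ := hconst a
  by_cases h0 : c = 0
  · right
    apply isUnit_of_forall_isUnit
    intro j
    have h1 := hc (unop j)
    rw [h0, map_zero, sub_zero] at h1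
    change IsUnit (proj X 𝓘 (unop j) (1 - a))
    rw [map_sub, map_one]
    exact h1.isUnit_one_sub
  · left
    apply isUnit_of_forall_isUnit
    intro j
    have h1 := hc (unop j)
    have hu : IsUnit (toΓ k _ (fm k X 𝓘 (unop j)) c) := (Ne.isUnit h0).map _
    have := h1.isUnit_add_right_of_commute hu (Commute.all _ _)
    rw [sub_add_cancel] at this
    exact this

end Main

end Groth.Agent.Helper2.FormalLocal
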