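import Mathlib
import Groth.Prelude
import Groth.Agent.Lib.Helper2.Dual.ZeroPull
import Groth.Agent.Lib.Helper1.Curve1
import Groth.Agent.Lib.Helper4.Japanese2
import Groth.Agent.Lib.Helper4.NormalizationField3
import Groth.Agent.Lib.Helper4.IntegralDim
import Groth.Agent.Lib.Helper1.VA5

/-!
# Connectedness of ample divisors on integral proper schemes, via the normalization (helper2)

* `support_pullSec'`: the support of the zero scheme of a pulled back section which stays regular;
* `pullSec_ne_zero`: pulling back a regular section along a surjective morphism of integral schemes;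
* `connectedSpace_zeroScheme_of_isIntegral`: the main theorem.
-/

set_option autoImplicit false
set_option backward.isDefEq.respectTransparency.types false
set_option synthInstance.maxHeartbeats 400000
set_option maxHeartbeats 4000000
set_option linter.style.haveILetI false
set_option linter.unusedSectionVars false

universe u

namespace Groth.Agent.Helper2.ZeroPull

open CategoryTheory CategoryTheory.Limits AlgebraicGeometry LocCoh TopologicalSpace Opposite
open Groth.Agent.Helper1 Groth.Agent.Helper1.LGen Groth.Agent.Helper1.QcCech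
open Groth.Agent.Helper1.PullSec Groth.Agent.Lead.MeroL

variable {X Y : Scheme.{u}} (g : Y ⟶ X) {L : X.Modules}

/-- the support of the zero scheme of the pulled back section, when it stays regular -/
theorem support_pullSec' [IsAffineHom g] (hL : PicF.IsInvertible L)
    (s : Coh.structureModule X ⟶ L) [Mono s] [Mono (pullSec g s)] :
    ((PicF2.zeroScheme ((Scheme.Modules.pullback g).obj L) (pullSec g s)).support : Set Y) =
      g ⁻¹' ((PicF2.zeroScheme L s).support : Set X) := by
  ext y
  obtain ⟨W, a, hyW, ha⟩ := exists_isGen hL (g y)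
  obtain ⟨U, hU, hyU, hUW⟩ := exists_isAffineOpen_mem_and_subset (U := W) (x := g y) hyW
  have he : IsGen L U (res L hUW a) := ha.res hUW
  obtain ⟨c, hc⟩ := he.exists_coeff (secVal s U)
  have hV : IsAffineOpen (g ⁻¹ᵁ U) := hU.preimage g
  have he' : IsGen ((Scheme.Modules.pullback g).obj L) (g ⁻¹ᵁ U) (σ g L U (res L hUW a)) :=
    PullGen.isGen_σ g he
  have hc' : secVal (pullSec g s) (g ⁻¹ᵁ U) = (g.app U).hom c • σ g L U (res L hUW a) := by
    rw [secVal_pullSec, ← hc, σ_smul]
  have h1 := mem_support_zeroScheme_iff hL s ⟨U, hU⟩ he c hc.symm (g y) hyU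
  have h2 := mem_support_zeroScheme_iff (PullGen.isInvertible_pullback g hL) (pullSec g s)
    ⟨g ⁻¹ᵁ U, hV⟩ he' _ hc' y hyU
  change y ∈ (PicF2.zeroScheme ((Scheme.Modules.pullback g).obj L) (pullSec g s)).support ↔
    g y ∈ (PicF2.zeroScheme L s).support
  rw [h1, h2, ← Scheme.preimage_basicOpen]
  rfl

/-- pulling back a regular section along a surjective morphism to an integral scheme gives a
nonzero section -/
theorem pullSec_ne_zero [IsIntegral X] [Surjective g] (hL : PicF.IsInvertible L)
    (s : Coh.structureModule X ⟶ L) [Mono s] : pullSec g s ≠ 0 := by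
  intro h0
  obtain ⟨W, e, hxW, he⟩ := exists_isGen hL (genericPoint X)
  haveI : Nonempty W := ⟨⟨_, hxW⟩⟩
  obtain ⟨c, hc⟩ := he.exists_coeff (secVal s W)
  have hcne : c ≠ 0 := by
    intro h
    rw [h, zero_smul] at hc
    have h1 : (1 : Γ(X, W)) • secVal s W = 0 := by rw [← hc, smul_zero]
    exact one_ne_zero (Groth.Agent.Helper2.ZeroConn.eq_zero_of_smul_secVal_eq_zero s W 1 h1)
  have he' : IsGen ((Scheme.Modules.pullback g).obj L) (g ⁻¹ᵁ W) (σ g L W e) :=
    PullGen.isGen_σ g he
  have h2 : secVal (pullSec g s) (g ⁻¹ᵁ W) = (g.app W).hom c • σ g L W e := by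
    rw [secVal_pullSec, ← hc, σ_smul]
  have h3 : secVal (pullSec g s) (g ⁻¹ᵁ W) = 0 := by
    rw [h0]
    rfl
  have h4 : (g.app W).hom c = 0 := by
    apply (Groth.Agent.Helper1.TensGen.IsGen.bijective_self he').1
    change (g.app W).hom c • σ g L W e = (0 : Γ(Y, g ⁻¹ᵁ W)) • σ g L W e
    rw [zero_smul, ← h2, h3]
  have h5 : g ⁻¹ᵁ X.basicOpen c = ⊥ := by
    rw [Scheme.preimage_basicOpen]
    have : (g.app W) c = 0 := h4
    rw [this, Scheme.basicOpen_zero]
  have h6 : X.basicOpen c = ⊥ := by
    ext x
    simp only [Opens.coe_bot, Set.mem_empty_iff_false, iff_false]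
    intro hx
    obtain ⟨y, rfl⟩ := g.surjective x
    have : y ∈ g ⁻¹ᵁ X.basicOpen c := hx
    rw [h5] at this
    exact this
  exact hcne ((AlgebraicGeometry.basicOpen_eq_bot_iff c).1 h6)

/-- **connectedness of ample divisors on integral proper schemes of dimension at least two** over a
field -/
theorem connectedSpace_zeroScheme_of_isIntegral (k : Type u) [Field k]
    (f : X ⟶ Spec (CommRingCat.of k)) [IsProper f] [IsIntegral X]
    (hdim : (2 : WithBot ℕ∞) ≤ topologicalKrullDim X) (hL : CohB1.IsAmple L)
    (s : Coh.structureModule X ⟶ L) [Mono s] :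
    ConnectedSpace ↥(PicF2.zeroScheme L s).subscheme := by
  -- the normalization
  let K : Type u := X.functionField
  let φ : X.functionField →+* K := RingHom.id _
  have hφ : φ.Finite := RingHom.Finite.id _
  let g : Spec (CommRingCat.of K) ⟶ X :=
    Spec.map (CommRingCat.ofHom φ) ≫ X.fromSpecStalk (genericPoint X)
  have hg : g = Spec.map (CommRingCat.ofHom φ) ≫ X.fromSpecStalk (genericPoint X) := rfl
  haveI : QuasiCompact g := inferInstance
  haveI : QuasiSeparated g := inferInstance
  obtain ⟨hNint, hnormal, -, -, -, -⟩ :=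
    Groth.Agent.Lib.Helper4.NormalizationField3.S4448_main X K φ g hg
  have hKf : IsField (CommRingCat.of K) := (inferInstance : Field K).toIsField
  have hgpt : ∀ t, g t = genericPoint X := by
    intro t
    rw [hg]
    exact Groth.Agent.Lib.Helper4.NormalizationField1.fromSpecStalk_genericPoint_apply X _
  haveI hfin : IsFinite g.fromNormalization :=
    Groth.Agent.Lib.Helper4.Japanese2.isFinite_fromNormalization_of_field k X f K φ hφ g hg
  haveI hsurj : Surjective g.fromNormalization :=
    Groth.Agent.Lib.Helper4.NormalizationField1.surjective_fromNormalization _ hKf g hgpt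
  set N := g.normalization with hN
  set ν : N ⟶ X := g.fromNormalization with hν
  have hdimN : (2 : WithBot ℕ∞) ≤ topologicalKrullDim N := by
    rw [(Groth.Agent.Lib.Helper4.IntegralDim.S4717_main ν).2 ν.surjective]
    exact hdim
  letI : N.Over (Spec (CommRingCat.of k)) := ⟨ν ≫ f⟩
  haveI : IsProper (N ↘ (Spec (CommRingCat.of k))) := inferInstanceAs (IsProper (ν ≫ f))
  have hampN : CohB1.IsAmple ((Scheme.Modules.pullback ν).obj L) :=
    Groth.Agent.Helper1.AmpleDev.isAmple_pullback_of_isFinite k f (ν ≫ f) ν hL.1 hL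
  haveI : Mono (pullSec ν s) :=
    Groth.Agent.Helper1.Curve.mono_of_ne_zero
      (Groth.Agent.Helper1.GenLoc.isInvertible_O (X := N)) hampN.1 (pullSec ν s)
      (pullSec_ne_zero ν hL.1 s)
  have hdepth : ∀ y : N, IsClosed ({y} : Set N) →
      2 ≤ depth (N.presheaf.stalk y) (N.presheaf.stalk y) := fun y hy =>
    two_le_depth_stalk k (ν ≫ f) hnormal hdimN y hy
  haveI : ConnectedSpace ↥(PicF2.zeroScheme ((Scheme.Modules.pullback ν).obj L)
      (pullSec ν s)).subscheme :=
    Groth.Agent.Helper2.ZeroConn.connectedSpace_zeroScheme k hampN (pullSec ν s) hdepth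
  refine Groth.Agent.Helper2.ZeroConn.connectedSpace_of_range_eq
    (f := ⇑(PicF2.zeroScheme L s).subschemeι)
    (g := ⇑ν ∘ ⇑(PicF2.zeroScheme ((Scheme.Modules.pullback ν).obj L) (pullSec ν s)).subschemeι)
    (PicF2.zeroScheme L s).subschemeι.isEmbedding.isInducing
    (ν.continuous.comp
      (PicF2.zeroScheme ((Scheme.Modules.pullback ν).obj L) (pullSec ν s)).subschemeι.continuous) ?_
  rw [Set.range_comp, Scheme.IdealSheafData.range_subschemeι,
    Scheme.IdealSheafData.range_subschemeι, support_pullSec' ν hL.1 s,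
    Set.image_preimage_eq _ ν.surjective]

end Groth.Agent.Helper2.ZeroPull
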